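import Cfsg.Agent.Lib.DihedralBGroup.OddPart

/-!
# Primitive schemes on dihedral groups are trivial

* `isTrivial` : all nonidentity elements of a primitive scheme form one class
-/

set_option autoImplicit false

namespace Cfsg.Agent.DihedralBGroup

open DihedralGroup Finset

variable {m : ℕ} [NeZero m]

theorem exists_prime_mul (K : (ZMod m)ˣ) (B : ℕ) :
    ∃ q, q.Prime ∧ B < q ∧ q ≠ 2 ∧ ¬ q ∣ m ∧ ∀ y : ZMod m, q • y = (K : ZMod m) * y := by
  obtain ⟨q, hqB, hq, hqK⟩ := Nat.forall_exists_prime_gt_and_eq_mod (q := m) K.isUnit (B + m + 2)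
  have hm0 : 0 < m := NeZero.pos m
  exact ⟨q, hq, by omega, by omega, fun h => absurd (Nat.le_of_dvd hm0 h) (by omega),
    fun y => by rw [nsmul_eq_cast_mul, hqK]⟩

theorem lift_sgn_emb {q : ℕ} [Fact q.Prime] (f : DihedralGroup m → ℤ) :
    MonoidAlgebra.lift (ZMod q) (ZMod q) (DihedralGroup m)
        ((Int.castRingHom (ZMod q)).toMonoidHom.comp sgn) (emb f) =
      ((∑ t, f t * sgn t : ℤ) : ZMod q) := by
  rw [emb, map_sum, Int.cast_sum]
  exact sum_congr rfl fun t _ => by simp [MonoidAlgebra.lift_single]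

namespace Scheme

variable (𝔖 : Scheme m)

theorem perm (K : (ZMod m)ˣ) {i j : ZMod m} (h : 𝔖.R (r i) (r j)) :
    𝔖.R (r ((K : ZMod m) * i)) (r ((K : ZMod m) * j)) := by
  obtain ⟨q, hq, -, hq2, hqm, hqK⟩ := exists_prime_mul K⁻¹ 0
  haveI := Fact.mk hq
  set f := 𝔖.ind (r ((K : ZMod m) * i)) with hf
  obtain ⟨G, hG, -, hGv⟩ := 𝔖.pow_twist hq hq2 hqm (𝔖.inS_ind (r ((K : ZMod m) * i)))
  have h1 := hGv ((K : ZMod m) * i)
  have h2 := hGv ((K : ZMod m) * j)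
  rw [hqK, Units.inv_mul_cancel_left] at h1 h2
  rw [hG _ _ h, h2] at h1
  unfold Scheme.ind at h1
  rw [if_pos (𝔖.rfl' _)] at h1
  by_contra hc
  rw [if_neg hc] at h1
  simp at h1

theorem perm_iff (K : (ZMod m)ˣ) {i j : ZMod m} :
    𝔖.R (r ((K : ZMod m) * i)) (r ((K : ZMod m) * j)) ↔ 𝔖.R (r i) (r j) := by
  refine ⟨fun h => ?_, 𝔖.perm K⟩
  have := 𝔖.perm K⁻¹ h
  rwa [Units.inv_mul_cancel_left, Units.inv_mul_cancel_left] at this

theorem sizes (hm : 2 ≤ m) (K : (ZMod m)ˣ) (i : ZMod m) :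
    (𝔖.X (r ((K : ZMod m) * i))).card = (𝔖.X (r i)).card ∧
      (𝔖.Y (r ((K : ZMod m) * i))).card = (𝔖.Y (r i)).card := by
  classical
  have hX : (𝔖.X (r ((K : ZMod m) * i))).card = (𝔖.X (r i)).card := by
    refine card_bij' (fun x _ => ((K⁻¹ : (ZMod m)ˣ) : ZMod m) * x) (fun x _ => (K : ZMod m) * x)
      ?_ ?_ ?_ ?_
    · intro x hx
      rw [𝔖.mem_X] at hx ⊢
      have := 𝔖.perm K⁻¹ hx
      rwa [Units.inv_mul_cancel_left] at this
    · intro x hx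
      rw [𝔖.mem_X] at hx ⊢
      exact 𝔖.perm K hx
    · intro x _; simp [← mul_assoc]
    · intro x _; simp [← mul_assoc]
  refine ⟨hX, ?_⟩
  obtain ⟨q, hq, hqB, hq2, hqm, hqK⟩ := exists_prime_mul K (4 * m)
  haveI := Fact.mk hq
  obtain ⟨G, hG, hGe, hGv⟩ := 𝔖.pow_twist hq hq2 hqm (𝔖.inS_ind (r i))
  have hGf : (emb G : MonoidAlgebra (ZMod q) (DihedralGroup m)) =
      emb (𝔖.ind (r ((K : ZMod m) * i))) := by
    ext h
    obtain ⟨z, hz⟩ := 𝔖.exists_r hm h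
    rw [coeff_emb, coeff_emb, hG _ _ hz, 𝔖.inS_ind _ _ _ hz]
    obtain ⟨y, rfl⟩ : ∃ y, (K : ZMod m) * y = z :=
      ⟨((K⁻¹ : (ZMod m)ˣ) : ZMod m) * z, by rw [Units.mul_inv_cancel_left]⟩
    rw [← hqK y, hGv, hqK y]
    unfold Scheme.ind
    by_cases h' : 𝔖.R (r i) (r y)
    · rw [if_pos h', if_pos (𝔖.perm K h')]
    · rw [if_neg h', if_neg fun h'' => h' ((𝔖.perm_iff K).1 h'')]
  have h := congrArg (MonoidAlgebra.lift (ZMod q) (ZMod q) (DihedralGroup m)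
    ((Int.castRingHom (ZMod q)).toMonoidHom.comp sgn)) hGe
  rw [map_pow, hGf, lift_sgn_emb, lift_sgn_emb, ZMod.pow_card, sum_sgn, sum_sgn, 𝔖.sum_ind_r,
    𝔖.sum_ind_sr, 𝔖.sum_ind_r, 𝔖.sum_ind_sr, ZMod.intCast_eq_intCast_iff_dvd_sub] at h
  have hb : ∀ s : DihedralGroup m, (𝔖.X s).card ≤ m ∧ (𝔖.Y s).card ≤ m := fun s => by
    have h1 := card_le_univ (𝔖.X s)
    have h2 := card_le_univ (𝔖.Y s)
    rw [ZMod.card] at h1 h2
    exact ⟨h1, h2⟩
  obtain ⟨h1, h2⟩ := hb (r i)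
  obtain ⟨h3, h4⟩ := hb (r ((K : ZMod m) * i))
  rw [hX] at h
  have h5 : (((𝔖.X (r i)).card : ℤ) - (𝔖.Y (r ((K : ZMod m) * i))).card) -
      (((𝔖.X (r i)).card : ℤ) - (𝔖.Y (r i)).card) = 0 :=
    Int.eq_zero_of_abs_lt_dvd h (by
      rw [abs_lt]
      constructor <;> omega)
  omega

/-- The coarsest rational scheme containing a given one. -/
def coarse (hm : 2 ≤ m) : Scheme m where
  R x y := ∃ i : ZMod m, ∃ K : (ZMod m)ˣ, 𝔖.R x (r i) ∧ 𝔖.R y (r ((K : ZMod m) * i))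
  rfl' x := by
    obtain ⟨i, hi⟩ := 𝔖.exists_r hm x
    exact ⟨i, 1, hi, by rwa [Units.val_one, one_mul]⟩
  symm' := fun {x y} => by
    rintro ⟨i, K, hx, hy⟩
    exact ⟨(K : ZMod m) * i, K⁻¹, hy, by rwa [Units.inv_mul_cancel_left]⟩
  trans' := fun {x y z} => by
    rintro ⟨i, K, hx, hy⟩ ⟨i', K', hy', hz⟩
    refine ⟨i, K' * K, hx, 𝔖.trans' hz ?_⟩
    rw [Units.val_mul, mul_assoc]
    exact 𝔖.perm K' (𝔖.trans' (𝔖.symm' hy') hy)
  eq_one := fun {x} => by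
    rintro ⟨i, K, hx, hy⟩
    have h1 := 𝔖.eq_one (𝔖.symm' hy)
    rw [one_def] at h1
    have hi : i = 0 := (Units.mul_right_eq_zero K).1 (r.inj h1)
    subst hi
    rw [r_zero] at hx
    exact 𝔖.eq_one hx
  inv' x := by
    obtain ⟨i, hi⟩ := 𝔖.exists_r hm x
    exact ⟨i, 1, hi, by rw [Units.val_one, one_mul]; exact 𝔖.trans' (𝔖.symm' (𝔖.inv' x)) hi⟩
  conv' f g hf hg x y := by
    rintro ⟨i, K, hx, hy⟩
    have hsub : ∀ {F : DihedralGroup m → ℤ}, (∀ x y, (∃ i : ZMod m, ∃ K : (ZMod m)ˣ,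
        𝔖.R x (r i) ∧ 𝔖.R y (r ((K : ZMod m) * i))) → F x = F y) → 𝔖.InS F := by
      intro F hF a b hab
      obtain ⟨z, hz⟩ := 𝔖.exists_r hm a
      exact hF a b ⟨z, 1, hz, by rw [Units.val_one, one_mul]; exact 𝔖.trans' (𝔖.symm' hab) hz⟩
    have hfS : 𝔖.InS f := hsub hf
    have hgS : 𝔖.InS g := hsub hg
    have hh := 𝔖.inS_conv hfS hgS
    set h := conv f g with hhdef
    rw [hh _ _ hx, hh _ _ hy]
    obtain ⟨q, hq, hqB, hq2, hqm, hqK⟩ :=
      exists_prime_mul K (h (r ((K : ZMod m) * i)) - h (r i)).natAbs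
    haveI := Fact.mk hq
    have hfix : ∀ {F : DihedralGroup m → ℤ}, 𝔖.InS F →
        (∀ y, F (r ((K : ZMod m) * y)) = F (r y)) →
        (emb F : MonoidAlgebra (ZMod q) (DihedralGroup m)) ^ q = emb F := by
      intro F hFS hF
      obtain ⟨G, hG, hGe, hGv⟩ := 𝔖.pow_twist hq hq2 hqm hFS
      rw [hGe]
      ext a
      obtain ⟨z, hz⟩ := 𝔖.exists_r hm a
      obtain ⟨w, rfl⟩ : ∃ w, (K : ZMod m) * w = z :=
        ⟨((K⁻¹ : (ZMod m)ˣ) : ZMod m) * z, by rw [Units.mul_inv_cancel_left]⟩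
      rw [coeff_emb, coeff_emb, hG _ _ hz, hFS _ _ hz, ← hqK w, hGv, hqK w, hF w]
    have hfK : ∀ y, f (r ((K : ZMod m) * y)) = f (r y) := fun y =>
      (hf _ _ ⟨y, K, 𝔖.rfl' _, 𝔖.rfl' _⟩).symm
    have hgK : ∀ y, g (r ((K : ZMod m) * y)) = g (r y) := fun y =>
      (hg _ _ ⟨y, K, 𝔖.rfl' _, 𝔖.rfl' _⟩).symm
    obtain ⟨G, hG, hGe, hGv⟩ := 𝔖.pow_twist hq hq2 hqm hh
    have hcomm : Commute (emb f : MonoidAlgebra (ZMod q) (DihedralGroup m)) (emb g) := by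
      rw [commute_iff_eq, emb_mul, emb_mul, 𝔖.conv_comm hfS hgS]
    have h1 : (emb h : MonoidAlgebra (ZMod q) (DihedralGroup m)) ^ q = emb h := by
      rw [hhdef, ← emb_mul, hcomm.mul_pow, hfix hfS hfK, hfix hgS hgK]
    rw [hGe] at h1
    have h2 := congrArg (fun Z => MonoidAlgebra.coeff Z (r ((K : ZMod m) * i))) h1
    simp only [coeff_emb] at h2
    rw [← hqK i, hGv i, hqK i] at h2
    have h3 := (ZMod.intCast_eq_intCast_iff_dvd_sub _ _ _).1 h2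
    by_contra hne
    have h4 := Nat.le_of_dvd (Int.natAbs_pos.2 (sub_ne_zero.2 (Ne.symm hne))) (Int.natCast_dvd.1 h3)
    omega
  gen O hO hne := 𝔖.gen O (fun x hx y hxy => hO x hx y (by
    obtain ⟨i, hi⟩ := 𝔖.exists_r hm x
    exact ⟨i, 1, hi, by rw [Units.val_one, one_mul]; exact 𝔖.trans' (𝔖.symm' hxy) hi⟩)) hne

theorem coarse_isRat (hm : 2 ≤ m) : (𝔖.coarse hm).IsRat := fun K i =>
  ⟨i, K, 𝔖.rfl' _, 𝔖.rfl' _⟩

theorem rational_trivial (hm : 2 ≤ m) (hR : 𝔖.IsRat) : 𝔖.IsTrivial := by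
  obtain ⟨ν, O, hO, hmO⟩ := Nat.exists_eq_two_pow_mul_odd (NeZero.ne m)
  rcases eq_or_ne O 1 with h1 | h1
  · subst h1
    rw [mul_one] at hmO
    obtain ⟨n, rfl⟩ : ∃ n, ν = n + 1 := ⟨ν - 1, by
      rcases ν with _ | ν
      · rw [pow_zero] at hmO; omega
      · rfl⟩
    exact 𝔖.trivial_of_two_pow hm hR hmO
  · have hO1 : 1 < O := by
      rcases hO with ⟨k, rfl⟩
      omega
    obtain ⟨q, hq, hq2, hqm, himp⟩ := 𝔖.exists_all_impure hm hR hmO hO hO1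
    exact 𝔖.trivial_of_impure hm hR hq hq2 hqm himp

/-- All nonidentity elements of a primitive scheme on a dihedral group form one class. -/
theorem isTrivial (hm : 2 ≤ m) : 𝔖.IsTrivial := by
  classical
  have htriv := (𝔖.coarse hm).rational_trivial hm (𝔖.coarse_isRat hm)
  haveI : Fact (1 < m) := ⟨hm⟩
  set a := (𝔖.X (r (1 : ZMod m))).card with ha
  set c := (𝔖.Y (r (1 : ZMod m))).card with hc
  have hsize : ∀ y : ZMod m, y ≠ 0 → (𝔖.X (r y)).card = a ∧ (𝔖.Y (r y)).card = c := by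
    intro y hy
    obtain ⟨i, K, h1, h2⟩ := htriv (r (1 : ZMod m)) (r y) (r_ne_one one_ne_zero) (r_ne_one hy)
    obtain ⟨e1, e2⟩ := 𝔖.sizes hm K i
    rw [ha, hc, 𝔖.X_congr h2, 𝔖.Y_congr h2, 𝔖.X_congr h1, 𝔖.Y_congr h1]
    exact ⟨e1, e2⟩
  have hcount : (m - 1) * c = m * a := by
    have h1 : ∑ y ∈ (univ : Finset (ZMod m)).erase 0, (𝔖.Y (r y)).card = (m - 1) * c := by
      rw [sum_congr rfl fun y hy => (hsize y (mem_erase.1 hy).1).2, sum_const,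
        card_erase_of_mem (mem_univ _), card_univ, ZMod.card, smul_eq_mul]
    have h2 : ∑ z : ZMod m, (𝔖.X (sr z)).card = m * a := by
      rw [sum_congr rfl (g := fun _ => a) fun z _ => ?_, sum_const, card_univ, ZMod.card,
        smul_eq_mul]
      have hz : (sr z : DihedralGroup m) ≠ 1 := fun e => by rw [one_def] at e; cases e
      obtain ⟨y, hy⟩ := 𝔖.exists_mem_X hm hz
      rw [𝔖.X_congr (𝔖.mem_X.1 hy)]
      exact (hsize y fun e => 𝔖.zero_notMem_X hz (e ▸ hy)).1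
    rw [← h1, ← h2]
    simp only [Scheme.X, Scheme.Y, card_filter]
    rw [sum_comm]
    refine sum_congr rfl fun z _ => ?_
    rw [sum_subset (erase_subset (0 : ZMod m) univ) fun y _ hy => ?_]
    · refine sum_congr rfl fun y _ => ?_
      by_cases h : 𝔖.R (r y) (sr z)
      · rw [if_pos h, if_pos (𝔖.symm' h)]
      · rw [if_neg h, if_neg fun h' => h (𝔖.symm' h')]
    · refine if_neg fun h => ?_
      have : y = 0 := by simpa using hy
      subst this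
      have := 𝔖.eq_one (𝔖.symm' (r_zero (n := m) ▸ h))
      rw [one_def] at this
      cases this
  have hmc : m ∣ c := by
    refine (Nat.Coprime.dvd_mul_left ?_).1 ⟨a, hcount⟩
    have := Nat.coprime_self_sub_right (show 1 ≤ m by omega)
    exact this.2 (Nat.coprime_one_right m)
  have hc0 : 0 < c := card_pos.2 (𝔖.exists_mem_Y hm (r_ne_one one_ne_zero))
  have hcle : c ≤ m := by
    have h := card_le_univ (𝔖.Y (r (1 : ZMod m)))
    rwa [ZMod.card] at h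
  have hcm : c = m := le_antisymm hcle (Nat.le_of_dvd hc0 hmc)
  have ham : a = m - 1 := by
    rw [hcm, mul_comm] at hcount
    exact (Nat.eq_of_mul_eq_mul_left (by omega) hcount).symm
  have hY : 𝔖.Y (r (1 : ZMod m)) = univ := eq_univ_of_card _ (by rw [← hc, hcm, ZMod.card])
  have hX : 𝔖.X (r (1 : ZMod m)) = univ.erase 0 := by
    refine eq_of_subset_of_card_le (fun x hx => mem_erase.2
      ⟨fun e => 𝔖.zero_notMem_X (r_ne_one one_ne_zero) (e ▸ hx), mem_univ _⟩) ?_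
    rw [card_erase_of_mem (mem_univ _), card_univ, ZMod.card, ← ha, ham]
  have key : ∀ x, x ≠ 1 → 𝔖.R (r (1 : ZMod m)) x := by
    intro x hx
    rcases x with i | i
    · refine 𝔖.mem_X.1 ?_
      rw [hX, mem_erase]
      exact ⟨fun e => hx (by rw [e, r_zero]), mem_univ _⟩
    · exact 𝔖.mem_Y.1 (by rw [hY]; exact mem_univ _)
  exact fun x y hx hy => 𝔖.trans' (𝔖.symm' (key x hx)) (key y hy)

end Scheme

end Cfsg.Agent.DihedralBGroup
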