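import Cfsg.Agent.Lib.DihedralBGroup.Frobenius
import Mathlib.Algebra.MonoidAlgebra.MapDomain
import Mathlib.LinearAlgebra.Matrix.Notation
import Mathlib.Data.Matrix.Basic

/-!
# The rotation and reflection parts of class functions in a commutative group ring

* `ofFun`, `bar`, `ee` : functions on `ZMod m` as elements of the group ring
* `rotPart_conv`, `refPart_conv` : the components of a convolution
* `pow_twist` : a large prime power of a class function modulo that prime
-/

set_option autoImplicit false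

namespace Cfsg.Agent.DihedralBGroup

open DihedralGroup Finset

variable {m : ℕ} [NeZero m] {k : Type*} [CommRing k]

/-- The group ring of `ZMod m`. -/
abbrev GR (k : Type*) [CommRing k] (m : ℕ) := AddMonoidAlgebra k (ZMod m)

/-- A function as an element of the group ring. -/
noncomputable def ofFun (F : ZMod m → ℤ) : GR k m :=
  ∑ y, AddMonoidAlgebra.single y ((F y : ℤ) : k)

/-- A group element in the group ring. -/
noncomputable def ee (y : ZMod m) : GR k m := AddMonoidAlgebra.single y 1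

/-- The inversion of the group ring. -/
noncomputable def bar : GR k m →+* GR k m :=
  AddMonoidAlgebra.mapDomainRingHom k (-AddMonoidHom.id (ZMod m))

theorem coeff_ofFun (F : ZMod m → ℤ) (y : ZMod m) :
    (ofFun F : GR k m).coeff y = (F y : k) := by
  classical
  simp [ofFun, AddMonoidAlgebra.coeff_sum, AddMonoidAlgebra.coeff_single, Finsupp.single_apply]

theorem ee_zero : (ee (0 : ZMod m) : GR k m) = 1 := rfl

omit [NeZero m] in
theorem ee_mul (a b : ZMod m) : (ee a * ee b : GR k m) = ee (a + b) := by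
  simp [ee, AddMonoidAlgebra.single_mul_single]

omit [NeZero m] in
theorem bar_single (a : ZMod m) (c : k) :
    bar (AddMonoidAlgebra.single a c) = AddMonoidAlgebra.single (-a) c := by
  simp [bar]

omit [NeZero m] in
theorem bar_ee (a : ZMod m) : bar (ee a : GR k m) = ee (-a) := bar_single a 1

theorem bar_ofFun (F : ZMod m → ℤ) : bar (ofFun F : GR k m) = ofFun fun y => F (-y) := by
  rw [ofFun, ofFun, map_sum]
  exact Fintype.sum_equiv (Equiv.neg _) _ _ fun y => by
    rw [bar_single]
    simp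

theorem ofFun_add (F G : ZMod m → ℤ) : (ofFun F + ofFun G : GR k m) = ofFun fun y => F y + G y := by
  ext y
  simp [coeff_ofFun]

theorem ofFun_sub (F G : ZMod m → ℤ) : (ofFun F - ofFun G : GR k m) = ofFun fun y => F y - G y := by
  ext y
  simp [coeff_ofFun]

theorem ofFun_zsmul (c : ℤ) (F : ZMod m → ℤ) :
    ((c : GR k m) * ofFun F) = ofFun fun y => c * F y := by
  rw [ofFun, mul_sum]
  refine sum_congr rfl fun y _ => ?_
  rw [AddMonoidAlgebra.intCast_def, AddMonoidAlgebra.single_mul_single, zero_add, Int.cast_mul]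

theorem ofFun_mul (F G : ZMod m → ℤ) :
    (ofFun F * ofFun G : GR k m) = ofFun fun y => ∑ t, F t * G (y - t) := by
  classical
  ext y
  rw [coeff_ofFun]
  simp only [ofFun, sum_mul, mul_sum, AddMonoidAlgebra.single_mul_single,
    AddMonoidAlgebra.coeff_sum, Finset.sum_apply', AddMonoidAlgebra.coeff_single,
    Finsupp.single_apply, Int.cast_sum, Int.cast_mul]
  rw [Finset.sum_comm]
  refine sum_congr rfl fun t _ => ?_
  rw [sum_eq_single (y - t)]
  · simp
  · intro b _ hb
    exact if_neg fun e => hb (by rw [← e, add_sub_cancel_left])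
  · simp

theorem coeff_mul_ee (Z : GR k m) (a y : ZMod m) : (Z * ee a).coeff y = Z.coeff (y - a) := by
  classical
  induction Z using AddMonoidAlgebra.induction_linear with
  | zero => simp
  | add f g hf hg => simp [add_mul, hf, hg]
  | single b c =>
    simp only [ee, AddMonoidAlgebra.single_mul_single, mul_one, AddMonoidAlgebra.coeff_single,
      Finsupp.single_apply, eq_sub_iff_add_eq]

theorem exists_ofFun (Z : GR ℤ m) : ∃ F : ZMod m → ℤ, Z = ofFun F :=
  ⟨fun y => Z.coeff y, by ext y; simp [coeff_ofFun]⟩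

/-- Vanishing of the norm forces vanishing. -/
theorem eq_zero_of_bar_mul {Z : GR ℤ m} (h : bar Z * Z = 0) : Z = 0 := by
  obtain ⟨F, rfl⟩ := exists_ofFun Z
  rw [bar_ofFun, ofFun_mul] at h
  have h0 : ∑ t, F (-t) * F (-t) = 0 := by
    have h1 := congrArg (fun Z : GR ℤ m => Z.coeff 0) h
    simp only [coeff_ofFun, zero_sub, AddMonoidAlgebra.coeff_zero, Finsupp.zero_apply] at h1
    exact_mod_cast h1
  rw [sum_eq_zero_iff_of_nonneg fun t _ => mul_self_nonneg _] at h0
  ext y
  have := mul_self_eq_zero.1 (h0 (-y) (mem_univ _))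
  rw [neg_neg] at this
  simp [coeff_ofFun, this]

/-- The rotation part. -/
noncomputable def rotPart (f : DihedralGroup m → ℤ) : GR k m := ofFun fun y => f (r y)

/-- The reflection part. -/
noncomputable def refPart (f : DihedralGroup m → ℤ) : GR k m := ofFun fun y => f (sr y)

namespace Scheme

variable (𝔖 : Scheme m)

theorem bar_rotPart {f : DihedralGroup m → ℤ} (hf : 𝔖.InS f) :
    bar (rotPart f : GR k m) = rotPart f := by
  rw [rotPart, bar_ofFun]
  congr 1
  funext y
  rw [← inv_r, 𝔖.inS_inv hf]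

theorem rotPart_conv (f g : DihedralGroup m → ℤ) :
    (rotPart (conv f g) : GR k m) =
      rotPart f * rotPart g + bar (refPart f) * refPart g := by
  rw [rotPart, rotPart, rotPart, refPart, refPart, bar_ofFun, ofFun_mul, ofFun_mul, ofFun_add]
  congr 1
  funext y
  unfold conv
  rw [sum_dihedral]
  congr 1
  · exact sum_congr rfl fun t _ => by rw [inv_r, r_mul_r, neg_add_eq_sub]
  · exact Fintype.sum_equiv (Equiv.neg (ZMod m)) _ _ fun t => by
      simp [sr_mul_r, add_comm]

theorem refPart_conv {f : DihedralGroup m → ℤ} (hf : 𝔖.InS f) (g : DihedralGroup m → ℤ) :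
    (refPart (conv f g) : GR k m) = rotPart f * refPart g + refPart f * rotPart g := by
  rw [rotPart, rotPart, refPart, refPart, refPart, ofFun_mul, ofFun_mul, ofFun_add]
  congr 1
  funext z
  unfold conv
  rw [sum_dihedral]
  congr 1
  · exact Fintype.sum_equiv (Equiv.neg (ZMod m)) _ _ fun t => by
      simp only [Equiv.neg_apply, inv_r, r_mul_sr, sub_neg_eq_add]
      rw [← inv_r, 𝔖.inS_inv hf]

theorem exists_r (hm : 2 ≤ m) (h : DihedralGroup m) : ∃ y, 𝔖.R h (r y) := by
  by_cases h1 : h = 1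
  · exact ⟨0, by rw [h1, r_zero]; exact 𝔖.rfl' _⟩
  · obtain ⟨y, hy⟩ := 𝔖.exists_mem_X hm h1
    exact ⟨y, 𝔖.mem_X.1 hy⟩

/-- A prime power of a class function, for a prime not dividing `m`. -/
theorem pow_twist {q : ℕ} (hq : q.Prime) (hq2 : q ≠ 2) (hqm : ¬ q ∣ m)
    {f : DihedralGroup m → ℤ} (hf : 𝔖.InS f) :
    ∃ G, 𝔖.InS G ∧ (emb f : MonoidAlgebra (ZMod q) (DihedralGroup m)) ^ q = emb G ∧
      ∀ y : ZMod m, (G (r (q • y)) : ZMod q) = (f (r y) : ZMod q) := by
  classical
  obtain ⟨G, hG, hGr, hGe⟩ := 𝔖.pow_prime_fun hq hq2 hf 1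
  rw [pow_one] at hGe
  refine ⟨G, hG, hGe, fun y => ?_⟩
  rw [hGr, pow_one, sum_eq_single y]
  · intro x hx hxy
    have h1 : q • (x - y) = 0 := by
      rw [nsmul_sub, (mem_filter.1 hx).2, sub_self]
    refine absurd ?_ hxy
    rw [← sub_eq_zero, ← AddMonoid.addOrderOf_eq_one_iff]
    refine ((Nat.dvd_prime hq).1 (addOrderOf_dvd_iff_nsmul_eq_zero.2 h1)).resolve_right fun h => ?_
    exact hqm (h ▸ addOrderOf_dvd_m (x - y))
  · simp

theorem pow_self (hm : 2 ≤ m) (hR : 𝔖.IsRat) {q : ℕ} (hq : q.Prime) (hq2 : q ≠ 2)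
    (hqm : ¬ q ∣ m) {f : DihedralGroup m → ℤ} (hf : 𝔖.InS f) :
    (emb f : MonoidAlgebra (ZMod q) (DihedralGroup m)) ^ q = emb f := by
  obtain ⟨G, hG, hGe, hGv⟩ := 𝔖.pow_twist hq hq2 hqm hf
  rw [hGe]
  ext h
  obtain ⟨y, hy⟩ := 𝔖.exists_r hm h
  rw [coeff_emb, coeff_emb, hG _ _ hy, hf _ _ hy, ← hGv y]
  congr 1
  refine hG _ _ (𝔖.coprime_smul hR ?_)
  exact (hq.coprime_iff_not_dvd.2 fun h => hqm (h.trans (addOrderOf_dvd_m y)))

end Scheme

end Cfsg.Agent.DihedralBGroup
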