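import Cfsg.Agent.Lib.DihedralBGroup.Scheme
import Mathlib.Tactic.LinearCombination

/-!
# Positivity on cosets for dihedral Schur partitions

* `eq_const` : a class function invariant under a translation is constant
* `not_in_coset` : a class does not lie in a proper dihedral subgroup
* `cosetSum_le`, `cosetSum_eq`, `cosetSum_kernel` : autocorrelation of `Y` summed over cosets
-/

set_option autoImplicit false

namespace Cfsg.Agent.DihedralBGroup

open DihedralGroup Finset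

variable {m : ℕ} [NeZero m]

namespace Scheme

variable (𝔖 : Scheme m)

/-- The classes are invariant under the multipliers. -/
def IsRat : Prop := ∀ (k : (ZMod m)ˣ) (i : ZMod m), 𝔖.R (r i) (r ((k : ZMod m) * i))

theorem eq_const {L : DihedralGroup m → ℤ} (hL : 𝔖.InS L) {u : ZMod m} (hu : u ≠ 0)
    (h : ∀ g, L (r u * g) = L g) (x : DihedralGroup m) : L x = L 1 := by
  classical
  let St : Subgroup (DihedralGroup m) :=
    { carrier := {g | ∀ x, L (x * g) = L x}
      one_mem' := fun x => by rw [mul_one]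
      mul_mem' := fun {a b} ha hb x => by rw [← mul_assoc, hb, ha]
      inv_mem' := fun {a} ha x => by
        have := ha (x * a⁻¹)
        rwa [inv_mul_cancel_right, eq_comm] at this }
  have key : ∀ g, conv L L g = conv L L 1 ↔ g ∈ St := by
    intro g
    have h1 : conv L L 1 = ∑ t, L t * L t := by
      unfold conv
      exact sum_congr rfl fun t _ => by rw [mul_one, 𝔖.inS_inv hL]
    constructor
    · intro hg
      have h2 : ∑ t, L (t⁻¹ * g) * L (t⁻¹ * g) = ∑ t, L t * L t :=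
        Fintype.sum_equiv ((Equiv.inv (DihedralGroup m)).trans (Equiv.mulRight g))
          (fun t => L (t⁻¹ * g) * L (t⁻¹ * g)) (fun t => L t * L t) (fun t => rfl)
      have h0 : ∑ t, (L t - L (t⁻¹ * g)) * (L t - L (t⁻¹ * g)) = 0 := by
        have : ∀ t, (L t - L (t⁻¹ * g)) * (L t - L (t⁻¹ * g)) =
            L t * L t + L (t⁻¹ * g) * L (t⁻¹ * g) - 2 * (L t * L (t⁻¹ * g)) := fun t => by ring
        simp only [this, sum_sub_distrib, sum_add_distrib, ← mul_sum, h2]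
        rw [show ∑ t, L t * L (t⁻¹ * g) = conv L L g from rfl, hg, h1]
        ring
      rw [sum_eq_zero_iff_of_nonneg fun t _ => mul_self_nonneg _] at h0
      intro x
      have h3 := mul_self_eq_zero.1 (h0 x⁻¹ (mem_univ _))
      rw [inv_inv, sub_eq_zero, 𝔖.inS_inv hL] at h3
      exact h3.symm
    · intro hg
      rw [h1]
      unfold conv
      exact sum_congr rfl fun t _ => by rw [hg, 𝔖.inS_inv hL]
  have hgen := 𝔖.gen {g | conv L L g = conv L L 1}
    (fun x (hx : conv L L x = _) y hy => ((𝔖.inS_conv hL hL) x y hy).symm.trans hx)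
    ⟨r u, (key _).2 fun x => by
      rcases x with i | i
      · rw [r_mul_r, add_comm, ← r_mul_r, h]
      · rw [sr_mul_r, show sr (i + u) = r (-u) * sr i by rw [r_mul_sr, sub_neg_eq_add]]
        have := h (r (-u) * sr i)
        rwa [← mul_assoc, r_mul_r, add_neg_cancel, r_zero, one_mul, eq_comm] at this,
      fun e => hu (by rw [one_def] at e; exact r.inj e)⟩
  have hle : Subgroup.closure {g | conv L L g = conv L L 1} ≤ St :=
    (Subgroup.closure_le _).2 fun g hg => (key g).1 hg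
  rw [hgen] at hle
  have := hle (Subgroup.mem_top x) 1
  rwa [one_mul] at this

/-- A class does not lie in a proper dihedral subgroup. -/
theorem not_in_coset {s : DihedralGroup m} (hs : s ≠ 1) {K : AddSubgroup (ZMod m)} (hK : K ≠ ⊤)
    (hX : ∀ x ∈ 𝔖.X s, x ∈ K) {j : ZMod m} (hY : ∀ i ∈ 𝔖.Y s, i - j ∈ K) : False := by
  let D : Subgroup (DihedralGroup m) :=
    { carrier := {g | match g with
        | .r i => i ∈ K
        | .sr i => i - j ∈ K}
      one_mem' := K.zero_mem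
      mul_mem' := fun {a b} ha hb => by
        rcases a with x | x <;> rcases b with y | y <;> simp only [Set.mem_setOf_eq] at ha hb
        · exact K.add_mem ha hb
        · show y - x - j ∈ K
          rw [show y - x - j = (y - j) - x by ring]
          exact K.sub_mem hb ha
        · show x + y - j ∈ K
          rw [show x + y - j = (x - j) + y by ring]
          exact K.add_mem ha hb
        · show y - x ∈ K
          rw [show y - x = (y - j) - (x - j) by ring]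
          exact K.sub_mem hb ha
      inv_mem' := fun {a} ha => by
        rcases a with x | x
        · exact K.neg_mem ha
        · exact ha }
  have hle : Subgroup.closure {h | 𝔖.R s h} ≤ D := by
    rw [Subgroup.closure_le]
    intro g hg
    rcases g with i | i
    · exact hX i (𝔖.mem_X.2 hg)
    · exact hY i (𝔖.mem_Y.2 hg)
  rw [𝔖.gen {h | 𝔖.R s h} (fun x hx y hy => 𝔖.trans' hx hy) ⟨s, 𝔖.rfl' s, hs⟩] at hle
  exact hK (eq_top_iff.2 fun i _ => (hle (Subgroup.mem_top (r i)) : i ∈ K))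

theorem xx_neg (s : DihedralGroup m) (y : ZMod m) : 𝔖.xx s (-y) = 𝔖.xx s y := by
  classical
  refine card_bij' (fun x _ => -x) (fun x _ => -x) ?_ ?_ ?_ ?_
  · intro x hx
    rw [mem_filter] at hx ⊢
    refine ⟨𝔖.neg_mem_X hx.1, ?_⟩
    have := 𝔖.neg_mem_X hx.2
    convert this using 1
    ring
  · intro x hx
    rw [mem_filter] at hx ⊢
    refine ⟨𝔖.neg_mem_X hx.1, ?_⟩
    have := 𝔖.neg_mem_X hx.2
    convert this using 1
    ring
  · intro x _; simp
  · intro x _; simp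

theorem yy_neg (s : DihedralGroup m) (y : ZMod m) : 𝔖.yy s (-y) = 𝔖.yy s y := by
  classical
  refine card_bij' (fun x _ => x + -y) (fun x _ => x + y) ?_ ?_ ?_ ?_
  · intro x hx
    rw [mem_filter] at hx ⊢
    exact ⟨hx.2, by simpa using hx.1⟩
  · intro x hx
    rw [mem_filter] at hx ⊢
    exact ⟨hx.2, by simpa using hx.1⟩
  · intro x _; simp
  · intro x _; simp

theorem xx_zero (s : DihedralGroup m) : 𝔖.xx s 0 = (𝔖.X s).card := by
  rw [Scheme.xx, filter_true_of_mem fun x hx => by simpa using 𝔖.neg_mem_X hx]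

theorem yy_zero (s : DihedralGroup m) : 𝔖.yy s 0 = (𝔖.Y s).card := by
  rw [Scheme.yy, filter_true_of_mem fun x hx => by simpa using hx]

theorem sum_xx (s : DihedralGroup m) : ∑ y, 𝔖.xx s y = (𝔖.X s).card * (𝔖.X s).card := by
  classical
  simp only [Scheme.xx, sum_card_filter]
  rw [← card_product]
  refine card_bij' (fun q _ => (q.2, q.1 - q.2)) (fun q _ => (q.1 + q.2, q.1)) ?_ ?_ ?_ ?_
  · rintro ⟨a, b⟩ h
    simp only [mem_filter, mem_product] at h ⊢
    exact ⟨h.1.2, h.2⟩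
  · rintro ⟨a, b⟩ h
    simp only [mem_filter, mem_product] at h ⊢
    exact ⟨⟨mem_univ _, h.1⟩, by simpa using h.2⟩
  · rintro ⟨a, b⟩ -; simp
  · rintro ⟨a, b⟩ -; simp

theorem p_nonneg (s h : DihedralGroup m) : 0 ≤ 𝔖.p s h :=
  sum_nonneg fun t _ => mul_nonneg (by unfold Scheme.ind; split_ifs <;> norm_num)
    (by unfold Scheme.ind; split_ifs <;> norm_num)

theorem xx_le_p (s : DihedralGroup m) (y : ZMod m) : (𝔖.xx s y : ℤ) ≤ 𝔖.p s (r y) := by
  rw [𝔖.p_r]; omega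

theorem exists_xy (hm : 2 ≤ m) (s : DihedralGroup m) {l : DihedralGroup m} (hl : l ≠ 1) :
    ∃ z, 𝔖.R l (sr z) ∧ 𝔖.p s l = 2 * (𝔖.xy s z : ℤ) := by
  obtain ⟨z, hz⟩ := 𝔖.exists_mem_Y hm hl
  exact ⟨z, 𝔖.mem_Y.1 hz, by rw [𝔖.p_congr s (𝔖.mem_Y.1 hz), 𝔖.p_sr]⟩

theorem xy_le (s : DihedralGroup m) (z : ZMod m) : 𝔖.xy s z ≤ (𝔖.X s).card := card_filter_le _ _

theorem p_le (hm : 2 ≤ m) (s : DihedralGroup m) {l : DihedralGroup m} (hl : l ≠ 1) :
    𝔖.p s l ≤ 2 * ((𝔖.X s).card : ℤ) := by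
  obtain ⟨z, -, hz⟩ := 𝔖.exists_xy hm s hl
  have := 𝔖.xy_le s z
  omega

theorem two_dvd_p (hm : 2 ≤ m) (s : DihedralGroup m) {l : DihedralGroup m} (hl : l ≠ 1) :
    (2 : ℤ) ∣ 𝔖.p s l := by
  obtain ⟨z, -, hz⟩ := 𝔖.exists_xy hm s hl
  exact ⟨_, hz⟩

theorem r_ne_one {y : ZMod m} (hy : y ≠ 0) : (r y : DihedralGroup m) ≠ 1 := fun e => by
  rw [one_def] at e
  exact hy (r.inj e)

/-! ### Rational partitions -/

theorem mul_mem_X (hR : 𝔖.IsRat) {s : DihedralGroup m} (k : (ZMod m)ˣ) {x : ZMod m}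
    (hx : x ∈ 𝔖.X s) : (k : ZMod m) * x ∈ 𝔖.X s :=
  𝔖.mem_X.2 (𝔖.trans' (𝔖.mem_X.1 hx) (hR k x))

theorem xx_mul (hR : 𝔖.IsRat) (s : DihedralGroup m) (k : (ZMod m)ˣ) (y : ZMod m) :
    𝔖.xx s ((k : ZMod m) * y) = 𝔖.xx s y := by
  classical
  refine card_bij' (fun x _ => ((k⁻¹ : (ZMod m)ˣ) : ZMod m) * x) (fun x _ => (k : ZMod m) * x)
    ?_ ?_ ?_ ?_
  · intro x hx
    rw [mem_filter] at hx ⊢
    refine ⟨𝔖.mul_mem_X hR _ hx.1, ?_⟩
    have := 𝔖.mul_mem_X hR k⁻¹ hx.2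
    rwa [mul_sub, ← mul_assoc, Units.inv_mul, one_mul] at this
  · intro x hx
    rw [mem_filter] at hx ⊢
    refine ⟨𝔖.mul_mem_X hR _ hx.1, ?_⟩
    rw [← mul_sub]
    exact 𝔖.mul_mem_X hR k hx.2
  · intro x _; simp [← mul_assoc]
  · intro x _; simp [← mul_assoc]

theorem yy_mul (hR : 𝔖.IsRat) (s : DihedralGroup m) (k : (ZMod m)ˣ) (y : ZMod m) :
    𝔖.yy s ((k : ZMod m) * y) = 𝔖.yy s y := by
  have h1 := 𝔖.p_r s ((k : ZMod m) * y)
  have h2 := 𝔖.p_r s y
  rw [← 𝔖.p_congr s (hR k y), h2, 𝔖.xx_mul hR] at h1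
  omega

/-! ### Sums over cosets -/

open Classical in
/-- The autocorrelation of `Y` summed over a coset of `V`. -/
noncomputable def cosetSum (s : DihedralGroup m) (V : AddSubgroup (ZMod m)) (w : ZMod m) : ℕ :=
  ∑ v ∈ univ.filter (fun v => v ∈ V), 𝔖.yy s (v + w)

open Classical in
/-- The number of points of `Y` in a coset of `V`. -/
noncomputable def cnt (s : DihedralGroup m) (V : AddSubgroup (ZMod m)) (x : ZMod m) : ℕ :=
  ((𝔖.Y s).filter fun i => x - i ∈ V).card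

open Classical in
theorem cosetSum_eq_pairs (s : DihedralGroup m) (V : AddSubgroup (ZMod m))
    (w : ZMod m) : 𝔖.cosetSum s V w =
      (((𝔖.Y s) ×ˢ (𝔖.Y s)).filter fun q => q.2 - q.1 - w ∈ V).card := by
  classical
  simp only [Scheme.cosetSum, Scheme.yy]
  rw [sum_card_filter]
  refine card_bij' (fun q _ => (q.2, q.2 + (q.1 + w))) (fun q _ => (q.2 - q.1 - w, q.1)) ?_ ?_ ?_ ?_
  · rintro ⟨a, b⟩ h
    simp only [mem_filter, mem_product, mem_univ, true_and] at h ⊢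
    exact ⟨⟨h.1.2, h.2⟩, by simpa using h.1.1⟩
  · rintro ⟨a, b⟩ h
    simp only [mem_filter, mem_product, mem_univ, true_and] at h ⊢
    exact ⟨⟨h.2, h.1.1⟩, by simpa using h.1.2⟩
  · rintro ⟨a, b⟩ -; simp
  · rintro ⟨a, b⟩ -
    simp only [Prod.mk.injEq]
    exact ⟨trivial, by ring⟩

theorem cnt_corr (s : DihedralGroup m) (V : AddSubgroup (ZMod m)) (w : ZMod m) :
    ∑ x, 𝔖.cnt s V x * 𝔖.cnt s V (x + w) = Nat.card V * 𝔖.cosetSum s V w := by
  classical
  rw [𝔖.cosetSum_eq_pairs, Nat.card_eq_fintype_card, ← Finset.card_univ, ← card_product]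
  simp only [Scheme.cnt, ← card_product, ← filter_product]
  rw [sum_card_filter]
  refine card_bij' (fun q hq => (⟨q.1 - q.2.1, (mem_filter.1 hq).2.1⟩, q.2))
    (fun q _ => ((q.1 : ZMod m) + q.2.1, q.2)) ?_ ?_ ?_ ?_
  · rintro ⟨x, a, b⟩ h
    simp only [mem_filter, mem_product, mem_univ, true_and] at h ⊢
    refine ⟨h.1, ?_⟩
    rw [show b - a - w = (x - a) - (x + w - b) by ring]
    exact V.sub_mem h.2.1 h.2.2
  · rintro ⟨v, a, b⟩ h
    simp only [mem_filter, mem_product, mem_univ, true_and] at h ⊢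
    refine ⟨h.1, by simp, ?_⟩
    rw [show (v : ZMod m) + a + w - b = (v : ZMod m) - (b - a - w) by ring]
    exact V.sub_mem v.2 h.2
  · rintro ⟨x, a, b⟩ -; simp
  · rintro ⟨v, a, b⟩ -; simp

theorem cosetSum_kernel (s : DihedralGroup m) (V : AddSubgroup (ZMod m)) (u u' : ZMod m) :
    2 * (𝔖.cosetSum s V u : ℤ) + 2 * 𝔖.cosetSum s V u' ≤
      2 * 𝔖.cosetSum s V 0 + 𝔖.cosetSum s V (u + u') + 𝔖.cosetSum s V (u' - u) := by
  classical
  let F : ZMod m → ℤ := fun x => 𝔖.cnt s V x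
  have hC : ∀ a b : ZMod m, ∑ x, F (x + a) * F (x + b) =
      Nat.card V * (𝔖.cosetSum s V (b - a) : ℤ) := fun a b => by
    have h := congrArg (Nat.cast : ℕ → ℤ) (𝔖.cnt_corr s V (b - a))
    push_cast at h
    rw [← h]
    exact Fintype.sum_equiv (Equiv.addRight a) _ _ fun x => by
      show F (x + a) * F (x + b) = F (x + a) * F (x + a + (b - a))
      rw [add_add_sub_cancel]
  have h0 : (0 : ℤ) ≤ ∑ x, (F (x + 0) - F (x + u) - F (x + u') + F (x + (u + u'))) ^ 2 :=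
    sum_nonneg fun x _ => sq_nonneg _
  simp only [sub_sq, add_sq, mul_sub, sub_mul, mul_add, add_mul, sum_add_distrib, sum_sub_distrib,
    pow_two, mul_assoc, ← mul_sum, hC, sub_self, sub_zero, zero_sub] at h0
  simp only [add_sub_cancel_left, add_sub_cancel_right, show u - u' = -(u' - u) by ring] at h0
  have hneg : ∀ w, 𝔖.cosetSum s V (-w) = 𝔖.cosetSum s V w := fun w => by
    unfold Scheme.cosetSum
    refine sum_nbij' (fun v => -v) (fun v => -v) ?_ ?_ ?_ ?_ ?_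
    · intro v hv; simpa using hv
    · intro v hv; simpa using hv
    · intro v _; simp
    · intro v _; simp
    · intro v _
      rw [← 𝔖.yy_neg s (v + -w)]
      congr 1
      ring
  simp only [show u - (u + u') = -u' by ring, show u' - (u + u') = -u by ring, hneg] at h0
  have hV : (0 : ℤ) < Nat.card V := by exact_mod_cast Nat.card_pos
  nlinarith

theorem cosetSum_le (s : DihedralGroup m) (V : AddSubgroup (ZMod m)) (u : ZMod m) :
    𝔖.cosetSum s V u ≤ 𝔖.cosetSum s V 0 := by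
  classical
  have h1 := 𝔖.cnt_corr s V u
  have h2 := 𝔖.cnt_corr s V 0
  simp only [add_zero] at h2
  have h3 : ∑ x, 𝔖.cnt s V (x + u) * 𝔖.cnt s V (x + u) = ∑ x, 𝔖.cnt s V x * 𝔖.cnt s V x :=
    Fintype.sum_equiv (Equiv.addRight u) _ _ fun x => rfl
  have h4 : ∑ x, 2 * (𝔖.cnt s V x * 𝔖.cnt s V (x + u)) ≤
      ∑ x, (𝔖.cnt s V x * 𝔖.cnt s V x + 𝔖.cnt s V (x + u) * 𝔖.cnt s V (x + u)) :=
    sum_le_sum fun x _ => by
      have := two_mul_le_add_sq (𝔖.cnt s V x) (𝔖.cnt s V (x + u))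
      linarith
  rw [sum_add_distrib, h3, h2, ← mul_sum, h1] at h4
  have hV : 0 < Nat.card V := Nat.card_pos
  exact Nat.le_of_mul_le_mul_left (by linarith) hV

theorem cosetSum_eq (s : DihedralGroup m) (V : AddSubgroup (ZMod m)) {u : ZMod m}
    (h : 𝔖.cosetSum s V u = 𝔖.cosetSum s V 0) (x : ZMod m) :
    𝔖.cnt s V (x + u) = 𝔖.cnt s V x := by
  classical
  have h1 := congrArg (Nat.cast : ℕ → ℤ) (𝔖.cnt_corr s V u)
  have h2 := congrArg (Nat.cast : ℕ → ℤ) (𝔖.cnt_corr s V 0)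
  rw [h] at h1
  simp only [add_zero] at h2
  push_cast at h1 h2
  have h3 : ∑ x, (𝔖.cnt s V (x + u) : ℤ) * 𝔖.cnt s V (x + u) =
      ∑ x, (𝔖.cnt s V x : ℤ) * 𝔖.cnt s V x :=
    Fintype.sum_equiv (Equiv.addRight u) (fun x => (𝔖.cnt s V (x + u) : ℤ) * 𝔖.cnt s V (x + u))
      (fun x => (𝔖.cnt s V x : ℤ) * 𝔖.cnt s V x) fun x => rfl
  have h4 : ∑ x, ((𝔖.cnt s V (x + u) : ℤ) - 𝔖.cnt s V x) ^ 2 = 0 := by
    have : ∀ x, ((𝔖.cnt s V (x + u) : ℤ) - 𝔖.cnt s V x) ^ 2 =
        (𝔖.cnt s V (x + u) : ℤ) * 𝔖.cnt s V (x + u) + (𝔖.cnt s V x : ℤ) * 𝔖.cnt s V x -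
          2 * ((𝔖.cnt s V x : ℤ) * 𝔖.cnt s V (x + u)) := fun x => by ring
    simp only [this, sum_sub_distrib, sum_add_distrib, ← mul_sum, h1, h2, h3]
    ring
  rw [sum_eq_zero_iff_of_nonneg fun x _ => sq_nonneg _] at h4
  have := sq_eq_zero_iff.1 (h4 x (mem_univ x))
  omega

end Scheme

end Cfsg.Agent.DihedralBGroup
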