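import Cfsg.Agent.Lib.DihedralBGroup.Basic
import Mathlib.Data.ZMod.Units
import Mathlib.GroupTheory.OrderOfElement

/-!
# Rational classes and element orders

* `same_order` : elements of the same order lie in the same class
* `translate` : translation by an element of order `p` when `p²` divides the order
* `Q`, `Pure` : elements of order prime to `p`, classes supported on them
-/

set_option autoImplicit false

namespace Cfsg.Agent.DihedralBGroup

open DihedralGroup Finset

variable {m : ℕ} [NeZero m]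

theorem addOrderOf_dvd_m (x : ZMod m) : addOrderOf x ∣ m := by
  simpa [Nat.card_zmod] using addOrderOf_dvd_natCard x

theorem nsmul_eq_cast_mul (k : ℕ) (x : ZMod m) : k • x = (k : ZMod m) * x := nsmul_eq_mul k x

/-- A multiple by a coprime number is a multiple by a unit. -/
theorem exists_unit {x : ZMod m} {k : ℕ} (hk : k.Coprime (addOrderOf x)) :
    ∃ K : (ZMod m)ˣ, (K : ZMod m) * x = (k : ZMod m) * x := by
  obtain ⟨K, hK⟩ := ZMod.unitsMap_surjective (addOrderOf_dvd_m x) (ZMod.unitOfCoprime k hk)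
  refine ⟨K, ?_⟩
  have h1 : ((K : ZMod m).val : ZMod (addOrderOf x)) = k := by
    have := congrArg Units.val hK
    rw [ZMod.unitsMap_def, Units.coe_map, ZMod.coe_unitOfCoprime] at this
    rw [← this, ZMod.natCast_val]
    rfl
  rw [ZMod.natCast_eq_natCast_iff'] at h1
  rw [← nsmul_eq_cast_mul, ← ZMod.natCast_zmod_val (K : ZMod m), ← nsmul_eq_cast_mul,
    nsmul_eq_nsmul_iff_modEq]
  exact h1

/-- `y` is a multiple of `x` when its order divides that of `x`. -/
theorem exists_nsmul {x y : ZMod m} (h : addOrderOf y ∣ addOrderOf x) : ∃ k : ℕ, k • x = y := by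
  classical
  have hle : AddSubgroup.zmultiples x ≤
      (nsmulAddMonoidHom (addOrderOf x) : ZMod m →+ ZMod m).ker := by
    rw [AddSubgroup.zmultiples_le]
    exact addOrderOf_nsmul_eq_zero x
  have hcard : Nat.card (nsmulAddMonoidHom (addOrderOf x) : ZMod m →+ ZMod m).ker ≤
      Nat.card (AddSubgroup.zmultiples x) := by
    rw [Nat.card_zmultiples, Nat.card_eq_fintype_card, Fintype.card_subtype]
    refine le_trans (le_of_eq ?_)
      (IsAddCyclic.card_nsmul_eq_zero_le (α := ZMod m) (n := addOrderOf x) (addOrderOf_pos x))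
    congr 1
    ext; simp
  have heq := AddSubgroup.eq_of_le_of_card_ge hle hcard
  have hy : y ∈ AddSubgroup.zmultiples x := by
    rw [heq, AddMonoidHom.mem_ker]
    exact addOrderOf_dvd_iff_nsmul_eq_zero.1 h
  exact (mem_multiples_iff_mem_zmultiples.2 hy)

namespace Scheme

variable (𝔖 : Scheme m)

theorem coprime_smul (hR : 𝔖.IsRat) {x : ZMod m} {k : ℕ} (hk : k.Coprime (addOrderOf x)) :
    𝔖.R (r x) (r (k • x)) := by
  obtain ⟨K, hK⟩ := exists_unit hk
  rw [nsmul_eq_cast_mul, ← hK]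
  exact hR K x

theorem same_order (hR : 𝔖.IsRat) {x y : ZMod m} (h : addOrderOf x = addOrderOf y) :
    𝔖.R (r x) (r y) := by
  obtain ⟨k, rfl⟩ := exists_nsmul (x := x) (y := y) h.symm.dvd
  refine 𝔖.coprime_smul hR ?_
  rw [addOrderOf_nsmul] at h
  have hpos := addOrderOf_pos x
  rw [Nat.coprime_comm, Nat.coprime_iff_gcd_eq_one]
  by_contra hg
  have hg1 : 1 < (addOrderOf x).gcd k :=
    lt_of_le_of_ne (Nat.gcd_pos_of_pos_left _ hpos) (Ne.symm hg)
  have := Nat.div_lt_self hpos hg1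
  omega

/-- Translation by an element of order `p` when `p²` divides the order. -/
theorem translate (hR : 𝔖.IsRat) {p : ℕ} (hp : p.Prime) {x u : ZMod m}
    (hx : p * p ∣ addOrderOf x) (hu : p • u = 0) : 𝔖.R (r x) (r (x + u)) := by
  have hpx : addOrderOf u ∣ addOrderOf x :=
    (addOrderOf_dvd_iff_nsmul_eq_zero.2 hu).trans ((dvd_mul_right p p).trans hx)
  obtain ⟨j, hj⟩ := exists_nsmul hpx
  have hd : addOrderOf x ∣ p * j := by
    rw [addOrderOf_dvd_iff_nsmul_eq_zero, mul_nsmul', hj, hu]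
  have hxu : x + u = (1 + j) • x := by rw [add_nsmul, one_nsmul, hj]
  rw [hxu]
  refine 𝔖.coprime_smul hR (Nat.coprime_of_dvd fun q hq hq1 hqx => ?_)
  have hqj : q ∣ j := by
    by_cases hqp : q = p
    · subst hqp
      exact (Nat.mul_dvd_mul_iff_left hq.pos).1 (hx.trans hd)
    · exact (hq.dvd_mul.1 (hqx.trans hd)).resolve_left fun h =>
        hqp ((Nat.prime_dvd_prime_iff_eq hq hp).1 h)
  exact hq.one_lt.ne' (Nat.dvd_one.1 ((Nat.dvd_add_left hqj).1 hq1))

end Scheme

/-- The elements whose order is prime to `p`. -/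
def Q (p : ℕ) (hp : p.Prime) : AddSubgroup (ZMod m) where
  carrier := {y | ¬ p ∣ addOrderOf y}
  zero_mem' := by simpa using hp.one_lt.ne'
  add_mem' := fun {a b} ha hb h => by
    have h1 := h.trans ((AddCommute.all a b).addOrderOf_add_dvd_lcm)
    rcases hp.dvd_mul.1 (h1.trans (Nat.lcm_dvd_mul _ _)) with h2 | h2
    · exact ha h2
    · exact hb h2
  neg_mem' := fun {a} ha => by simpa using ha

theorem mem_Q {p : ℕ} (hp : p.Prime) {y : ZMod m} : y ∈ Q p hp ↔ ¬ p ∣ addOrderOf y := Iff.rfl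

theorem addOrderOf_of_prime {p : ℕ} (hp : p.Prime) {u : ZMod m} (hu : p • u = 0) (h0 : u ≠ 0) :
    addOrderOf u = p := by
  haveI := Fact.mk hp
  exact addOrderOf_eq_prime hu h0

theorem exists_prime_elt {p : ℕ} (hp : p.Prime) (hpm : p ∣ m) :
    ∃ u : ZMod m, p • u = 0 ∧ u ≠ 0 := by
  haveI := Fact.mk hp
  obtain ⟨u, hu⟩ := exists_prime_addOrderOf_dvd_card' p (G := ZMod m) (by rwa [Nat.card_zmod])
  refine ⟨u, hu ▸ addOrderOf_nsmul_eq_zero u, fun h => ?_⟩
  rw [h, addOrderOf_zero] at hu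
  exact hp.one_lt.ne hu

theorem addOrderOf_add_prime {p : ℕ} (hp : p.Prime) {y u : ZMod m} (hy : y ∈ Q p hp)
    (hu : p • u = 0) (h0 : u ≠ 0) : addOrderOf (y + u) = addOrderOf y * p := by
  rw [(AddCommute.all y u).addOrderOf_add_eq_mul_addOrderOf_of_coprime, addOrderOf_of_prime hp hu h0]
  rw [addOrderOf_of_prime hp hu h0]
  exact (hp.coprime_iff_not_dvd.2 hy).symm

theorem mem_Q_of_prime {p q : ℕ} (hp : p.Prime) (hq : q.Prime) (hpq : p ≠ q) {v : ZMod m}
    (hv : q • v = 0) : v ∈ Q p hp := by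
  intro h
  exact hpq ((Nat.prime_dvd_prime_iff_eq hp hq).1
    (h.trans (addOrderOf_dvd_iff_nsmul_eq_zero.2 hv)))

theorem add_notMem_Q {p : ℕ} (hp : p.Prime) {y u : ZMod m} (hy : y ∈ Q p hp)
    (hu : p • u = 0) (h0 : u ≠ 0) : y + u ∉ Q p hp := fun h => by
  rw [mem_Q, addOrderOf_add_prime hp hy hu h0] at h
  exact h (dvd_mul_left _ _)

namespace Scheme

variable (𝔖 : Scheme m)

/-- A class is pure at `p` if its cyclic part consists of elements of order prime to `p`. -/
def Pure (p : ℕ) (hp : p.Prime) (s : DihedralGroup m) : Prop := ∀ x ∈ 𝔖.X s, x ∈ Q p hp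

theorem pure_congr {p : ℕ} (hp : p.Prime) {s t : DihedralGroup m} (h : 𝔖.R s t) :
    𝔖.Pure p hp s ↔ 𝔖.Pure p hp t := by rw [Scheme.Pure, Scheme.Pure, 𝔖.X_congr h]

end Scheme

end Cfsg.Agent.DihedralBGroup
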