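import Cfsg.Agent.Lib.DihedralBGroup.Small
import Cfsg.Agent.Lib.DihedralBGroup.Order

/-!
# Weights on a cyclic group with unit-invariant autocorrelation (owner: helper67)

* `classify` : few large weights force `3` or `7` points
-/

set_option autoImplicit false

namespace Cfsg.Agent.DihedralBGroup.Config

open Finset

variable {t : ℕ} [NeZero t]

/-- The autocorrelation of weights. -/
def G (n : ZMod t → ℕ) (w : ZMod t) : ℕ := ∑ j, n j * n (j + w)

theorem G_shift (n : ZMod t → ℕ) (i w : ZMod t) : G (fun e => n (i + e)) w = G n w :=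
  Fintype.sum_equiv (Equiv.addLeft i) (fun e => n (i + e) * n (i + (e + w)))
    (fun j => n j * n (j + w)) fun e => by
      show n (i + e) * n (i + (e + w)) = n (i + e) * n (i + e + w)
      rw [add_assoc]

theorem G_pos {n : ZMod t → ℕ} {i j : ZMod t} (hi : n i ≠ 0) (hj : n j ≠ 0) : 0 < G n (j - i) :=
  lt_of_lt_of_le (Nat.mul_pos (Nat.pos_of_ne_zero hi)
    (Nat.pos_of_ne_zero (show n (i + (j - i)) ≠ 0 by rwa [add_sub_cancel])))
    (single_le_sum (f := fun x => n x * n (x + (j - i))) (fun x _ => Nat.zero_le _) (mem_univ i))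

theorem totient_le {n : ZMod t → ℕ}
    (hinv : ∀ (k : (ZMod t)ˣ) (w : ZMod t), G n ((k : ZMod t) * w) = G n w) {d : ZMod t}
    (hd : 0 < G n d) (T : Finset (ZMod t))
    (hT : ∀ w, addOrderOf w = addOrderOf d → 0 < G n w → w ∈ T) :
    Nat.totient (addOrderOf d) ≤ T.card := by
  classical
  rw [← IsAddCyclic.card_addOrderOf_eq_totient (α := ZMod t)
    (by rw [ZMod.card]; exact addOrderOf_dvd_m d)]
  refine card_le_card fun w hw => ?_
  have ho := (mem_filter.1 hw).2
  obtain ⟨k, rfl⟩ := exists_nsmul (x := d) (y := w) ho.dvd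
  have hk : k.Coprime (addOrderOf d) := by
    have h := ho
    rw [addOrderOf_nsmul] at h
    have hpos := addOrderOf_pos d
    rw [Nat.coprime_comm, Nat.coprime_iff_gcd_eq_one]
    by_contra hg
    have hg1 : 1 < (addOrderOf d).gcd k :=
      lt_of_le_of_ne (Nat.gcd_pos_of_pos_left _ hpos) (Ne.symm hg)
    have := Nat.div_lt_self hpos hg1
    omega
  obtain ⟨U, hU⟩ := exists_unit hk
  refine hT _ ho ?_
  rw [nsmul_eq_cast_mul, ← hU, hinv]
  exact hd

theorem zmultiples_top {d : ZMod t} (h : AddSubgroup.zmultiples d = ⊤) : addOrderOf d = t := by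
  rw [← Nat.card_zmultiples, h]
  simp

theorem totient_small {o k : ℕ} (ho : Odd o) (h1 : o ≠ 1) (hk : k ≤ 2)
    (h : Nat.totient o ≤ k) : o = 3 := by
  rcases Small.small_totient ho (h.trans (hk.trans (by norm_num))) with rfl | rfl | rfl | rfl | rfl
  · exact absurd rfl h1
  · rfl
  all_goals
    have := h.trans hk
    revert this
    decide +kernel

/-- Classification of the supports. -/
theorem classify (hodd : Odd t) (ht1 : t ≠ 1) {n : ZMod t → ℕ} {a : ℕ}
    (hbig : ∀ j, n j ≠ 0 → a ≤ 2 * n j) (hsum : ∑ j, n j < 2 * a)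
    (hinv : ∀ (k : (ZMod t)ˣ) (w : ZMod t), G n ((k : ZMod t) * w) = G n w)
    (hgen : ∀ H : AddSubgroup (ZMod t), (∀ i j, n i ≠ 0 → n j ≠ 0 → j - i ∈ H) → H = ⊤) :
    t = 3 ∨ (t = 7 ∧ ∃ N : ℕ, 0 < N ∧ G n 0 = 3 * (N * N) ∧ ∀ w, w ≠ 0 → G n w = N * N) := by
  classical
  set S := univ.filter fun j => n j ≠ 0 with hS
  have hmemS : ∀ j, j ∈ S ↔ n j ≠ 0 := fun j => by simp [hS]
  have hScard : S.card ≤ 3 := by
    have h1 : S.card * a ≤ 2 * ∑ j, n j := by
      rw [← sum_subset (subset_univ S) fun z _ hz => by simpa [hmemS] using hz, mul_sum,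
        ← smul_eq_mul, ← sum_const]
      exact sum_le_sum fun j hj => hbig j ((hmemS j).1 hj)
    by_contra h
    push Not at h
    have := Nat.mul_le_mul_right a h
    omega
  have hD : ∀ w, w ≠ 0 → 0 < G n w → ∃ i ∈ S, ∃ j ∈ S, j - i = w := by
    intro w _ hw
    obtain ⟨j, -, hj⟩ := exists_ne_zero_of_sum_ne_zero hw.ne'
    exact ⟨j, (hmemS _).2 (left_ne_zero_of_mul hj), j + w, (hmemS _).2 (right_ne_zero_of_mul hj),
      add_sub_cancel_left j w⟩
  have hodd1 : ∀ d : ZMod t, Odd (addOrderOf d) := fun d =>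
    hodd.of_dvd_nat (by simpa [Nat.card_zmod] using addOrderOf_dvd_natCard d)
  have hne1 : ∀ d : ZMod t, d ≠ 0 → addOrderOf d ≠ 1 := fun d hd h =>
    hd (AddMonoid.addOrderOf_eq_one_iff.1 h)
  have hS2 : 2 ≤ S.card := by
    by_contra h
    push Not at h
    have hb := hgen ⊥ fun i j hi hj => by
      rw [Finset.card_le_one.1 (by omega) _ ((hmemS i).2 hi) _ ((hmemS j).2 hj), sub_self]
      exact zero_mem _
    have h2 := congrArg (fun H : AddSubgroup (ZMod t) => Nat.card H) hb
    simp at h2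
    omega
  rcases (show S.card = 2 ∨ S.card = 3 by omega) with hS2' | hS3'
  · -- two points
    left
    obtain ⟨i, j, hij, hSij⟩ := card_eq_two.1 hS2'
    have hdt : addOrderOf (j - i) = t := zmultiples_top (hgen _ fun x y hx hy => by
      have hx' : x ∈ S := (hmemS x).2 hx
      have hy' : y ∈ S := (hmemS y).2 hy
      simp only [hSij, mem_insert, mem_singleton] at hx' hy'
      rcases hx' with rfl | rfl <;> rcases hy' with rfl | rfl
      · simp
      · exact AddSubgroup.mem_zmultiples _
      · rw [← neg_sub x y]; exact neg_mem (AddSubgroup.mem_zmultiples _)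
      · simp)
    have h1 := totient_le hinv (d := j - i) (G_pos ((hmemS i).1 (by simp [hSij]))
      ((hmemS j).1 (by simp [hSij]))) {j - i, i - j} fun w hw hwpos => by
        have hw0 : w ≠ 0 := fun h => by
          rw [h, addOrderOf_zero, hdt] at hw
          exact ht1 hw.symm
        obtain ⟨x, hx, y, hy, rfl⟩ := hD w hw0 hwpos
        simp only [hSij, mem_insert, mem_singleton] at hx hy ⊢
        rcases hx with rfl | rfl <;> rcases hy with rfl | rfl <;> simp_all
    rw [hdt] at h1
    exact totient_small hodd ht1 le_rfl (h1.trans card_le_two)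
  -- three points
  obtain ⟨i, j, k, hij, hik, hjk, hSijk⟩ := card_eq_three.1 hS3'
  have hi0 : n i ≠ 0 := (hmemS i).1 (by simp [hSijk])
  have hj0 : n j ≠ 0 := (hmemS j).1 (by simp [hSijk])
  have hk0 : n k ≠ 0 := (hmemS k).1 (by simp [hSijk])
  obtain ⟨hi', hj', hk'⟩ : n i < a ∧ n j < a ∧ n k < a := by
    have h := hsum
    rw [← sum_subset (subset_univ S) fun z _ hz => by simpa [hmemS] using hz, hSijk,
      sum_insert (by simp [hij, hik]), sum_insert (by simp [hjk]), sum_singleton] at h
    have := hbig i hi0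
    have := hbig j hj0
    have := hbig k hk0
    omega
  set x := j - i with hx
  set y := k - i with hy
  have hx0 : x ≠ 0 := sub_ne_zero.2 hij.symm
  have hy0 : y ≠ 0 := sub_ne_zero.2 hik.symm
  have hxy0 : x ≠ y := fun h => hjk (sub_left_injective h)
  have hDmem : ∀ w, w ≠ 0 → 0 < G n w →
      w = x ∨ w = -x ∨ w = y ∨ w = -y ∨ w = y - x ∨ w = x - y := by
    intro w hw0 hw
    obtain ⟨p, hp, q, hq, rfl⟩ := hD w hw0 hw
    simp only [hSijk, mem_insert, mem_singleton] at hp hq
    rcases hp with rfl | rfl | rfl <;> rcases hq with rfl | rfl | rfl <;>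
      first
      | exact absurd (sub_self _) hw0
      | simp [hx, hy]
  obtain ⟨d, hd0, hd, hdt⟩ : ∃ d, d ≠ 0 ∧ 0 < G n d ∧ addOrderOf d = t := by
    by_contra hno
    push Not at hno
    have hGx : 0 < G n x := G_pos hi0 hj0
    have hGy : 0 < G n y := G_pos hi0 hk0
    have hno' : ∀ d, d ≠ 0 → 0 < G n d → ∀ e, (∀ H : AddSubgroup (ZMod t),
        d ∈ H → e ∈ H → x ∈ H ∧ y ∈ H) → addOrderOf d ≠ addOrderOf e := by
      intro d hd0 hd e hH hde
      obtain ⟨q, hq⟩ := exists_nsmul (x := d) (y := e) hde.symm.dvd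
      refine hno d hd0 hd (zmultiples_top (hgen _ fun p p' hp hp' => ?_))
      obtain ⟨h1, h2⟩ := hH _ (AddSubgroup.mem_zmultiples d)
        (hq ▸ AddSubgroup.nsmul_mem _ (AddSubgroup.mem_zmultiples d) q)
      have key : ∀ p, n p ≠ 0 → p - i ∈ AddSubgroup.zmultiples d := by
        intro p hp
        have hpS : p ∈ S := (hmemS p).2 hp
        simp only [hSijk, mem_insert, mem_singleton] at hpS
        rcases hpS with rfl | rfl | rfl
        · simp
        · exact h1
        · exact h2
      rw [show p' - p = (p' - i) - (p - i) by ring]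
      exact sub_mem (key _ hp') (key _ hp)
    have hxy := hno' x hx0 hGx y fun H h1 h2 => ⟨h1, h2⟩
    have hxz := hno' x hx0 hGx (y - x) fun H h1 h2 => ⟨h1, by simpa using H.add_mem h2 h1⟩
    have hyz := hno' y hy0 hGy (y - x) fun H h1 h2 => ⟨by simpa using H.sub_mem h1 h2, h1⟩
    have hneg : addOrderOf (x - y) = addOrderOf (y - x) := by
      rw [← addOrderOf_neg, neg_sub]
    have hthree : ∀ d, d ≠ 0 → 0 < G n d →
        (∀ w, addOrderOf w = addOrderOf d → 0 < G n w → w ∈ ({d, -d} : Finset (ZMod t))) →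
        addOrderOf d = 3 := fun d hd0 hd hall =>
      totient_small (hodd1 d) (hne1 d hd0) le_rfl
        ((totient_le hinv hd _ hall).trans card_le_two)
    have h0 : ∀ d : ZMod t, d ≠ 0 → ∀ w : ZMod t, addOrderOf w = addOrderOf d → w ≠ 0 := fun d hd0 w h e => by
      rw [e, addOrderOf_zero] at h
      exact hne1 d hd0 h.symm
    refine hxy ((hthree x hx0 hGx fun w h hw => ?_).trans (hthree y hy0 hGy fun w h hw => ?_).symm)
    · rcases hDmem w (h0 x hx0 w h) hw with rfl | rfl | rfl | rfl | rfl | rfl <;>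
        first
        | (simp; done)
        | (rw [addOrderOf_neg] at h; exact absurd h.symm hxy)
        | exact absurd h.symm hxy
        | exact absurd h.symm hxz
        | exact absurd (hneg ▸ h).symm hxz
    · rcases hDmem w (h0 y hy0 w h) hw with rfl | rfl | rfl | rfl | rfl | rfl <;>
        first
        | (simp; done)
        | (rw [addOrderOf_neg] at h; exact absurd h hxy)
        | exact absurd h hxy
        | exact absurd h.symm hyz
        | exact absurd (hneg ▸ h).symm hyz
  have hphi : Nat.totient t ≤ 6 := by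
    have h1 := totient_le hinv hd {x, -x, y, -y, y - x, x - y} fun w h hw => by
      have hw0 : w ≠ 0 := fun e => by
        rw [e, addOrderOf_zero, hdt] at h
        exact ht1 h.symm
      simpa using hDmem w hw0 hw
    rw [hdt] at h1
    exact h1.trans card_le_six
  have hunit : ∀ U : (ZMod t)ˣ, 0 < G n (U : ZMod t) := by
    intro U
    obtain ⟨q, hq⟩ := exists_nsmul (x := d) (y := (1 : ZMod t)) (by rw [ZMod.addOrderOf_one, hdt])
    rw [nsmul_eq_cast_mul] at hq
    obtain ⟨V, hV⟩ : IsUnit d := IsUnit.of_mul_eq_one_right _ hq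
    have h := hinv (U * V⁻¹) d
    rw [Units.val_mul, mul_assoc, ← hV, Units.inv_mul, mul_one, hV] at h
    omega
  have hG1 : ∀ U : (ZMod t)ˣ, G n (U : ZMod t) = G n 1 := fun U => by
    have h := hinv U 1
    rwa [mul_one] at h
  have hsup : ∀ e, e ≠ 0 → e ≠ x → e ≠ y → n (i + e) = 0 := by
    intro e e0 ex ey
    by_contra hne
    have he : i + e ∈ S := (hmemS _).2 hne
    simp only [hSijk, mem_insert, mem_singleton] at he
    rcases he with h | h | h
    · exact e0 (by simpa using h)
    · exact ex (by rw [hx, ← h, add_sub_cancel_left])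
    · exact ey (by rw [hy, ← h, add_sub_cancel_left])
  have hN0 : n (i + 0) = n i := by simp
  have hNx : n (i + x) = n j := by simp [hx]
  have hNy : n (i + y) = n k := by simp [hy]
  rcases Small.small_totient hodd hphi with h | h | h | h | h
  · exact absurd h ht1
  · exact Or.inl h
  · exfalso
    subst h
    refine Small.five' (N := fun e => n (i + e)) (A := a) hx0 hy0 hxy0 hsup (fun e he => ?_) ?_
    · rcases he with he | he | he
      · rw [he]; exact ⟨hN0 ▸ hbig i hi0, hN0 ▸ hi'⟩
      · rw [he]; exact ⟨hNx ▸ hbig j hj0, hNx ▸ hj'⟩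
      · rw [he]; exact ⟨hNy ▸ hbig k hk0, hNy ▸ hk'⟩
    · exact ((G_shift n i 1).trans (hG1 (ZMod.unitOfCoprime 2 (by decide))).symm).trans
        (G_shift n i 2).symm
  · right
    subst h
    refine ⟨rfl, ?_⟩
    have e2 : G n (2 : ZMod 7) = G n 1 := hG1 (ZMod.unitOfCoprime 2 (by decide))
    have e3 : G n (3 : ZMod 7) = G n 1 := hG1 (ZMod.unitOfCoprime 3 (by decide))
    have hg : 0 < G n 1 := hunit 1
    obtain ⟨hjx, hky, hgv⟩ := Small.seven' (N := fun e => n (i + e)) (g := G n 1) hx0 hy0 hxy0 hg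
      hsup (G_shift n i 1) ((G_shift n i 2).trans e2) ((G_shift n i 3).trans e3)
    refine ⟨n i, Nat.pos_of_ne_zero hi0, ?_, fun w hw => ?_⟩
    · show ∑ z, n z * n (z + 0) = _
      rw [← sum_subset (subset_univ S) fun z _ hz => by
          rw [show n z = 0 by simpa [hmemS] using hz, zero_mul],
        hSijk, sum_insert (by simp [hij, hik]), sum_insert (by simp [hjk]), sum_singleton]
      rw [show n j = n i from hNx ▸ hN0 ▸ hjx, show n k = n i from hNy ▸ hN0 ▸ hky]
      simp only [add_zero]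
      rw [show n j = n i from hNx ▸ hN0 ▸ hjx, show n k = n i from hNy ▸ hN0 ▸ hky]
      ring
    · rw [show n i * n i = G n 1 from hN0 ▸ hgv.symm]
      haveI := Fact.mk (show Nat.Prime 7 by norm_num)
      exact hG1 (Units.mk0 w hw)
  · exfalso
    subst h
    obtain ⟨w, ⟨U, hU⟩, h1, h2, h3, h4, h5, h6⟩ := Small.nine x y
    have hw := hU ▸ hunit U
    haveI : Fact (1 < 9) := ⟨by norm_num⟩
    have hw0 : w ≠ 0 := hU ▸ U.ne_zero
    rcases hDmem w hw0 hw with e | e | e | e | e | e
    exacts [h1 e, h2 e, h3 e, h4 e, h5 e, h6 e]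

end Cfsg.Agent.DihedralBGroup.Config
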