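import Cfsg.Agent.Lib.DihedralBGroup.Order
import Mathlib.Algebra.MonoidAlgebra.MapDomain
import Mathlib.Algebra.CharP.Lemmas
import Mathlib.Algebra.CharP.Algebra
import Mathlib.FieldTheory.Finite.Basic

/-!
# The Frobenius argument

* `pow_prime_fun` : the `p ^ k`-th power of a class function modulo `p`
* `rule` : two classes containing elements prime to `p` induce the same classes after translation
* `step` : translation by an element of order `p` for a class that is not pure
* `pred` : purity passes to the predecessor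
* `dvd_p` : structure constants of a pure class at impure classes are divisible by `p`
-/

set_option autoImplicit false

namespace Cfsg.Agent.DihedralBGroup

open DihedralGroup Finset MonoidAlgebra

variable {m : ℕ} [NeZero m]

/-- A function as an element of the group ring. -/
noncomputable def emb {k : Type*} [CommRing k] (f : DihedralGroup m → ℤ) :
    MonoidAlgebra k (DihedralGroup m) := ∑ t, single t (f t : k)

theorem coeff_emb {k : Type*} [CommRing k] (f : DihedralGroup m → ℤ) (h : DihedralGroup m) :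
    (emb f : MonoidAlgebra k (DihedralGroup m)).coeff h = (f h : k) := by
  classical
  simp [emb, MonoidAlgebra.coeff_sum, Finsupp.single_apply, MonoidAlgebra.coeff_single]

theorem emb_mul {k : Type*} [CommRing k] (f g : DihedralGroup m → ℤ) :
    (emb f * emb g : MonoidAlgebra k (DihedralGroup m)) = emb (conv f g) := by
  classical
  ext h
  rw [coeff_emb]
  simp only [emb, sum_mul, mul_sum, MonoidAlgebra.single_mul_single, MonoidAlgebra.coeff_sum,
    Finset.sum_apply', MonoidAlgebra.coeff_single, Finsupp.single_apply, conv, Int.cast_sum,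
    Int.cast_mul]
  rw [Finset.sum_comm]
  refine sum_congr rfl fun t _ => ?_
  rw [sum_eq_single (t⁻¹ * h)]
  · simp
  · intro b _ hb
    exact if_neg fun e => hb (by rw [← e, inv_mul_cancel_left])
  · simp

/-- The rotations as a homomorphism. -/
def rHom (m : ℕ) : Multiplicative (ZMod m) →* DihedralGroup m where
  toFun x := r x.toAdd
  map_one' := rfl
  map_mul' x y := by rw [r_mul_r, toAdd_mul]

/-- The sign of an element: `-1` off the rotations. -/
def sgn : DihedralGroup m →* ℤ where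
  toFun g := match g with
    | .r _ => 1
    | .sr _ => -1
  map_one' := rfl
  map_mul' a b := by
    rcases a with x | x <;> rcases b with y | y <;> simp [r_mul_r, r_mul_sr, sr_mul_r, sr_mul_sr]

namespace Scheme

variable (𝔖 : Scheme m)

theorem emb_pow {k : Type*} [CommRing k] {f : DihedralGroup m → ℤ} (hf : 𝔖.InS f) (n : ℕ) :
    ∃ g, 𝔖.InS g ∧ (emb f : MonoidAlgebra k (DihedralGroup m)) ^ (n + 1) = emb g := by
  induction n with
  | zero => exact ⟨f, hf, pow_one _⟩
  | succ n ih =>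
    obtain ⟨g, hg, he⟩ := ih
    exact ⟨conv g f, 𝔖.inS_conv hg hf, by rw [pow_succ, he, emb_mul]⟩

/-- The `p ^ e`-th power of a class function has a class function as coefficients. -/
theorem pow_prime_fun {p : ℕ} (hp : p.Prime) (hp2 : p ≠ 2) {f : DihedralGroup m → ℤ}
    (hf : 𝔖.InS f) (e : ℕ) :
    ∃ G : DihedralGroup m → ℤ, 𝔖.InS G ∧ (∀ y : ZMod m, (G (r y) : ZMod p) =
        ∑ x ∈ univ.filter (fun x : ZMod m => p ^ e • x = y), (f (r x) : ZMod p)) ∧
      (emb f : MonoidAlgebra (ZMod p) (DihedralGroup m)) ^ (p ^ e) = emb G := by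
  classical
  haveI := Fact.mk hp
  haveI : CharP (MonoidAlgebra (ZMod p) (DihedralGroup m)) p :=
    charP_of_injective_algebraMap (FaithfulSMul.algebraMap_injective (ZMod p) _) p
  haveI : CharP (MonoidAlgebra (ZMod p) (Multiplicative (ZMod m))) p :=
    charP_of_injective_algebraMap (FaithfulSMul.algebraMap_injective (ZMod p) _) p
  have hpos : 0 < p ^ e := pow_pos hp.pos e
  obtain ⟨G, hG, hGe⟩ := 𝔖.emb_pow (k := ZMod p) hf (p ^ e - 1)
  rw [Nat.sub_add_cancel hpos] at hGe
  refine ⟨G, hG, fun y => ?_, hGe⟩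
  set A : MonoidAlgebra (ZMod p) (DihedralGroup m) := ∑ i, single (r i) (f (r i) : ZMod p) with hA
  set N : MonoidAlgebra (ZMod p) (DihedralGroup m) := ∑ i, single (sr i) (f (sr i) : ZMod p)
    with hN
  have hsplit : (emb f : MonoidAlgebra (ZMod p) (DihedralGroup m)) = A + N := sum_dihedral _
  have hcomm : Commute A N := by
    rw [commute_iff_eq, hA, hN, sum_mul_sum, sum_mul_sum, sum_comm]
    refine sum_congr rfl fun j _ => Fintype.sum_equiv (Equiv.neg (ZMod m)) _ _ fun i => ?_
    simp only [Equiv.neg_apply, MonoidAlgebra.single_mul_single, r_mul_sr, sr_mul_r,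
      sub_eq_add_neg]
    rw [mul_comm, ← 𝔖.inS_inv hf (r i), inv_r]
  let Φ : MonoidAlgebra (ZMod p) (DihedralGroup m) →ₐ[ZMod p]
      MonoidAlgebra (ZMod p) (DihedralGroup m) := MonoidAlgebra.lift (ZMod p)
        (MonoidAlgebra (ZMod p) (DihedralGroup m)) (DihedralGroup m)
      { toFun := fun g => single g (sgn g : ZMod p)
        map_one' := by simp [MonoidAlgebra.one_def]
        map_mul' := fun a b => by simp [MonoidAlgebra.single_mul_single] }
  have hΦs : ∀ g c, Φ (single g c) = single g (c * (sgn g : ZMod p)) := fun g c => by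
    simp [Φ, MonoidAlgebra.lift_single, MonoidAlgebra.smul_single']
  have hodd : Odd (p ^ e) := (hp.odd_of_ne_two hp2).pow
  have hΦN : Φ N = -N := by
    rw [hN, map_sum, ← sum_neg_distrib]
    refine sum_congr rfl fun i _ => ?_
    rw [hΦs, show sgn (sr i : DihedralGroup m) = -1 from rfl]
    ext; simp
  have hNr : (N ^ p ^ e).coeff (r y) = 0 := by
    have hcoeff : ∀ Z, (Φ Z).coeff (r y) = Z.coeff (r y) := by
      intro Z
      induction Z using MonoidAlgebra.induction_linear with
      | zero => simp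
      | add a b ha hb => simp [ha, hb]
      | single g c =>
        rw [hΦs]
        rcases g with i | i
        · simp [show sgn (r i : DihedralGroup m) = 1 from rfl]
        · simp [MonoidAlgebra.coeff_single, Finsupp.single_apply]
    have h1 := hcoeff (N ^ p ^ e)
    rw [map_pow, hΦN, hodd.neg_pow, MonoidAlgebra.coeff_neg, Finsupp.neg_apply] at h1
    have h2 : (2 : ZMod p) * (N ^ p ^ e).coeff (r y) = 0 := by linear_combination -h1
    refine (mul_eq_zero.1 h2).resolve_left fun h => hp2 ?_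
    have h' : ((2 : ℕ) : ZMod p) = 0 := by exact_mod_cast h
    rw [ZMod.natCast_eq_zero_iff] at h'
    exact ((Nat.prime_dvd_prime_iff_eq hp Nat.prime_two).1 h')
  have hApow : A ^ p ^ e = ∑ i, single (r (p ^ e • i)) (f (r i) : ZMod p) := by
    have h1 : A = MonoidAlgebra.mapDomainRingHom (ZMod p) (rHom m)
        (∑ i : ZMod m, single (Multiplicative.ofAdd i) (f (r i) : ZMod p)) := by
      rw [hA, map_sum]
      exact sum_congr rfl fun i _ => (MonoidAlgebra.mapDomain_single (f := rHom m)).symm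
    rw [h1, ← map_pow, sum_pow_char_pow, map_sum]
    refine sum_congr rfl fun i _ => ?_
    rw [MonoidAlgebra.single_pow, ZMod.pow_card_pow, ← ofAdd_nsmul]
    exact MonoidAlgebra.mapDomain_single (f := rHom m)
  rw [← coeff_emb G (r y), ← hGe, hsplit, add_pow_char_pow_of_commute (p := p) (n := e) hcomm,
    MonoidAlgebra.coeff_add, Finsupp.add_apply, hNr, add_zero, hApow, MonoidAlgebra.coeff_sum,
    Finset.sum_apply', sum_filter]
  refine sum_congr rfl fun x _ => ?_
  simp [MonoidAlgebra.coeff_single, Finsupp.single_apply]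

theorem nsmul_mem_Q {p : ℕ} (hp : p.Prime) (x : ZMod m) :
    p ^ m.factorization p • x ∈ Q p hp := by
  intro h
  set e := m.factorization p
  have h1 : p * p ^ e ∣ m := by
    have h2 : addOrderOf (p ^ e • x) = addOrderOf x / (addOrderOf x).gcd (p ^ e) :=
      addOrderOf_nsmul' x (pow_ne_zero _ hp.ne_zero)
    rw [h2] at h
    have h3 : (addOrderOf x).gcd (p ^ e) ∣ addOrderOf x := Nat.gcd_dvd_left _ _
    obtain ⟨k, hk⟩ := h
    have h4 : addOrderOf x = (addOrderOf x).gcd (p ^ e) * (p * k) := by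
      rw [← hk]; exact (Nat.mul_div_cancel' h3).symm
    obtain ⟨i, hi, hgi⟩ := (Nat.dvd_prime_pow hp).1 (Nat.gcd_dvd_right (addOrderOf x) (p ^ e))
    rcases Nat.lt_or_ge i e with hlt | hge
    · exfalso
      have : p ^ (i + 1) ∣ (addOrderOf x).gcd (p ^ e) := by
        refine Nat.dvd_gcd ?_ (pow_dvd_pow _ hlt)
        rw [h4, hgi, pow_succ]
        exact mul_dvd_mul_left _ (dvd_mul_right _ _)
      rw [hgi, Nat.pow_dvd_pow_iff_le_right hp.one_lt] at this
      omega
    · rw [show i = e by omega] at hgi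
      refine dvd_trans ?_ (addOrderOf_dvd_m x)
      rw [h4, hgi, mul_comm p (p ^ e)]
      exact mul_dvd_mul_left _ (dvd_mul_right _ _)
  rw [mul_comm, ← pow_succ, hp.pow_dvd_iff_le_factorization (NeZero.ne m)] at h1
  omega

theorem exists_preimage {p : ℕ} (hp : p.Prime) (e : ℕ) {y : ZMod m} (hy : y ∈ Q p hp) :
    ∃ z ∈ Q p hp, p ^ e • z = y ∧ addOrderOf z = addOrderOf y := by
  have hc : (p ^ e).Coprime (addOrderOf y) := (hp.coprime_iff_not_dvd.2 hy).pow_left e
  obtain ⟨k, hk⟩ := exists_nsmul_eq_self_of_coprime hc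
  have h2 : addOrderOf (k • y) ∣ addOrderOf y := addOrderOf_dvd_iff_nsmul_eq_zero.2 (by
    rw [← mul_nsmul', mul_comm, mul_nsmul', addOrderOf_nsmul_eq_zero, nsmul_zero])
  have h1 : p ^ e • k • y = y := by rwa [← mul_nsmul', mul_comm, mul_nsmul']
  refine ⟨k • y, fun h => hy (h.trans h2), h1, Nat.dvd_antisymm h2
    (addOrderOf_dvd_iff_nsmul_eq_zero.2 ?_)⟩
  have h4 := congrArg (fun x => addOrderOf (k • y) • x) h1
  rwa [← mul_nsmul', mul_comm, mul_nsmul', addOrderOf_nsmul_eq_zero, nsmul_zero, eq_comm] at h4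

/-- A class function sums over a fibre of multiplication by `p ^ e` like the difference along `u`. -/
theorem fibre_sum (hR : 𝔖.IsRat) {p : ℕ} (hp : p.Prime) (hpm : p ∣ m)
    {f : DihedralGroup m → ℤ} (hf : 𝔖.InS f) {y u : ZMod m} (hy : y ∈ Q p hp) (hu : p • u = 0)
    (h0 : u ≠ 0) :
    ∑ x ∈ univ.filter (fun x : ZMod m => p ^ m.factorization p • x = y), (f (r x) : ZMod p) =
      (f (r y) : ZMod p) - (f (r (y + u)) : ZMod p) := by
  classical
  haveI := Fact.mk hp
  set e := m.factorization p with he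
  have he1 : 1 ≤ e := hp.factorization_pos_of_dvd (NeZero.ne m) hpm
  obtain ⟨z, hzQ, hz, hzo⟩ := exists_preimage hp e hy
  -- the fibre is the translate of the `p`-part
  set P : Finset (ZMod m) := univ.filter fun w => p ^ e • w = 0 with hP
  have hmap : ∑ x ∈ univ.filter (fun x : ZMod m => p ^ e • x = y), (f (r x) : ZMod p) =
      ∑ w ∈ P, (f (r (z + w)) : ZMod p) := by
    refine sum_nbij' (fun x => x - z) (fun w => z + w) ?_ ?_ ?_ ?_ ?_
    · intro x hx
      simp only [hP, mem_filter, mem_univ, true_and, coe_filter, Set.mem_setOf_eq] at hx ⊢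
      rw [nsmul_sub, hx, hz, sub_self]
    · intro w hw
      simp only [hP, mem_filter, mem_univ, true_and, coe_filter, Set.mem_setOf_eq] at hw ⊢
      rw [nsmul_add, hw, hz, add_zero]
    · intro x _; simp
    · intro w _; simp
    · intro x _; simp
  rw [hmap]
  -- elements of `p`-power order at least `p ^ 2` cancel
  set P1 : Finset (ZMod m) := univ.filter fun w => p • w = 0 with hP1
  have hsub : P1 ⊆ P := fun w hw => by
    simp only [hP1, hP, mem_filter, mem_univ, true_and] at hw ⊢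
    rw [show e = (e - 1) + 1 by omega, pow_succ, mul_nsmul', hw, nsmul_zero]
  have hP1eq : P1 = (Finset.range p).image fun j => j • u := by
    refine (Finset.eq_of_subset_of_card_le (fun w hw => ?_) ?_).symm
    · obtain ⟨j, -, rfl⟩ := Finset.mem_image.1 hw
      simp only [hP1, mem_filter, mem_univ, true_and]
      rw [← mul_nsmul', mul_comm, mul_nsmul', hu, nsmul_zero]
    · have h1 : P1.card ≤ p := by
        refine le_trans (le_of_eq ?_)
          (IsAddCyclic.card_nsmul_eq_zero_le (α := ZMod m) (n := p) hp.pos)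
        rfl
      refine h1.trans (le_of_eq ?_)
      rw [Finset.card_image_of_injOn, Finset.card_range]
      intro i hi j hj hij
      have := addOrderOf_of_prime hp hu h0
      exact nsmul_injOn_Iio_addOrderOf (this.symm ▸ Finset.mem_range.1 hi)
        (this.symm ▸ Finset.mem_range.1 hj) hij
  rw [← Finset.sum_sdiff hsub]
  have hbig : ∑ w ∈ P \ P1, (f (r (z + w)) : ZMod p) = 0 := by
    have hinj : Set.InjOn (fun j : ℕ => j • u) (Finset.range p) := fun i hi j hj hij => by
      have := addOrderOf_of_prime hp hu h0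
      exact nsmul_injOn_Iio_addOrderOf (this.symm ▸ Finset.mem_range.1 hi)
        (this.symm ▸ Finset.mem_range.1 hj) hij
    have hstep : ∀ j : ℕ, ∑ w ∈ P \ P1, (f (r (z + w)) : ZMod p) =
        ∑ w ∈ P \ P1, (f (r (z + (w + j • u))) : ZMod p) := fun j => by
      refine sum_congr rfl fun w hw => ?_
      simp only [Finset.mem_sdiff, hP, hP1, mem_filter, mem_univ, true_and] at hw
      congr 1
      rw [← add_assoc]
      refine hf _ _ (𝔖.translate hR hp ?_ (by rw [← mul_nsmul', mul_comm, mul_nsmul', hu,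
        nsmul_zero]))
      have hw' : p * p ∣ addOrderOf w := by
        obtain ⟨i, hi, hio⟩ := (Nat.dvd_prime_pow hp).1 (addOrderOf_dvd_iff_nsmul_eq_zero.2 hw.1)
        have : 2 ≤ i := by
          by_contra hlt
          refine hw.2 (addOrderOf_dvd_iff_nsmul_eq_zero.1 ?_)
          rw [hio]
          exact (pow_dvd_pow p (show i ≤ 1 by omega)).trans (pow_one p).dvd
        rw [hio, ← pow_two]
        exact pow_dvd_pow _ this
      rw [(AddCommute.all z w).addOrderOf_add_eq_mul_addOrderOf_of_coprime]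
      · exact hw'.trans (dvd_mul_left _ _)
      · obtain ⟨i, -, hio⟩ := (Nat.dvd_prime_pow hp).1 (addOrderOf_dvd_iff_nsmul_eq_zero.2 hw.1)
        rw [hio]
        exact (hp.coprime_iff_not_dvd.2 hzQ).symm.pow_right i
    -- partition into translates of `⟨u⟩`
    let g : ZMod m → ZMod m := fun w => p • w
    rw [← Finset.sum_fiberwise_of_maps_to (g := g) (t := (P \ P1).image g)
      (fun w hw => Finset.mem_image_of_mem g hw)]
    refine sum_eq_zero fun t ht => ?_
    obtain ⟨w0, hw0, rfl⟩ := Finset.mem_image.1 ht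
    have hfib : (P \ P1).filter (fun w => g w = g w0) =
        (Finset.range p).image fun j => w0 + j • u := by
      ext w
      simp only [Finset.mem_filter, Finset.mem_image, g]
      constructor
      · rintro ⟨hw, hgw⟩
        have : w - w0 ∈ P1 := by
          rw [hP1, mem_filter]
          exact ⟨mem_univ _, by rw [nsmul_sub, hgw, sub_self]⟩
        rw [hP1eq, Finset.mem_image] at this
        obtain ⟨j, hj, hju⟩ := this
        exact ⟨j, hj, by rw [hju]; ring⟩
      · rintro ⟨j, -, rfl⟩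
        have hju : p • j • u = 0 := by rw [← mul_nsmul', mul_comm, mul_nsmul', hu, nsmul_zero]
        refine ⟨?_, by rw [nsmul_add, hju, add_zero]⟩
        simp only [Finset.mem_sdiff, hP, hP1, mem_filter, mem_univ, true_and] at hw0 ⊢
        refine ⟨?_, by rw [nsmul_add, hju, add_zero]; exact hw0.2⟩
        rw [nsmul_add, hw0.1, zero_add, show e = (e - 1) + 1 by omega, pow_succ, mul_nsmul', hju,
          nsmul_zero]
    rw [hfib, Finset.sum_image fun i hi j hj h => hinj hi hj (add_left_cancel h)]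
    have : ∀ j ∈ Finset.range p, (f (r (z + (w0 + j • u))) : ZMod p) = f (r (z + w0)) := by
      intro j _
      simp only [Finset.mem_sdiff, hP, hP1, mem_filter, mem_univ, true_and] at hw0
      congr 1
      rw [← add_assoc]
      refine (hf _ _ (𝔖.translate hR hp ?_ (by rw [← mul_nsmul', mul_comm, mul_nsmul', hu,
        nsmul_zero]))).symm
      obtain ⟨i, -, hio⟩ := (Nat.dvd_prime_pow hp).1 (addOrderOf_dvd_iff_nsmul_eq_zero.2 hw0.1)
      have : 2 ≤ i := by
        by_contra hlt
        refine hw0.2 (addOrderOf_dvd_iff_nsmul_eq_zero.1 ?_)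
        rw [hio]
        exact (pow_dvd_pow p (show i ≤ 1 by omega)).trans (pow_one p).dvd
      rw [(AddCommute.all z w0).addOrderOf_add_eq_mul_addOrderOf_of_coprime, hio]
      · exact (show p * p ∣ p ^ i by rw [← pow_two]; exact pow_dvd_pow _ this).trans
          (dvd_mul_left _ _)
      · rw [hio]
        exact (hp.coprime_iff_not_dvd.2 hzQ).symm.pow_right i
    rw [sum_congr rfl this, sum_const, Finset.card_range, nsmul_eq_mul, ZMod.natCast_self,
      zero_mul]
  rw [hbig, zero_add, hP1eq, Finset.sum_image fun i hi j hj h => by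
    have := addOrderOf_of_prime hp hu h0
    exact nsmul_injOn_Iio_addOrderOf (this.symm ▸ Finset.mem_range.1 hi)
      (this.symm ▸ Finset.mem_range.1 hj) h]
  have hrest : ∀ j ∈ (Finset.range p).erase 0,
      (f (r (z + j • u)) : ZMod p) = f (r (y + u)) := by
    intro j hj
    simp only [Finset.mem_erase, Finset.mem_range] at hj
    congr 1
    refine hf _ _ (𝔖.same_order hR ?_)
    have hju : p • j • u = 0 := by rw [← mul_nsmul', mul_comm, mul_nsmul', hu, nsmul_zero]
    have hju0 : j • u ≠ 0 := fun h => by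
      have := Nat.le_of_dvd (by omega) (addOrderOf_dvd_iff_nsmul_eq_zero.2 h)
      rw [addOrderOf_of_prime hp hu h0] at this
      omega
    rw [addOrderOf_add_prime hp hy hu h0, addOrderOf_add_prime hp hzQ hju hju0, hzo]
  rw [← Finset.add_sum_erase _ _ (Finset.mem_range.2 hp.pos), sum_congr rfl hrest, sum_const,
    Finset.card_erase_of_mem (Finset.mem_range.2 hp.pos), Finset.card_range, zero_nsmul, add_zero,
    hf _ _ (𝔖.same_order hR hzo), nsmul_eq_mul, Nat.cast_sub hp.one_lt.le, ZMod.natCast_self]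
  simp [sub_eq_add_neg]

theorem exists_G (hR : 𝔖.IsRat) {p : ℕ} (hp : p.Prime) (hp2 : p ≠ 2) (hpm : p ∣ m)
    {f : DihedralGroup m → ℤ} (hf : 𝔖.InS f) {u : ZMod m} (hu : p • u = 0) (h0 : u ≠ 0) :
    ∃ G : DihedralGroup m → ℤ, 𝔖.InS G ∧
      (emb f : MonoidAlgebra (ZMod p) (DihedralGroup m)) ^ (p ^ m.factorization p) = emb G ∧
      (∀ y ∈ Q p hp, (G (r y) : ZMod p) = (f (r y) : ZMod p) - (f (r (y + u)) : ZMod p)) ∧
      ∀ y ∉ Q p hp, (G (r y) : ZMod p) = 0 := by
  classical
  obtain ⟨G, hG, hGv, hGe⟩ := 𝔖.pow_prime_fun hp hp2 hf (m.factorization p)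
  refine ⟨G, hG, hGe, fun y hy => by rw [hGv, 𝔖.fibre_sum hR hp hpm hf hy hu h0], fun y hy => ?_⟩
  rw [hGv]
  refine sum_eq_zero fun x hx => ?_
  rw [mem_filter] at hx
  exact absurd (hx.2 ▸ nsmul_mem_Q hp x) hy

/-- Translates of elements of one class lie in one class. -/
theorem rule (hR : 𝔖.IsRat) {p : ℕ} (hp : p.Prime) (hp2 : p ≠ 2) (hpm : p ∣ m)
    {y y' u : ZMod m} (hy : y ∈ Q p hp) (hy' : y' ∈ Q p hp) (hu : p • u = 0) (h0 : u ≠ 0)
    (h : 𝔖.R (r y) (r y')) : 𝔖.R (r (y + u)) (r (y' + u)) := by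
  classical
  haveI := Fact.mk hp
  obtain ⟨G, hG, -, hGQ, -⟩ := 𝔖.exists_G hR hp hp2 hpm (𝔖.inS_ind (r (y + u))) hu h0
  have h1 := hGQ y hy
  rw [hG _ _ h, hGQ y' hy', 𝔖.inS_ind (r (y + u)) _ _ h, sub_right_inj] at h1
  unfold Scheme.ind at h1
  rw [if_pos (𝔖.rfl' _)] at h1
  by_contra hc
  rw [if_neg hc] at h1
  simp at h1

/-- An element of an impure class keeps its class under translation. -/
theorem step (hR : 𝔖.IsRat) {p : ℕ} (hp : p.Prime) (hp2 : p ≠ 2) (hpm : p ∣ m)
    {y u : ZMod m} (hy : y ∈ Q p hp) (hu : p • u = 0) (h0 : u ≠ 0)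
    (h : ¬ 𝔖.Pure p hp (r y)) : 𝔖.R (r y) (r (y + u)) := by
  classical
  haveI := Fact.mk hp
  obtain ⟨G, hG, -, hGQ, hGn⟩ := 𝔖.exists_G hR hp hp2 hpm (𝔖.inS_ind (r y)) hu h0
  simp only [Scheme.Pure, not_forall] at h
  obtain ⟨x, hxX, hxQ⟩ := h
  have h1 := hGQ y hy
  rw [hG _ _ (𝔖.mem_X.1 hxX), hGn x hxQ] at h1
  unfold Scheme.ind at h1
  rw [if_pos (𝔖.rfl' _)] at h1
  by_contra hc
  rw [if_neg hc] at h1
  simp at h1

/-- Purity at `p` passes from a class to its predecessor at another prime. -/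
theorem pred (hR : 𝔖.IsRat) {p q : ℕ} (hp : p.Prime) (hp2 : p ≠ 2) (hpm : p ∣ m) (hq : q.Prime)
    (hq2 : q ≠ 2) (hqm : q ∣ m) (hpq : p ≠ q) {s : DihedralGroup m} (hs : 𝔖.Pure p hp s)
    {w v : ZMod m} (hw : w ∈ Q q hq) (hv : q • v = 0) (hv0 : v ≠ 0) (hwv : w + v ∈ 𝔖.X s) :
    𝔖.Pure p hp (r w) := by
  obtain ⟨u, hu, hu0⟩ := exists_prime_elt hp hpm
  have hvQ : v ∈ Q p hp := mem_Q_of_prime hp hq hpq hv
  have hwQ : w ∈ Q p hp := by
    have := (Q p hp).sub_mem (hs _ hwv) hvQ
    rwa [add_sub_cancel_right] at this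
  by_contra hW
  have h1 := 𝔖.step hR hp hp2 hpm hwQ hu hu0 hW
  by_cases hWB : 𝔖.R s (r w)
  · exact hW ((𝔖.pure_congr hp hWB).1 hs)
  have huQ : u ∈ Q q hq := mem_Q_of_prime hq hp (Ne.symm hpq) hu
  have h2 := 𝔖.rule hR hq hq2 hqm hw ((Q q hq).add_mem hw huQ) hv hv0 h1
  have h3 : w + u + v ∈ Q p hp := hs _ (𝔖.mem_X.2 (𝔖.trans' (𝔖.mem_X.1 hwv) h2))
  rw [show w + u + v = w + v + u by ring] at h3
  exact add_notMem_Q hp (hs _ hwv) hu hu0 h3

/-- Structure constants of a pure class at impure classes are divisible by `p`. -/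
theorem dvd_p (hm : 2 ≤ m) (hR : 𝔖.IsRat) {p : ℕ} (hp : p.Prime) (hp2 : p ≠ 2) (hpm : p ∣ m)
    {s l : DihedralGroup m} (hs : 𝔖.Pure p hp s) (hl : ¬ 𝔖.Pure p hp l) :
    (p : ℤ) ∣ 𝔖.p s l := by
  classical
  haveI := Fact.mk hp
  obtain ⟨u, hu, hu0⟩ := exists_prime_elt hp hpm
  obtain ⟨G, hG, hGe, hGQ, hGn⟩ := 𝔖.exists_G hR hp hp2 hpm (𝔖.inS_ind s) hu hu0
  have hGf : (emb G : MonoidAlgebra (ZMod p) (DihedralGroup m)) = emb (𝔖.ind s) := by
    have key : ∀ h, (G h : ZMod p) = (𝔖.ind s h : ZMod p) := by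
      intro h
      obtain ⟨y, hy⟩ : ∃ y, 𝔖.R h (r y) := by
        by_cases h1 : h = 1
        · exact ⟨0, by rw [h1, r_zero]; exact 𝔖.rfl' _⟩
        · obtain ⟨y, hy⟩ := 𝔖.exists_mem_X hm h1
          exact ⟨y, 𝔖.mem_X.1 hy⟩
      rw [hG _ _ hy, 𝔖.inS_ind s _ _ hy]
      by_cases hyQ : y ∈ Q p hp
      · rw [hGQ y hyQ, 𝔖.ind_r s (y + u),
          if_neg fun h => add_notMem_Q hp hyQ hu hu0 (hs _ h), Int.cast_zero, sub_zero]
      · rw [hGn y hyQ, 𝔖.ind_r, if_neg fun h => hyQ (hs _ h), Int.cast_zero]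
    ext h
    rw [coeff_emb, coeff_emb, key]
  obtain ⟨G2, hG2, hG2e, -, hG2n⟩ :=
    𝔖.exists_G hR hp hp2 hpm (𝔖.inS_conv (𝔖.inS_ind s) (𝔖.inS_ind s)) hu hu0
  simp only [Scheme.Pure, not_forall] at hl
  obtain ⟨x, hxX, hxQ⟩ := hl
  have h1 : (emb G2 : MonoidAlgebra (ZMod p) (DihedralGroup m)) =
      emb (conv (𝔖.ind s) (𝔖.ind s)) := by
    rw [← hG2e, ← emb_mul, ← pow_two, ← pow_mul, mul_comm, pow_mul, hGe, hGf]
  have h2 := congrArg (fun Z => MonoidAlgebra.coeff Z (r x)) h1
  simp only [coeff_emb] at h2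
  rw [hG2n x hxQ] at h2
  rw [← ZMod.intCast_zmod_eq_zero_iff_dvd, 𝔖.p_congr s (𝔖.mem_X.1 hxX)]
  exact h2.symm

end Scheme

end Cfsg.Agent.DihedralBGroup
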