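import Cfsg.Agent.Lib.DihedralBGroup.TwoPart

/-!
# Some odd prime has no pure class

* `near_periodic` : translation by a prime order element inside a class that is impure there
* `good` : a pure class containing such an element is impossible
* `exists_all_impure` : some odd prime divisor has no pure class
-/

set_option autoImplicit false

namespace Cfsg.Agent.DihedralBGroup

open DihedralGroup Finset

variable {m : ℕ} [NeZero m]

/-- The decomposition of an element at a prime dividing its order once. -/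
theorem split_at {q : ℕ} (hq : q.Prime) {x v : ZMod m} (hv : q • v = 0) (hv0 : v ≠ 0)
    (hd : q ∣ addOrderOf x) (hsq : ¬ q * q ∣ addOrderOf x) :
    ∃ y ∈ Q q hq, ∃ j : ℕ, ¬ q ∣ j ∧ x = y + j • v := by
  have hvo := addOrderOf_of_prime hq hv hv0
  obtain ⟨o, ho⟩ := hd
  have hqo : ¬ q ∣ o := fun h => hsq (ho ▸ Nat.mul_dvd_mul_left q h)
  obtain ⟨α, hα⟩ := Nat.exists_mul_mod_eq_one_of_coprime
    (hq.coprime_iff_not_dvd.2 hqo).symm hq.one_lt
  have hw : q • (α * o) • x = 0 := by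
    rw [← mul_nsmul', show q * (α * o) = α * (q * o) by ring, ← ho, mul_nsmul',
      addOrderOf_nsmul_eq_zero, nsmul_zero]
  obtain ⟨j, hj⟩ := exists_nsmul (x := v) (y := (α * o) • x)
    (hvo ▸ addOrderOf_dvd_iff_nsmul_eq_zero.2 hw)
  have hyQ : x - (α * o) • x ∈ Q q hq := by
    intro h
    refine hqo (h.trans (addOrderOf_dvd_iff_nsmul_eq_zero.2 ?_))
    have hmod : α * o = q * (α * o / q) + 1 := by
      have := Nat.div_add_mod (α * o) q
      rw [mul_comm o α] at hα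
      omega
    rw [nsmul_sub, ← mul_nsmul' x o (α * o), hmod, mul_add, mul_one, add_nsmul,
      sub_add_cancel_right, neg_eq_zero, ← mul_assoc, mul_comm o q, ← ho, mul_nsmul,
      addOrderOf_nsmul_eq_zero]
    simp
  refine ⟨_, hyQ, j, fun hqj => ?_, by rw [hj, sub_add_cancel]⟩
  obtain ⟨j', rfl⟩ := hqj
  rw [mul_nsmul, hv, nsmul_zero] at hj
  rw [← hj, sub_zero] at hyQ
  exact hyQ (by rw [ho]; exact dvd_mul_right q o)

namespace Scheme

variable (𝔖 : Scheme m)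

theorem near_periodic (hR : 𝔖.IsRat) {q : ℕ} (hq : q.Prime) (hq2 : q ≠ 2) (hqm : q ∣ m)
    {s : DihedralGroup m} (hs : ¬ 𝔖.Pure q hq s) {v : ZMod m} (hv : q • v = 0) (hv0 : v ≠ 0)
    (hW : ∀ y ∈ Q q hq, y ≠ 0 → y + v ∈ 𝔖.X s → ¬ 𝔖.Pure q hq (r y))
    {x : ZMod m} (hx : x ∈ 𝔖.X s) (hxV : x ∉ AddSubgroup.zmultiples v) : x + v ∈ 𝔖.X s := by
  refine 𝔖.mem_X.2 (𝔖.trans' (𝔖.mem_X.1 hx) ?_)
  by_cases hxQ : x ∈ Q q hq
  · exact 𝔖.step hR hq hq2 hqm hxQ hv hv0 fun h => hs ((𝔖.pure_congr hq (𝔖.mem_X.1 hx)).2 h)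
  rw [mem_Q, not_not] at hxQ
  by_cases hsq : q * q ∣ addOrderOf x
  · exact 𝔖.translate hR hq hsq hv
  obtain ⟨y, hyQ, j, hj, rfl⟩ := split_at hq hv hv0 hxQ hsq
  have hy0 : y ≠ 0 := fun h => hxV (by
    rw [h, zero_add]; exact AddSubgroup.nsmul_mem_zmultiples v j)
  have h1 := 𝔖.same_step hR hq hyQ hv hv0 hj
  have himp := hW y hyQ hy0 (𝔖.mem_X.2 (𝔖.trans' (𝔖.mem_X.1 hx) (𝔖.symm' h1)))
  have key : ∀ i : ℕ, 𝔖.R (r y) (r (y + i • v)) := by
    intro i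
    by_cases hi : q ∣ i
    · obtain ⟨i', rfl⟩ := hi
      rw [mul_nsmul, hv, nsmul_zero, add_zero]
      exact 𝔖.rfl' _
    · exact 𝔖.trans' (𝔖.step hR hq hq2 hqm hyQ hv hv0 himp) (𝔖.same_step hR hq hyQ hv hv0 hi)
  rw [add_assoc, ← succ_nsmul]
  exact 𝔖.trans' (𝔖.symm' (key j)) (key (j + 1))

theorem order_of_multiple {q : ℕ} (hq : q.Prime) {v w : ZMod m} (hv : q • v = 0)
    (hw : w ∈ AddSubgroup.zmultiples v) (hw0 : w ≠ 0) : addOrderOf w = q := by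
  refine addOrderOf_of_prime hq ?_ hw0
  obtain ⟨j, rfl⟩ := mem_multiples_iff_mem_zmultiples.2 hw
  show q • j • v = 0
  rw [← mul_nsmul', mul_comm, mul_nsmul', hv, nsmul_zero]

/-- A pure class containing an element of prime order at an impure prime is impossible. -/
theorem good (hm : 2 ≤ m) (hR : 𝔖.IsRat) {p q : ℕ} (hp : p.Prime) (hp5 : 5 ≤ p) (hpm : p ∣ m)
    (hq : q.Prime) (hq2 : q ≠ 2) {s : DihedralGroup m} (hs1 : s ≠ 1) (hs : 𝔖.Pure p hp s)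
    {v : ZMod m} (hv : q • v = 0) (hv0 : v ≠ 0) (hvX : v ∈ 𝔖.X s)
    (hper : ∀ x ∈ 𝔖.X s, x ∉ AddSubgroup.zmultiples v → x + v ∈ 𝔖.X s) : False := by
  classical
  have hvo := addOrderOf_of_prime hq hv hv0
  set a := (𝔖.X s).card with ha
  set c := (𝔖.Y s).card with hc
  have hxx : a - 1 ≤ 𝔖.xx s v := by
    rw [ha, ← card_erase_of_mem hvX]
    refine card_le_card fun x hx => mem_filter.2 ⟨(mem_erase.1 hx).2, ?_⟩
    rw [mem_erase] at hx
    have hnx := 𝔖.neg_mem_X hx.2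
    rw [sub_eq_add_neg, add_comm]
    by_cases hxV : -x ∈ AddSubgroup.zmultiples v
    · have h0 : -x + v ≠ 0 := fun h => hx.1 (by
        rw [neg_add_eq_zero] at h; exact h)
      exact 𝔖.mem_X_order hR (hvo.trans (order_of_multiple hq hv
        (add_mem hxV (AddSubgroup.mem_zmultiples v)) h0).symm) hvX
    · exact hper _ hnx hxV
  have ha2 : 2 ≤ a := by
    have hne : -v ≠ v := fun h => hq2 (by
      refine (Nat.prime_dvd_prime_iff_eq hq Nat.prime_two).1 ?_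
      rw [← hvo, addOrderOf_dvd_iff_nsmul_eq_zero, two_nsmul]
      conv_lhs => arg 1; rw [← h]
      exact neg_add_cancel v)
    have h2 : ({v, -v} : Finset (ZMod m)) ⊆ 𝔖.X s := by
      intro x hx
      rw [mem_insert, mem_singleton] at hx
      rcases hx with rfl | rfl
      exacts [hvX, 𝔖.neg_mem_X hvX]
    exact (card_pair (Ne.symm hne)) ▸ card_le_card h2
  have hlam : (a : ℤ) - 1 ≤ 𝔖.p s s := by
    rw [𝔖.p_congr s (𝔖.mem_X.1 hvX), 𝔖.p_r]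
    omega
  have hc2a : c < 2 * a := by
    have h1 := (𝔖.reached s s (by omega)).2 ⟨v, hvX, by omega⟩ (by omega)
    rw [← ha, ← hc] at h1
    by_contra h2
    push Not at h2
    have h2' : (2 * a : ℤ) ≤ c := by exact_mod_cast h2
    have : 0 ≤ ((c : ℤ) - 2 * a) * ((c : ℤ) + a) := mul_nonneg (by linarith) (by positivity)
    linarith
  obtain ⟨u, hu, hu0⟩ := exists_prime_elt hp hpm
  have hKt : (Q p hp : AddSubgroup (ZMod m)) ≠ ⊤ := by
    intro h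
    have h' : u ∈ Q p hp := h ▸ AddSubgroup.mem_top u
    exact h' (addOrderOf_of_prime hp hu hu0).symm.dvd
  obtain ⟨k, hk⟩ : ∃ k, (Q p hp : AddSubgroup (ZMod m)).index = p ^ k := by
    obtain ⟨hd, hπ⟩ := exists_proj (Q p hp : AddSubgroup (ZMod m))
    have h1 := nsmul_mem_Q hp (1 : ZMod m)
    rw [hπ, nsmul_eq_mul, mul_one, map_natCast, ZMod.natCast_eq_zero_iff] at h1
    obtain ⟨k, -, hk⟩ := (Nat.dvd_prime_pow hp).1 h1
    exact ⟨k, hk⟩
  have hodd : Odd (Q p hp : AddSubgroup (ZMod m)).index :=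
    hk ▸ (hp.odd_of_ne_two (by omega)).pow
  rcases 𝔖.few_cosets hm hR hs1 hKt hodd hs hc2a (by rw [← ha]; linarith) with h | ⟨-, n, hn, h0, h1⟩
  · rw [hk] at h
    rcases Nat.eq_zero_or_pos k with rfl | hk0
    · norm_num at h
    · have := Nat.le_self_pow (Nat.pos_iff_ne_zero.1 hk0) p
      omega
  · exact 𝔖.no_seven hm hR hKt hn h0 h1

open Classical in
/-- The odd primes at which a class is pure. -/
noncomputable def pureSet (s : DihedralGroup m) : Finset ℕ :=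
  (m.primeFactors.erase 2).filter fun p => ∀ x ∈ 𝔖.X s, ¬ p ∣ addOrderOf x

theorem mem_pureSet {s : DihedralGroup m} {p : ℕ} :
    p ∈ 𝔖.pureSet s ↔ ∃ hp : p.Prime, p ≠ 2 ∧ p ∣ m ∧ 𝔖.Pure p hp s := by
  classical
  simp only [pureSet, mem_filter, mem_erase, Nat.mem_primeFactors]
  constructor
  · rintro ⟨⟨h2, hp, hd, -⟩, h⟩
    exact ⟨hp, h2, hd, h⟩
  · rintro ⟨hp, h2, hd, h⟩
    exact ⟨⟨h2, hp, hd, NeZero.ne m⟩, h⟩

theorem pureSet_congr {s t : DihedralGroup m} (h : 𝔖.R s t) : 𝔖.pureSet s = 𝔖.pureSet t := by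
  simp only [pureSet, 𝔖.X_congr h]

/-- A maximally pure class is impure only at three. -/
theorem impure_eq_three (hm : 2 ≤ m) (hR : 𝔖.IsRat) {p : ℕ} (hp : p.Prime) (hp5 : 5 ≤ p)
    {s : DihedralGroup m} (hs1 : s ≠ 1) (hps : p ∈ 𝔖.pureSet s)
    (hmax : ∀ t, t ≠ 1 → 𝔖.pureSet s ⊆ 𝔖.pureSet t → 𝔖.pureSet t = 𝔖.pureSet s)
    {q : ℕ} (hq : q.Prime) (hq2 : q ≠ 2) (hqm : q ∣ m) (hqs : q ∉ 𝔖.pureSet s) : q = 3 := by
  classical
  obtain ⟨v, hv, hv0⟩ := exists_prime_elt hq hqm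
  have hvo := addOrderOf_of_prime hq hv hv0
  obtain ⟨_, hp2, hpm, hpP⟩ := 𝔖.mem_pureSet.1 hps
  have hW : ∀ (s' : DihedralGroup m), s' ≠ 1 → 𝔖.pureSet s ⊆ 𝔖.pureSet s' →
      ∀ y ∈ Q q hq, y ≠ 0 → y + v ∈ 𝔖.X s' → ¬ 𝔖.Pure q hq (r y) := by
    intro s' _ hsub y hy hy0 hyv hpure
    have hsub' : 𝔖.pureSet s ⊆ 𝔖.pureSet (r y) := by
      intro l hl
      obtain ⟨hl', hl2, hlm, hlP⟩ := 𝔖.mem_pureSet.1 (hsub hl)
      have hlq : l ≠ q := fun e => hqs (e ▸ hl)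
      exact 𝔖.mem_pureSet.2
        ⟨hl', hl2, hlm, 𝔖.pred hR hl' hl2 hlm hq hq2 hqm hlq hlP hy hv hv0 hyv⟩
    have := hmax _ (r_ne_one hy0) hsub'
    exact hqs (this ▸ 𝔖.mem_pureSet.2 ⟨hq, hq2, hqm, hpure⟩)
  have himp : ∀ s', s' ≠ 1 → 𝔖.pureSet s ⊆ 𝔖.pureSet s' → ¬ 𝔖.Pure q hq s' := fun s' h1 h h' =>
    hqs (hmax s' h1 h ▸ 𝔖.mem_pureSet.2 ⟨hq, hq2, hqm, h'⟩)
  -- a maximal class containing `v` is impossible
  have hnov : ∀ s', s' ≠ 1 → 𝔖.pureSet s ⊆ 𝔖.pureSet s' → v ∉ 𝔖.X s' := by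
    intro s' h1 hsub hvX
    obtain ⟨_, _, _, hP⟩ := 𝔖.mem_pureSet.1 (hsub hps)
    exact 𝔖.good hm hR hp hp5 hpm hq hq2 h1 hP hv hv0 hvX fun x hx hxV =>
      𝔖.near_periodic hR hq hq2 hqm (himp s' h1 hsub) hv hv0 (hW s' h1 hsub) hx hxV
  have hvX := hnov s hs1 (subset_refl _)
  obtain ⟨l, hl, hlv⟩ : ∃ l ∈ 𝔖.pureSet s, l ∉ 𝔖.pureSet (r v) := by
    by_contra h
    push Not at h
    exact hnov (r v) (r_ne_one hv0) h (𝔖.self_mem_X v)
  obtain ⟨hl', hl2, hlm, hlP⟩ := 𝔖.mem_pureSet.1 hl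
  obtain ⟨u, hu, hu0⟩ := exists_prime_elt hl' hlm
  have hlq : l ≠ q := fun e => hqs (e ▸ hl)
  have hnotV : ∀ x ∈ 𝔖.X s, x ∉ AddSubgroup.zmultiples v := fun x hx hxV => hvX
    (𝔖.mem_X_order hR ((order_of_multiple hq hv hxV fun e => 𝔖.zero_notMem_X hs1 (e ▸ hx)).trans
      hvo.symm) hx)
  have hper : ∀ w ∈ AddSubgroup.zmultiples v, ∀ x ∈ 𝔖.X s, x + w ∈ 𝔖.X s := by
    intro w hw x hx
    obtain ⟨j, rfl⟩ := mem_multiples_iff_mem_zmultiples.2 hw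
    show x + j • v ∈ 𝔖.X s
    clear hw
    induction j with
    | zero => simpa using hx
    | succ j ih =>
      rw [succ_nsmul, ← add_assoc]
      exact 𝔖.near_periodic hR hq hq2 hqm (himp s hs1 (subset_refl _)) hv hv0
        (hW s hs1 (subset_refl _)) ih (hnotV _ ih)
  have hle := 𝔖.subgroup_le hR hl' hl2 hlm hlP (AddSubgroup.zmultiples v)
    (fun w hw => (AddSubgroup.zmultiples_le.2 (mem_Q_of_prime hl' hq hlq hv)) hw) hper
    (fun w hw hw0 hpure => hlv (𝔖.mem_pureSet.2 ⟨hl', hl2, hlm, (𝔖.pure_congr hl'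
      (𝔖.same_order hR ((order_of_multiple hq hv hw hw0).trans hvo.symm))).1 hpure⟩)) hu hu0
  rw [Nat.card_zmultiples, hvo] at hle
  by_contra hq3
  have hq5 : 5 ≤ q := by
    have := hq.two_le
    have h4 : q ≠ 4 := fun e => by rw [e] at hq; norm_num at hq
    omega
  refine 𝔖.kill hm hR hl' hl2 hlm hs1 hlP fun t ht htP => ?_
  by_contra hne
  have hpos : 0 < 𝔖.p s t := lt_of_le_of_ne (𝔖.p_nonneg s t) (Ne.symm hne)
  have h1 := (𝔖.reached s t hpos).1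
  have h2 := 𝔖.card_X_lt hm hR hl' hl2 hlm ht htP
  have h3 : 4 * (𝔖.X s).card ≤ (q - 1) * (𝔖.X s).card := Nat.mul_le_mul_right _ (by omega)
  have h4 : (4 : ℤ) * (𝔖.X s).card ≤ (𝔖.Y s).card := by exact_mod_cast (by omega :
    4 * (𝔖.X s).card ≤ (𝔖.Y s).card)
  have h5 : ((𝔖.X t).card : ℤ) + 1 ≤ (𝔖.Y t).card := by exact_mod_cast h2
  have ha : (0 : ℤ) < (𝔖.X s).card := by exact_mod_cast card_pos.2 (𝔖.exists_mem_X hm hs1)
  nlinarith

/-- Some odd prime divisor has no pure class. -/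
theorem exists_all_impure (hm : 2 ≤ m) (hR : 𝔖.IsRat) {ν O : ℕ} (hmO : m = 2 ^ ν * O) (hO : Odd O)
    (hO1 : 1 < O) :
    ∃ q, ∃ hq : q.Prime, q ≠ 2 ∧ q ∣ m ∧ ∀ s, s ≠ 1 → ¬ 𝔖.Pure q hq s := by
  classical
  by_contra hno
  push Not at hno
  obtain ⟨q0, hq0, hq0O⟩ := Nat.exists_prime_and_dvd (show O ≠ 1 by omega)
  have hq02 : q0 ≠ 2 := fun e => Nat.not_even_iff_odd.2 hO (even_iff_two_dvd.2 (e ▸ hq0O))
  have hq0m : q0 ∣ m := hq0O.trans (hmO ▸ dvd_mul_left _ _)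
  -- some prime at least five
  obtain ⟨p, hp, hp5, hpm⟩ : ∃ p, p.Prime ∧ 5 ≤ p ∧ p ∣ m := by
    by_contra h
    push Not at h
    have h3 : ∀ l : ℕ, l.Prime → l ≠ 2 → l ∣ m → l = 3 := fun l hl hl2 hlm => by
      by_contra hl3
      have h4 : l ≠ 4 := fun e => by rw [e] at hl; norm_num at hl
      have := hl.two_le
      exact h l hl (by omega) hlm
    obtain ⟨s, hs1, hsP⟩ := hno q0 hq0 hq02 hq0m
    refine 𝔖.no_two hm hR hmO hO hO1 hs1 ?_
    by_contra hns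
    obtain ⟨l, hl, hl2, hlm, hlP⟩ := 𝔖.exists_impure hmO hO hns
    obtain rfl : l = q0 := (h3 l hl hl2 hlm).trans (h3 q0 hq0 hq02 hq0m).symm
    exact hlP hsP
  have hp2 : p ≠ 2 := by omega
  obtain ⟨s0, hs01, hs0P⟩ := hno p hp hp2 hpm
  -- maximal extensions
  have hmaxex : ∀ t, t ≠ 1 → ∃ s, s ≠ 1 ∧ 𝔖.pureSet t ⊆ 𝔖.pureSet s ∧
      ∀ l, l ≠ 1 → 𝔖.pureSet s ⊆ 𝔖.pureSet l → 𝔖.pureSet l = 𝔖.pureSet s := by
    intro t ht
    obtain ⟨s, hs, hmax⟩ := exists_max_image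
      (univ.filter fun s => s ≠ 1 ∧ 𝔖.pureSet t ⊆ 𝔖.pureSet s) (fun s => (𝔖.pureSet s).card)
      ⟨t, mem_filter.2 ⟨mem_univ _, ht, subset_refl _⟩⟩
    rw [mem_filter] at hs
    exact ⟨s, hs.2.1, hs.2.2, fun l hl hsub => (eq_of_subset_of_card_le hsub
      (hmax l (mem_filter.2 ⟨mem_univ _, hl, hs.2.2.trans hsub⟩))).symm⟩
  have hnot3 : ∀ t, t ≠ 1 → 𝔖.Pure p hp t → (3 ∈ m.primeFactors ∧ 3 ∉ 𝔖.pureSet t) := by
    intro t ht htP
    obtain ⟨s, hs1, hsub, hmax⟩ := hmaxex t ht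
    have hps : p ∈ 𝔖.pureSet s := hsub (𝔖.mem_pureSet.2 ⟨hp, hp2, hpm, htP⟩)
    obtain ⟨l, hl, hl2, hlm, hlP⟩ := 𝔖.exists_impure hmO hO (𝔖.no_two hm hR hmO hO hO1 hs1)
    have hls : l ∉ 𝔖.pureSet s := fun h => hlP (𝔖.mem_pureSet.1 h).choose_spec.2.2
    have hl3 := 𝔖.impure_eq_three hm hR hp hp5 hs1 hps hmax hl hl2 hlm hls
    subst hl3
    exact ⟨Nat.mem_primeFactors.2 ⟨hl, hlm, NeZero.ne m⟩, fun h => hls (hsub h)⟩
  have h3 := Nat.prime_three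
  have h3m : 3 ∣ m := (Nat.mem_primeFactors.1 (hnot3 s0 hs01 hs0P).1).2.1
  have h32 : (3 : ℕ) ≠ 2 := by norm_num
  have hp3 : p ≠ 3 := by omega
  obtain ⟨v, hv, hv0⟩ := exists_prime_elt h3 h3m
  have hvo := addOrderOf_of_prime h3 hv hv0
  set V := AddSubgroup.zmultiples v with hV
  have himp3 : ∀ t, t ≠ 1 → 𝔖.Pure p hp t → ¬ 𝔖.Pure 3 h3 t := fun t ht htP h =>
    (hnot3 t ht htP).2 (𝔖.mem_pureSet.2 ⟨h3, h32, h3m, h⟩)
  have hnear : ∀ t, t ≠ 1 → 𝔖.Pure p hp t → ∀ x ∈ 𝔖.X t, x ∉ V → x + v ∈ 𝔖.X t := by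
    intro t ht htP x hx hxV
    exact 𝔖.near_periodic hR h3 h32 h3m (himp3 t ht htP) hv hv0 (fun y hy hy0 hyv hpure =>
      himp3 _ (r_ne_one hy0) (𝔖.pred hR hp hp2 hpm h3 h32 h3m hp3 htP hy hv hv0 hyv) hpure) hx hxV
  have hvnot : ∀ t, t ≠ 1 → 𝔖.Pure p hp t → v ∉ 𝔖.X t := fun t ht htP hvX =>
    𝔖.good hm hR hp hp5 hpm h3 h32 ht htP hv hv0 hvX (hnear t ht htP)
  have hvimp : ¬ 𝔖.Pure p hp (r v) := fun h => hvnot _ (r_ne_one hv0) h (𝔖.self_mem_X v)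
  have himpV : ∀ w ∈ V, w ≠ 0 → ¬ 𝔖.Pure p hp (r w) := fun w hw hw0 h => hvimp
    ((𝔖.pure_congr hp (𝔖.same_order hR ((order_of_multiple h3 hv hw hw0).trans hvo.symm))).1 h)
  have hVQ : ∀ w ∈ V, w ∈ Q p hp := fun w hw =>
    (AddSubgroup.zmultiples_le.2 (mem_Q_of_prime hp h3 hp3 hv)) hw
  have hnotV : ∀ t, t ≠ 1 → 𝔖.Pure p hp t → ∀ x ∈ 𝔖.X t, x ∉ V := fun t ht htP x hx hxV =>
    hvnot t ht htP (𝔖.mem_X_order hR ((order_of_multiple h3 hv hxV fun e =>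
      𝔖.zero_notMem_X ht (e ▸ hx)).trans hvo.symm) hx)
  have hper : ∀ t, t ≠ 1 → 𝔖.Pure p hp t → ∀ w ∈ V, ∀ x ∈ 𝔖.X t, x + w ∈ 𝔖.X t := by
    intro t ht htP w hw x hx
    obtain ⟨j, rfl⟩ := mem_multiples_iff_mem_zmultiples.2 hw
    show x + j • v ∈ 𝔖.X t
    clear hw
    induction j with
    | zero => simpa using hx
    | succ j ih =>
      rw [succ_nsmul, ← add_assoc]
      exact hnear t ht htP _ ih (hnotV t ht htP _ ih)
  obtain ⟨u, hu, hu0⟩ := exists_prime_elt hp hpm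
  have hVc : Nat.card V = 3 := by rw [hV, Nat.card_zmultiples, hvo]
  have hlong : ∀ t, t ≠ 1 → 𝔖.Pure p hp t →
      𝔖.yy t u + 2 * (𝔖.X t).card ≤ (𝔖.Y t).card := fun t ht htP => by
    have := 𝔖.subgroup_le hR hp hp2 hpm htP V hVQ (hper t ht htP) himpV hu hu0
    rw [hVc] at this
    exact this
  set a := (𝔖.X s0).card with ha
  set c := (𝔖.Y s0).card with hc
  have ha0 : (0 : ℤ) < a := by exact_mod_cast card_pos.2 (𝔖.exists_mem_X hm hs01)
  have hratio : ∀ l, l ≠ 1 → 𝔖.Pure p hp l → 2 * ((𝔖.X l).card : ℤ) ≤ (𝔖.Y l).card :=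
    fun l hl hlP => by
      have := hlong l hl hlP
      omega
  have hceq : c = 2 * a := by
    have := hlong s0 hs01 hs0P
    by_contra hne
    have hgt : (2 * a : ℤ) < c := by omega
    refine 𝔖.kill hm hR hp hp2 hpm hs01 hs0P fun l hl hlP => ?_
    by_contra hne'
    have h1 := (𝔖.reached s0 l (lt_of_le_of_ne (𝔖.p_nonneg s0 l) (Ne.symm hne'))).1
    have h2 := hratio l hl hlP
    have hal : (0 : ℤ) < (𝔖.Y l).card := by exact_mod_cast card_pos.2 (𝔖.exists_mem_Y hm hl)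
    rw [← ha, ← hc] at h1
    nlinarith
  have hbound := 𝔖.subgroup_bound hR hp hp2 hpm hs0P V hVQ (hper s0 hs01 hs0P) himpV hu hu0
  rw [hVc] at hbound
  have hle := 𝔖.cosetSum_le s0 V u
  have hSeq : 𝔖.cosetSum s0 V u = 𝔖.cosetSum s0 V 0 := by omega
  have hperiod : ∀ w, 𝔖.cosetSum s0 V (w + u) = 𝔖.cosetSum s0 V w := by
    intro w
    have h1 := 𝔖.cnt_corr s0 V (w + u)
    rw [sum_congr rfl (g := fun x => 𝔖.cnt s0 V x * 𝔖.cnt s0 V (x + w)) fun x _ => by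
      rw [show x + (w + u) = (x + w) + u by ring, 𝔖.cosetSum_eq s0 V hSeq],
      𝔖.cnt_corr s0 V w] at h1
    have hpos : 0 < Nat.card V := by rw [hVc]; norm_num
    exact (Nat.eq_of_mul_eq_mul_left hpos h1).symm
  have hxx0 : ∀ k, k ∉ V → 𝔖.xx s0 k = 0 := by
    intro k hk
    by_contra hne
    have hkQ : k ∈ Q p hp := by_contra fun h => hne (𝔖.xx_eq_zero_of_notMem hs0P h)
    have hxxw : ∀ w ∈ V, 𝔖.xx s0 (w + k) = 𝔖.xx s0 k := by
      intro w hw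
      unfold Scheme.xx
      congr 1
      refine filter_congr fun x _ => ?_
      constructor
      · intro h
        have := hper s0 hs01 hs0P _ (V.neg_mem hw) _ h
        rwa [show w + k - x + -w = k - x by ring] at this
      · intro h
        have := hper s0 hs01 hs0P _ hw _ h
        rwa [show k - x + w = w + k - x by ring] at this
    have hstep : ∀ w ∈ V, 𝔖.yy s0 (w + (k + u)) = 𝔖.yy s0 (w + k) + 𝔖.xx s0 k := by
      intro w hw
      have hwk : w + k ∈ Q p hp := (Q p hp).add_mem (hVQ w hw) hkQ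
      have hwk0 : w + k ≠ 0 := fun e => hk (by
        rw [eq_neg_of_add_eq_zero_right e]; exact V.neg_mem hw)
      have himp : ¬ 𝔖.Pure p hp (r (w + k)) := by
        intro hpure
        have hpos : 0 < 𝔖.p s0 (r (w + k)) := by
          rw [𝔖.p_r, hxxw w hw]
          omega
        have h1 := (𝔖.reached s0 (r (w + k)) hpos).2
          ⟨w + k, 𝔖.self_mem_X _, by rw [hxxw w hw]; omega⟩ (by omega)
        have h2 := hratio _ (r_ne_one hwk0) hpure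
        rw [← ha, ← hc, hceq] at h1
        push_cast at h1
        nlinarith
      have h2 := 𝔖.p_congr s0 (𝔖.step hR hp hp2 hpm hwk hu hu0 himp)
      rw [𝔖.p_r, 𝔖.p_r, hxxw w hw,
        𝔖.xx_eq_zero_of_notMem hs0P (add_notMem_Q hp hwk hu hu0), add_assoc w k u] at h2
      omega
    have h1 := hperiod k
    unfold Scheme.cosetSum at h1
    rw [sum_congr rfl fun w hw => hstep w (mem_filter.1 hw).2, sum_add_distrib, sum_const,
      smul_eq_mul] at h1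
    rw [add_eq_left, mul_eq_zero] at h1
    refine hne (h1.resolve_left fun hc0 => ?_)
    rw [card_eq_zero, filter_eq_empty_iff] at hc0
    exact hc0 (mem_univ 0) V.zero_mem
  -- the rotations form one coset of `V`
  obtain ⟨x0, hx0⟩ := 𝔖.exists_mem_X hm hs01
  have hX : 𝔖.X s0 = (univ.filter fun w => w ∈ V).map (addLeftEmbedding x0) := by
    ext x
    simp only [mem_map, mem_filter, mem_univ, true_and, addLeftEmbedding_apply]
    constructor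
    · intro hx
      refine ⟨x - x0, ?_, by abel⟩
      by_contra hnV
      have h1 := hxx0 _ hnV
      rw [Scheme.xx, card_eq_zero, filter_eq_empty_iff] at h1
      refine h1 hx ?_
      rw [show x - x0 - x = -x0 by ring]
      exact 𝔖.neg_mem_X hx0
    · rintro ⟨w, hw, rfl⟩
      exact hper s0 hs01 hs0P w hw x0 hx0
  have ha3 : a = 3 := by
    rw [ha, hX, card_map, ← hVc, Nat.card_eq_fintype_card, Fintype.card_subtype]
  have hxv : 𝔖.xx s0 v = 3 := by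
    rw [← ha3, ha, Scheme.xx, filter_true_of_mem fun x hx => ?_]
    rw [sub_eq_add_neg, add_comm]
    exact hper s0 hs01 hs0P v (AddSubgroup.mem_zmultiples v) _ (𝔖.neg_mem_X hx)
  have hpos : (0 : ℤ) < 𝔖.p s0 (r v) := by rw [𝔖.p_r, hxv]; omega
  have h1 := Int.le_of_dvd hpos (𝔖.outer_dvd hm hR (r_ne_one hv0) hp hp2 hpm hs0P hvimp)
  have h2 := 𝔖.p_le hm s0 (r_ne_one hv0)
  rw [← ha, ha3] at h2
  push_cast at h1
  omega

end Scheme

end Cfsg.Agent.DihedralBGroup
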