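import Cfsg.Agent.Lib.DihedralBGroup.Frobenius

/-!
# The main inequalities for classes that are pure at an odd prime

* `card_X_lt` : a pure class has fewer rotations than reflections
* `reached` : the classes met by the square of a class
* `kill` : the square of a pure class meets some pure class
* `subgroup_bound` : positivity on a subgroup of periods
-/

set_option autoImplicit false

namespace Cfsg.Agent.DihedralBGroup

open DihedralGroup Finset

variable {m : ℕ} [NeZero m]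

namespace Scheme

variable (𝔖 : Scheme m)

theorem reached (s l : DihedralGroup m) (hp : 0 < 𝔖.p s l) :
    ((((𝔖.Y s).card : ℤ) - (𝔖.X s).card) * (𝔖.Y l).card ≤ 2 * (𝔖.X s).card * (𝔖.X l).card) ∧
      ((∃ y ∈ 𝔖.X l, 0 < 𝔖.xx s y) → 0 < (𝔖.X s).card →
        (((𝔖.Y s).card : ℤ) - (𝔖.X s).card) * (𝔖.Y l).card <
          2 * (𝔖.X s).card * (𝔖.X l).card) := by
  have h := 𝔖.triangle s l
  refine ⟨?_, fun ⟨y, hy, hy0⟩ ha => ?_⟩
  · by_contra hlt
    push Not at hlt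
    have h1 : (0 : ℤ) ≤ 2 * (((𝔖.X s).card : ℤ) + (𝔖.Y s).card) *
        ∑ y ∈ 𝔖.X l, (𝔖.xx s y : ℤ) := by positivity
    nlinarith
  · have h1 : (0 : ℤ) < ∑ y ∈ 𝔖.X l, (𝔖.xx s y : ℤ) :=
      sum_pos' (fun i _ => by positivity) ⟨y, hy, by exact_mod_cast hy0⟩
    have h2 : (0 : ℤ) < ((𝔖.X s).card : ℤ) + (𝔖.Y s).card := by positivity
    by_contra hlt
    push Not at hlt
    nlinarith [mul_pos h2 h1]

/-- Either the square of a class avoids the class, or `#Y ≤ 2 #X`. -/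
theorem self_reached (s : DihedralGroup m) (h : (2 * (𝔖.X s).card : ℕ) < (𝔖.Y s).card) :
    𝔖.p s s = 0 := by
  by_contra h0
  have hp : 0 < 𝔖.p s s := lt_of_le_of_ne (𝔖.p_nonneg s s) (Ne.symm h0)
  have h1 := (𝔖.reached s s hp).1
  have h2 : (2 * (𝔖.X s).card : ℤ) < (𝔖.Y s).card := by exact_mod_cast h
  nlinarith

theorem xx_eq_zero_of_notMem {s : DihedralGroup m} {K : AddSubgroup (ZMod m)}
    (hs : ∀ x ∈ 𝔖.X s, x ∈ K) {y : ZMod m} (hy : y ∉ K) : 𝔖.xx s y = 0 := by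
  rw [Scheme.xx, card_eq_zero, filter_eq_empty_iff]
  intro x hx h
  exact hy (by simpa using K.add_mem (hs _ h) (hs x hx))

theorem same_step (hR : 𝔖.IsRat) {p : ℕ} (hp : p.Prime) {y u : ZMod m} (hy : y ∈ Q p hp)
    (hu : p • u = 0) (h0 : u ≠ 0) {j : ℕ} (hj : ¬ p ∣ j) :
    𝔖.R (r (y + u)) (r (y + j • u)) := by
  have hju : p • j • u = 0 := by rw [← mul_nsmul', mul_comm, mul_nsmul', hu, nsmul_zero]
  have hju0 : j • u ≠ 0 := fun h => hj (by
    have := addOrderOf_dvd_iff_nsmul_eq_zero.2 h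
    rwa [addOrderOf_of_prime hp hu h0] at this)
  exact 𝔖.same_order hR
    (by rw [addOrderOf_add_prime hp hy hu h0, addOrderOf_add_prime hp hy hju hju0])

/-- An impure class has at most one `p`-th of its rotations in `Q p`. -/
theorem card_in (hR : 𝔖.IsRat) {p : ℕ} (hp : p.Prime) (hp2 : p ≠ 2) (hpm : p ∣ m)
    {l : DihedralGroup m} (hl : ¬ 𝔖.Pure p hp l) (T : Finset (ZMod m))
    (hT : ∀ y ∈ T, y ∈ 𝔖.X l ∧ y ∈ Q p hp) : p * T.card ≤ (𝔖.X l).card := by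
  classical
  obtain ⟨u, hu, hu0⟩ := exists_prime_elt hp hpm
  have huo := addOrderOf_of_prime hp hu hu0
  rw [show p * T.card = ((Finset.range p) ×ˢ T).card by rw [card_product, card_range]]
  refine card_le_card_of_injOn (fun q => q.2 + q.1 • u) ?_ ?_
  · rintro ⟨j, y⟩ h
    simp only [coe_product, Set.mem_prod, mem_coe, mem_range] at h
    obtain ⟨hy, hyQ⟩ := hT y h.2
    by_cases hj : j = 0
    · subst hj; simpa using hy
    · have hW : ¬ 𝔖.Pure p hp (r y) := fun h' => hl ((𝔖.pure_congr hp (𝔖.mem_X.1 hy)).2 h')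
      refine 𝔖.mem_X.2 (𝔖.trans' (𝔖.mem_X.1 hy) (𝔖.trans' (𝔖.step hR hp hp2 hpm hyQ hu hu0 hW)
        (𝔖.same_step hR hp hyQ hu hu0 fun hd => ?_)))
      have := Nat.le_of_dvd (by omega) hd
      omega
  · rintro ⟨i, y⟩ hy ⟨j, z⟩ hz hij
    simp only [coe_product, Set.mem_prod, mem_coe, mem_range] at hy hz
    simp only at hij
    have hd : y - z ∈ Q p hp := (Q p hp).sub_mem (hT y hy.2).2 (hT z hz.2).2
    have hyz : y = z := by
      by_contra hne
      have h1 : p • (y - z) = 0 := by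
        rw [show y - z = j • u - i • u by linear_combination hij, nsmul_sub, ← mul_nsmul',
          ← mul_nsmul', mul_comm p j, mul_comm p i, mul_nsmul', mul_nsmul', hu]
        simp
      exact hd (by rw [addOrderOf_of_prime hp h1 (sub_ne_zero.2 hne)])
    subst hyz
    have := nsmul_injOn_Iio_addOrderOf (huo.symm ▸ hy.1 : i < addOrderOf u)
      (huo.symm ▸ hz.1 : j < addOrderOf u) (add_left_cancel hij)
    rw [this]

theorem card_X_lt (hm : 2 ≤ m) (hR : 𝔖.IsRat) {p : ℕ} (hp : p.Prime) (hp2 : p ≠ 2) (hpm : p ∣ m)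
    {s : DihedralGroup m} (hs1 : s ≠ 1) (hs : 𝔖.Pure p hp s) :
    (𝔖.X s).card < (𝔖.Y s).card := by
  classical
  by_contra hle
  push Not at hle
  have hp3 : 3 ≤ p := by have := hp.two_le; omega
  have hyy : ∀ y ∉ Q p hp, 𝔖.yy s y = 0 := by
    intro y hy
    have hy0 : y ≠ 0 := fun h => hy (h ▸ (Q p hp).zero_mem)
    set l : DihedralGroup m := r y with hl
    have hlp : ¬ 𝔖.Pure p hp l := fun h => hy (h y (𝔖.self_mem_X y))
    have hl1 : l ≠ 1 := r_ne_one hy0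
    have hP := 𝔖.p_r s y
    by_contra hne
    have hPpos : 0 < 𝔖.p s l := by
      rw [hl, hP]
      have : 0 < 𝔖.yy s y := Nat.pos_of_ne_zero hne
      omega
    set T := (𝔖.X l).filter fun k => k ∈ Q p hp with hT
    have hsum : ∑ k ∈ 𝔖.X l, (𝔖.xx s k : ℤ) ≤ T.card * 𝔖.p s l := by
      calc ∑ k ∈ 𝔖.X l, (𝔖.xx s k : ℤ) = ∑ k ∈ T, (𝔖.xx s k : ℤ) := by
            rw [hT, sum_filter]
            refine sum_congr rfl fun k hk => ?_
            split_ifs with h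
            · rfl
            · rw [𝔖.xx_eq_zero_of_notMem hs h, Nat.cast_zero]
        _ ≤ ∑ k ∈ T, 𝔖.p s l := sum_le_sum fun k hk => by
            rw [𝔖.p_congr s (𝔖.mem_X.1 (mem_filter.1 hk).1)]
            exact 𝔖.xx_le_p s k
        _ = _ := by rw [sum_const, nsmul_eq_mul]
    have h1 := 𝔖.card_in hR hp hp2 hpm hlp T fun k hk => mem_filter.1 hk
    have htri := 𝔖.triangle s l
    have hal : 0 < (𝔖.X l).card := card_pos.2 ⟨y, 𝔖.self_mem_X y⟩
    have ha : 0 < (𝔖.X s).card := card_pos.2 (𝔖.exists_mem_X hm hs1)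
    have h2 : 3 * (T.card : ℤ) ≤ (𝔖.X l).card := by
      exact_mod_cast (Nat.mul_le_mul_right _ hp3).trans h1
    have h3 : ((𝔖.Y s).card : ℤ) ≤ (𝔖.X s).card := by exact_mod_cast hle
    have h4 : 𝔖.p s l * (2 * (𝔖.X s).card * (𝔖.X l).card) ≤
        2 * (2 * ((𝔖.X s).card : ℤ)) * (T.card * 𝔖.p s l) := by
      calc _ ≤ 𝔖.p s l * (2 * (𝔖.X s).card * (𝔖.X l).card +
            (((𝔖.X s).card : ℤ) - (𝔖.Y s).card) * (𝔖.Y l).card) := by
            refine mul_le_mul_of_nonneg_left ?_ hPpos.le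
            nlinarith
        _ = _ := htri.symm
        _ ≤ 2 * (((𝔖.X s).card : ℤ) + (𝔖.Y s).card) * (T.card * 𝔖.p s l) :=
            mul_le_mul_of_nonneg_left hsum (by positivity)
        _ ≤ _ := by gcongr; linarith
    have h5 : (0 : ℤ) < 𝔖.p s l * (𝔖.X s).card := mul_pos hPpos (by exact_mod_cast ha)
    have h6 : ((𝔖.X l).card : ℤ) ≤ 2 * T.card := by
      by_contra h7
      push Not at h7
      nlinarith [mul_lt_mul_of_pos_left h7 h5]
    have : (0 : ℤ) < (𝔖.X l).card := by exact_mod_cast hal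
    linarith
  obtain ⟨u, hu, hu0⟩ := exists_prime_elt hp hpm
  obtain ⟨j, hj⟩ := 𝔖.exists_mem_Y hm hs1
  refine 𝔖.not_in_coset hs1 (K := Q p hp) (fun h => ?_) hs (j := j) fun i hi => ?_
  · have := add_notMem_Q hp (Q p hp).zero_mem hu hu0
    rw [h] at this
    exact this trivial
  · by_contra hij
    have h := hyy _ hij
    rw [Scheme.yy, card_eq_zero, filter_eq_empty_iff] at h
    exact h hj (by simpa using hi)

/-- The square of a pure class meets a pure class. -/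
theorem kill (hm : 2 ≤ m) (hR : 𝔖.IsRat) {p : ℕ} (hp : p.Prime) (hp2 : p ≠ 2) (hpm : p ∣ m)
    {s : DihedralGroup m} (hs1 : s ≠ 1) (hs : 𝔖.Pure p hp s)
    (hno : ∀ l, l ≠ 1 → 𝔖.Pure p hp l → 𝔖.p s l = 0) : False := by
  classical
  have hp3 : 3 ≤ p := by have := hp.two_le; omega
  have hac := 𝔖.card_X_lt hm hR hp hp2 hpm hs1 hs
  set a := (𝔖.X s).card with ha
  set c := (𝔖.Y s).card with hc
  have ha0 : 0 < a := card_pos.2 (𝔖.exists_mem_X hm hs1)
  obtain ⟨u, hu, hu0⟩ := exists_prime_elt hp hpm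
  -- positivity on the cosets of `Q`
  have h1 := 𝔖.cosetSum_le s (Q p hp) u
  set F := (univ : Finset (ZMod m)).filter (fun v => v ∈ Q p hp) with hF
  have h0F : (0 : ZMod m) ∈ F := by simp [hF, (Q p hp).zero_mem]
  have hdiff : ∀ k ∈ F.erase 0, 𝔖.yy s k + 𝔖.xx s k ≤ 𝔖.yy s (k + u) := by
    intro k hk
    rw [mem_erase, hF, mem_filter] at hk
    have hk1 : (r k : DihedralGroup m) ≠ 1 := r_ne_one hk.1
    by_cases hP : 𝔖.Pure p hp (r k)
    · have := hno _ hk1 hP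
      rw [𝔖.p_r] at this
      omega
    · have h2 := 𝔖.p_congr s (𝔖.step hR hp hp2 hpm hk.2.2 hu hu0 hP)
      rw [𝔖.p_r, 𝔖.p_r, 𝔖.xx_eq_zero_of_notMem hs (add_notMem_Q hp hk.2.2 hu hu0)] at h2
      omega
  have hxxF : ∑ k ∈ F.erase 0, 𝔖.xx s k = a * a - a := by
    have h2 : ∑ k ∈ F, 𝔖.xx s k = a * a := by
      rw [← 𝔖.sum_xx s]
      refine sum_subset (subset_univ _) fun k _ hk => ?_
      exact 𝔖.xx_eq_zero_of_notMem hs (by simpa [hF] using hk)
    rw [← add_sum_erase _ _ h0F, 𝔖.xx_zero, ← ha] at h2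
    omega
  have hca : a * a - a ≤ c := by
    have h3 := sum_le_sum hdiff
    rw [sum_add_distrib, hxxF] at h3
    unfold Scheme.cosetSum at h1
    rw [← hF, ← add_sum_erase _ _ h0F, ← add_sum_erase _ _ h0F] at h1
    simp only [add_zero, zero_add, 𝔖.yy_zero] at h1
    omega
  -- the second moment of `xy`
  have hW : ∑ z, 𝔖.xy s z * 𝔖.xy s z = ∑ k, 𝔖.xx s k * 𝔖.yy s k := by
    have e1 : ∀ z, 𝔖.xy s z * 𝔖.xy s z = (((𝔖.X s) ×ˢ (𝔖.X s)).filter fun q =>
        z + q.1 ∈ 𝔖.Y s ∧ z + q.2 ∈ 𝔖.Y s).card := fun z => by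
      rw [Scheme.xy, ← card_product, ← filter_product]
    have e2 : ∀ k, 𝔖.xx s k * 𝔖.yy s k = ((((𝔖.X s) ×ˢ (𝔖.Y s))).filter fun q =>
        k - q.1 ∈ 𝔖.X s ∧ q.2 + k ∈ 𝔖.Y s).card := fun k => by
      rw [Scheme.xx, Scheme.yy, ← card_product, ← filter_product]
    simp only [e1, e2, sum_card_filter]
    refine card_bij' (fun q _ => (q.2.2 - q.2.1, (-q.2.1, q.1 + q.2.1)))
      (fun q _ => (q.2.1 + q.2.2, (-q.2.1, q.1 - q.2.1))) ?_ ?_ ?_ ?_
    · rintro ⟨z, x, x'⟩ h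
      simp only [mem_filter, mem_product, mem_univ, true_and] at h ⊢
      refine ⟨⟨𝔖.neg_mem_X h.1.1, h.2.1⟩, ?_, ?_⟩
      · simpa using h.1.2
      · simpa using h.2.2
    · rintro ⟨k, x, i⟩ h
      simp only [mem_filter, mem_product, mem_univ, true_and] at h ⊢
      refine ⟨⟨𝔖.neg_mem_X h.1.1, h.2.1⟩, ?_, ?_⟩
      · simpa using h.1.2
      · have := h.2.2
        convert this using 1
        ring
    · rintro ⟨z, x, x'⟩ -; simp
    · rintro ⟨k, x, i⟩ -; simp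
  have hsum : ∑ z, 𝔖.xy s z = a * c := by
    simp only [Scheme.xy, sum_card_filter]
    rw [ha, hc, ← card_product]
    refine card_bij' (fun q _ => (q.2, q.1 + q.2)) (fun q _ => (q.2 - q.1, q.1)) ?_ ?_ ?_ ?_
    · rintro ⟨z, x⟩ h
      simp only [mem_filter, mem_product, mem_univ, true_and] at h ⊢
      exact h
    · rintro ⟨x, i⟩ h
      simp only [mem_filter, mem_product, mem_univ, true_and] at h ⊢
      exact ⟨h.1, by simpa using h.2⟩
    · rintro ⟨z, x⟩ -; simp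
    · rintro ⟨x, i⟩ -; simp
  have hlow : p * (a * c) ≤ ∑ z, 𝔖.xy s z * 𝔖.xy s z := by
    rw [← hsum, mul_sum]
    refine sum_le_sum fun z _ => ?_
    rcases Nat.eq_zero_or_pos (𝔖.xy s z) with h0 | h0
    · simp [h0]
    have hz1 : (sr z : DihedralGroup m) ≠ 1 := fun e => by rw [one_def] at e; cases e
    have hz : ¬ 𝔖.Pure p hp (sr z) := fun h => by
      have := hno _ hz1 h
      rw [𝔖.p_sr] at this
      omega
    have hd := 𝔖.dvd_p hm hR hp hp2 hpm hs hz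
    rw [𝔖.p_sr] at hd
    have hd' : p ∣ 2 * 𝔖.xy s z := by exact_mod_cast hd
    have hd2 : p ∣ 𝔖.xy s z := (hp.dvd_mul.1 hd').resolve_left fun h =>
      hp2 ((Nat.prime_dvd_prime_iff_eq hp Nat.prime_two).1 h)
    exact Nat.mul_le_mul_right _ (Nat.le_of_dvd h0 hd2)
  have hhigh : ∑ k, 𝔖.xx s k * 𝔖.yy s k ≤ a * c + (2 * a - 1) * (a * a - a) := by
    rw [← add_sum_erase _ _ (mem_univ (0 : ZMod m)), 𝔖.xx_zero, 𝔖.yy_zero, ← ha, ← hc]
    refine Nat.add_le_add_left ?_ _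
    have h2 : ∑ k ∈ univ.erase 0, 𝔖.xx s k = a * a - a := by
      have h := 𝔖.sum_xx s
      rw [← add_sum_erase _ _ (mem_univ (0 : ZMod m)), 𝔖.xx_zero, ← ha] at h
      omega
    rw [← h2, mul_sum]
    refine sum_le_sum fun k hk => ?_
    rw [mul_comm (2 * a - 1)]
    rcases Nat.eq_zero_or_pos (𝔖.xx s k) with h0 | h0
    · simp [h0]
    refine Nat.mul_le_mul_left _ ?_
    have h3 := 𝔖.p_le hm s (r_ne_one (mem_erase.1 hk).1)
    rw [𝔖.p_r] at h3
    omega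
  have hfin := hlow.trans (hW.le.trans hhigh)
  have h7 : (2 * a - 1) * (a * a - a) ≤ (2 * a - 1) * c := Nat.mul_le_mul_left _ hca
  have h8 : 3 * (a * c) ≤ p * (a * c) := Nat.mul_le_mul_right _ hp3
  have h9 : (2 * a - 1) * c + c = 2 * (a * c) := by
    rw [← Nat.succ_mul, show (2 * a - 1).succ = 2 * a by omega, mul_assoc]
  omega

/-- Positivity on a subgroup of periods all of whose classes are impure. -/
theorem subgroup_bound (hR : 𝔖.IsRat) {p : ℕ} (hp : p.Prime) (hp2 : p ≠ 2) (hpm : p ∣ m)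
    {s : DihedralGroup m} (hs : 𝔖.Pure p hp s) (V : AddSubgroup (ZMod m))
    (hVQ : ∀ v ∈ V, v ∈ Q p hp) (hper : ∀ v ∈ V, ∀ x ∈ 𝔖.X s, x + v ∈ 𝔖.X s)
    (himp : ∀ v ∈ V, v ≠ 0 → ¬ 𝔖.Pure p hp (r v)) {u : ZMod m} (hu : p • u = 0) (hu0 : u ≠ 0) :
    𝔖.cosetSum s V u + (𝔖.Y s).card =
      𝔖.cosetSum s V 0 + 𝔖.yy s u + (Nat.card V - 1) * (𝔖.X s).card := by
  classical
  unfold Scheme.cosetSum
  set F := univ.filter (fun v => v ∈ V) with hF
  have h0F : (0 : ZMod m) ∈ F := by simp [hF, V.zero_mem]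
  have hcard : F.card = Nat.card V := by
    rw [Nat.card_eq_fintype_card, Fintype.card_subtype]
  have hdiff : ∀ k ∈ F.erase 0, 𝔖.yy s (k + u) = 𝔖.yy s k + (𝔖.X s).card := by
    intro k hk
    rw [mem_erase, hF, mem_filter] at hk
    have hkQ := hVQ k hk.2.2
    have h2 := 𝔖.p_congr s (𝔖.step hR hp hp2 hpm hkQ hu hu0 (himp k hk.2.2 hk.1))
    rw [𝔖.p_r, 𝔖.p_r, 𝔖.xx_eq_zero_of_notMem hs (add_notMem_Q hp hkQ hu hu0)] at h2
    have hxx : 𝔖.xx s k = (𝔖.X s).card := by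
      rw [Scheme.xx, filter_true_of_mem fun x hx => ?_]
      rw [sub_eq_add_neg, add_comm]
      exact hper k hk.2.2 _ (𝔖.neg_mem_X hx)
    omega
  rw [← add_sum_erase _ _ h0F, ← add_sum_erase _ _ h0F, sum_congr rfl hdiff, sum_add_distrib,
    sum_const, card_erase_of_mem h0F, hcard, smul_eq_mul]
  simp only [add_zero, zero_add, 𝔖.yy_zero]
  omega

theorem subgroup_le (hR : 𝔖.IsRat) {p : ℕ} (hp : p.Prime) (hp2 : p ≠ 2) (hpm : p ∣ m)
    {s : DihedralGroup m} (hs : 𝔖.Pure p hp s) (V : AddSubgroup (ZMod m))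
    (hVQ : ∀ v ∈ V, v ∈ Q p hp) (hper : ∀ v ∈ V, ∀ x ∈ 𝔖.X s, x + v ∈ 𝔖.X s)
    (himp : ∀ v ∈ V, v ≠ 0 → ¬ 𝔖.Pure p hp (r v)) {u : ZMod m} (hu : p • u = 0) (hu0 : u ≠ 0) :
    𝔖.yy s u + (Nat.card V - 1) * (𝔖.X s).card ≤ (𝔖.Y s).card := by
  have h1 := 𝔖.subgroup_bound hR hp hp2 hpm hs V hVQ hper himp hu hu0
  have h2 := 𝔖.cosetSum_le s V u
  omega

end Scheme

end Cfsg.Agent.DihedralBGroup
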