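import Cfsg.Agent.Lib.DihedralBGroup.PiLemma
import Cfsg.Agent.Lib.DihedralBGroup.Tools
import Mathlib.Algebra.Order.Chebyshev

/-!
# Schemes in which all classes are periodic

* `IsTrivial` : all nonidentity elements form one class
* `trivial_of_impure` : no class pure at an odd prime
* `trivial_of_two_pow` : the order is a power of two
-/

set_option autoImplicit false

namespace Cfsg.Agent.DihedralBGroup

open DihedralGroup Finset

variable {m : ℕ} [NeZero m]

theorem ofFun_periodic {F : ZMod m → ℤ} {u : ZMod m} :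
    (ofFun F : GR ℤ m) * (1 - ee u) = 0 ↔ ∀ y, F (y - u) = F y := by
  constructor
  · intro h y
    have := congrArg (fun Q : GR ℤ m => Q.coeff y) h
    simp only [PiLemma.mul_sub_ee_coeff, coeff_ofFun, AddMonoidAlgebra.coeff_zero,
      Finsupp.zero_apply, Int.cast_id] at this
    omega
  · intro h
    ext y
    simp [PiLemma.mul_sub_ee_coeff, coeff_ofFun, h]

theorem sum_sgn (f : DihedralGroup m → ℤ) :
    ∑ t, f t * sgn t = (∑ y, f (r y)) - ∑ z, f (sr z) := by
  rw [sum_dihedral', sub_eq_add_neg, ← sum_neg_distrib]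
  congr 1
  · exact sum_congr rfl fun y _ => by
      rw [show sgn (r y : DihedralGroup m) = 1 from rfl, mul_one]
  · exact sum_congr rfl fun y _ => by
      rw [show sgn (sr y : DihedralGroup m) = -1 from rfl, mul_neg, mul_one]
where
  sum_dihedral' := Scheme.sum_dihedral (m := m) (fun t => f t * sgn t)

theorem impure_arith {a c m d E q : ℤ} (hd : d = a - c) (hc : 0 < c) (hcm : c < m)
    (hms : m * (a + c) - 2 * a * c = m * d ^ 2) (hq : 3 ≤ q) (hd3 : 3 ≤ |d|)
    (hE : E = a * m + c * c - 2 * a * c) (hineq : q * E ≤ m * d ^ 2) : False := by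
  have hP : 2 * E = m * (d ^ 2 + d) - 2 * c * d := by
    subst hd hE
    linear_combination hms
  have hm : 0 < m := hc.trans hcm
  rcases le_or_gt 0 d with h | h
  · rw [abs_of_nonneg h] at hd3
    have h1 : c * d < m * d := mul_lt_mul_of_pos_right hcm (by linarith)
    have h2 : 0 ≤ m * (d * (d - 3)) := mul_nonneg hm.le (mul_nonneg h (by linarith))
    have h3 : 0 ≤ E := by nlinarith
    have h4 : 3 * E ≤ q * E := mul_le_mul_of_nonneg_right hq h3
    nlinarith
  · rw [abs_of_neg h] at hd3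
    have h1 : 0 < c * (-d) := mul_pos hc (by linarith)
    have h2 : 0 ≤ m * (-d * (-d - 3)) := mul_nonneg hm.le (mul_nonneg (by linarith) (by linarith))
    have h3 : 0 ≤ E := by nlinarith
    have h4 : 3 * E ≤ q * E := mul_le_mul_of_nonneg_right hq h3
    nlinarith

namespace Scheme

variable (𝔖 : Scheme m)

/-- All nonidentity elements form one class. -/
def IsTrivial : Prop := ∀ x y : DihedralGroup m, x ≠ 1 → y ≠ 1 → 𝔖.R x y

theorem sum_ind_r (s : DihedralGroup m) : ∑ y, 𝔖.ind s (r y) = ((𝔖.X s).card : ℤ) := by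
  classical
  simp [𝔖.ind_r]

theorem sum_ind_sr (s : DihedralGroup m) : ∑ z, 𝔖.ind s (sr z) = ((𝔖.Y s).card : ℤ) := by
  classical
  simp [𝔖.ind_sr]

theorem sum_yy (s : DihedralGroup m) : ∑ y, 𝔖.yy s y = (𝔖.Y s).card * (𝔖.Y s).card := by
  classical
  simp only [Scheme.yy, sum_card_filter]
  rw [← card_product]
  refine card_bij' (fun q _ => (q.2, q.2 + q.1)) (fun q _ => (q.2 - q.1, q.1)) ?_ ?_ ?_ ?_
  · rintro ⟨y, i⟩ h
    simp only [mem_filter, mem_product, mem_univ, true_and] at h ⊢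
    exact h
  · rintro ⟨i, j⟩ h
    simp only [mem_filter, mem_product, mem_univ, true_and] at h ⊢
    exact ⟨h.1, by simpa using h.2⟩
  · rintro ⟨y, i⟩ -; simp
  · rintro ⟨i, j⟩ -; simp

theorem sum_xy (s : DihedralGroup m) : ∑ z, 𝔖.xy s z = (𝔖.X s).card * (𝔖.Y s).card := by
  classical
  simp only [Scheme.xy, sum_card_filter]
  rw [← card_product]
  refine card_bij' (fun q _ => (q.2, q.1 + q.2)) (fun q _ => (q.2 - q.1, q.1)) ?_ ?_ ?_ ?_
  · rintro ⟨z, x⟩ h
    simp only [mem_filter, mem_product, mem_univ, true_and] at h ⊢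
    exact h
  · rintro ⟨x, i⟩ h
    simp only [mem_filter, mem_product, mem_univ, true_and] at h ⊢
    exact ⟨h.1, by simpa using h.2⟩
  · rintro ⟨z, x⟩ -; simp
  · rintro ⟨x, i⟩ -; simp

/-- `u` moves every element outside `zmultiples u` inside its class. -/
structure Periods (u : ZMod m) : Prop where
  ne : u ≠ 0
  out : ∀ y, y ∉ AddSubgroup.zmultiples u → 𝔖.R (r y) (r (y + u))
  mem : ∀ y ∈ AddSubgroup.zmultiples u, y ≠ 0 → 𝔖.R (r u) (r y)

variable {𝔖}

/-- The jump of a class function at the identity. -/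
def jump (u : ZMod m) (f : DihedralGroup m → ℤ) : ℤ := f 1 - f (r u)

theorem Periods.rot {u : ZMod m} (hu : 𝔖.Periods u) {f : DihedralGroup m → ℤ} (hf : 𝔖.InS f) :
    (rotPart f : GR ℤ m) * (1 - ee u) = ((jump u f : ℤ) : GR ℤ m) * (1 - ee u) := by
  classical
  ext y
  rw [mul_sub ((jump u f : ℤ) : GR ℤ m), mul_one, AddMonoidAlgebra.coeff_sub, Finsupp.sub_apply,
    coeff_mul_ee, rotPart, PiLemma.mul_sub_ee_coeff, coeff_ofFun, coeff_ofFun,
    AddMonoidAlgebra.intCast_def, AddMonoidAlgebra.coeff_single, Finsupp.single_apply,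
    Finsupp.single_apply]
  simp only [Int.cast_id, jump, ← r_zero]
  have huU := AddSubgroup.mem_zmultiples u
  by_cases hy : y ∈ AddSubgroup.zmultiples u
  · have hyu : y - u ∈ AddSubgroup.zmultiples u := sub_mem hy huU
    by_cases h0 : y = 0
    · subst h0
      rw [if_pos rfl, if_neg (fun h => hu.ne (neg_eq_zero.1 (by rw [← zero_sub, ← h]))), zero_sub,
        ← hf _ _ (hu.mem _ (neg_mem huU) (neg_ne_zero.2 hu.ne))]
      simp
    · rw [if_neg (Ne.symm h0), ← hf _ _ (hu.mem y hy h0)]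
      by_cases h1 : y = u
      · subst h1
        rw [sub_self, if_pos rfl]
        simp
      · rw [if_neg fun h => h1 (sub_eq_zero.1 h.symm),
          ← hf _ _ (hu.mem _ hyu (sub_ne_zero.2 h1))]
        simp
  · have hyu : y - u ∉ AddSubgroup.zmultiples u := fun h => hy (by
      simpa using add_mem h huU)
    have h0 : (0 : ZMod m) ≠ y := fun h => hy (h ▸ zero_mem _)
    have h1 : (0 : ZMod m) ≠ y - u := fun h => hyu (h ▸ zero_mem _)
    have := hf _ _ (hu.out _ hyu)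
    rw [sub_add_cancel] at this
    rw [if_neg h0, if_neg h1, this]
    simp

theorem Periods.ref_mul {u : ZMod m} (hu : 𝔖.Periods u) {f g : DihedralGroup m → ℤ}
    (hf : 𝔖.InS f) (hg : 𝔖.InS g) :
    bar (refPart f : GR ℤ m) * refPart g * (1 - ee u) =
      (((jump u (conv f g) - jump u f * jump u g) : ℤ) : GR ℤ m) * (1 - ee u) := by
  have h := hu.rot (𝔖.inS_conv hf hg)
  rw [rotPart_conv, add_mul] at h
  push_cast
  linear_combination h - (rotPart f : GR ℤ m) * hu.rot hg - ((jump u g : ℤ) : GR ℤ m) * hu.rot hf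

/-- A class function without jump and with periodic reflection part is constant. -/
theorem Periods.const {u : ZMod m} (hu : 𝔖.Periods u) {f : DihedralGroup m → ℤ} (hf : 𝔖.InS f)
    (h0 : jump u f = 0) (h1 : (refPart f : GR ℤ m) * (1 - ee u) = 0) (x : DihedralGroup m) :
    f x = f 1 := by
  have h2 := hu.rot hf
  rw [h0, Int.cast_zero, zero_mul] at h2
  rw [rotPart, ofFun_periodic] at h2
  rw [refPart, ofFun_periodic] at h1
  refine 𝔖.eq_const hf hu.ne (fun g => ?_) x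
  rcases g with i | i
  · rw [r_mul_r, ← h2 (u + i), add_sub_cancel_left]
  · rw [r_mul_sr]
    exact h1 i

theorem intCast_mul_eq {u : ZMod m} (hu : u ≠ 0) {a : ℤ}
    (h : ((a : ℤ) : GR ℤ m) * (1 - ee u) = 0) : a = 0 := by
  have h1 := congrArg (fun Q : GR ℤ m => Q.coeff 0) h
  simp only [PiLemma.mul_sub_ee_coeff, AddMonoidAlgebra.intCast_def,
    AddMonoidAlgebra.coeff_single, AddMonoidAlgebra.coeff_zero, Finsupp.zero_apply] at h1
  rw [Finsupp.single_eq_same, zero_sub, Finsupp.single_eq_of_ne (neg_ne_zero.2 hu), sub_zero] at h1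
  simpa using h1

theorem jump_ind {u : ZMod m} {s : DihedralGroup m} (h1 : s ≠ 1) (h2 : ¬ 𝔖.R s (r u)) :
    jump u (𝔖.ind s) = 0 := by
  simp only [jump, Scheme.ind]
  rw [if_neg fun h => h1 (𝔖.eq_one h), if_neg h2, sub_zero]

theorem Periods.norm_ne {u : ZMod m} (hu : 𝔖.Periods u) {s : DihedralGroup m} (h1 : s ≠ 1)
    (h2 : ¬ 𝔖.R s (r u)) :
    (refPart (𝔖.ind s) : GR ℤ m) * (1 - ee u) ≠ 0 ∧
      jump u (conv (𝔖.ind s) (𝔖.ind s)) ≠ 0 := by
  have hne : (refPart (𝔖.ind s) : GR ℤ m) * (1 - ee u) ≠ 0 := fun h => by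
    have := hu.const (𝔖.inS_ind s) (jump_ind h1 h2) h s
    simp only [Scheme.ind, if_pos (𝔖.rfl' s), if_neg fun h => h1 (𝔖.eq_one h)] at this
    exact one_ne_zero this
  refine ⟨hne, fun h0 => hne (eq_zero_of_bar_mul ?_)⟩
  have h3 := hu.ref_mul (𝔖.inS_ind s) (𝔖.inS_ind s)
  rw [h0, jump_ind h1 h2, mul_zero, sub_zero, Int.cast_zero, zero_mul] at h3
  rw [map_mul]
  linear_combination bar (1 - ee u : GR ℤ m) * h3

/-- There is at most one class away from the periods. -/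
theorem Periods.unique {u : ZMod m} (hu : 𝔖.Periods u) {s t : DihedralGroup m} (hs : s ≠ 1)
    (hs' : ¬ 𝔖.R s (r u)) (ht : t ≠ 1) (ht' : ¬ 𝔖.R t (r u)) : 𝔖.R s t := by
  classical
  set f := 𝔖.ind s with hf
  set g := 𝔖.ind t with hg
  have hfS : 𝔖.InS f := 𝔖.inS_ind s
  have hgS : 𝔖.InS g := 𝔖.inS_ind t
  have hjf : jump u f = 0 := jump_ind hs hs'
  have hjg : jump u g = 0 := jump_ind ht ht'
  set w : GR ℤ m := 1 - ee u with hw
  set h := jump u (conv f f) with hh
  set h' := jump u (conv g g) with hh'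
  set k := jump u (conv f g) with hk
  have e1 : bar (refPart f : GR ℤ m) * refPart f * w = (h : GR ℤ m) * w := by
    have := hu.ref_mul hfS hfS
    rwa [hjf, mul_zero, sub_zero] at this
  have e2 : bar (refPart g : GR ℤ m) * refPart g * w = (h' : GR ℤ m) * w := by
    have := hu.ref_mul hgS hgS
    rwa [hjg, mul_zero, sub_zero] at this
  have e3 : bar (refPart f : GR ℤ m) * refPart g * w = (k : GR ℤ m) * w := by
    have := hu.ref_mul hfS hgS
    rwa [hjf, zero_mul, sub_zero] at this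
  have e4 : bar (refPart g : GR ℤ m) * refPart f * w = (k : GR ℤ m) * w := by
    have := hu.ref_mul hgS hfS
    rwa [hjf, mul_zero, sub_zero, 𝔖.conv_comm hgS hfS] at this
  have hkk : k * k = h * h' := by
    have : (((k * k - h * h') : ℤ) : GR ℤ m) * w = 0 := by
      push_cast
      linear_combination
        (bar (refPart f : GR ℤ m) * refPart f) * e2 + (h' : GR ℤ m) * e1
          - (bar (refPart f : GR ℤ m) * refPart g) * e4 - (k : GR ℤ m) * e3
    have := intCast_mul_eq hu.ne this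
    omega
  set L : DihedralGroup m → ℤ := fun x => h * g x - k * f x with hL
  have hLS : 𝔖.InS L := fun x y hxy => by simp only [hL, hfS x y hxy, hgS x y hxy]
  have hLj : jump u L = 0 := by
    simp only [jump, hL] at hjf hjg ⊢
    linear_combination h * hjg - k * hjf
  have hLr : (refPart L : GR ℤ m) = (h : GR ℤ m) * refPart g - (k : GR ℤ m) * refPart f := by
    simp only [refPart, ofFun_zsmul, ofFun_sub, hL]
  have hkk' : (k : GR ℤ m) * k = (h : GR ℤ m) * h' := by rw [← Int.cast_mul, hkk, Int.cast_mul]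
  have hL0 : (refPart L : GR ℤ m) * w = 0 := by
    refine eq_zero_of_bar_mul ?_
    rw [map_mul, hLr, map_sub, map_mul, map_mul, map_intCast, map_intCast]
    linear_combination bar w * ((h : GR ℤ m) * h * e2 - (h : GR ℤ m) * k * e3
      - (h : GR ℤ m) * k * e4 + (k : GR ℤ m) * k * e1 - (h : GR ℤ m) * w * hkk')
  have hfin := hu.const hLS hLj hL0 t
  simp only [hL, hf, hg, Scheme.ind] at hfin
  rw [if_pos (𝔖.rfl' t), if_neg fun h => ht (𝔖.eq_one h),
    if_neg (c := 𝔖.R s 1) fun h => hs (𝔖.eq_one h)] at hfin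
  by_contra hst
  rw [if_neg hst] at hfin
  exact (hu.norm_ne hs hs').2 (show h = 0 by linarith)

/-- The numerical data of a class away from the periods. -/
theorem Periods.data (hm : 2 ≤ m) {u : ZMod m} (hu : 𝔖.Periods u) {s : DihedralGroup m}
    (hs : s ≠ 1) (hs' : ¬ 𝔖.R s (r u)) :
    ∃ μ : ℤ, (∀ x, x ≠ 1 → 𝔖.p s x = μ) ∧
      ((𝔖.X s).card + (𝔖.Y s).card : ℤ) - μ = (((𝔖.X s).card : ℤ) - (𝔖.Y s).card) ^ 2 ∧
      2 * ((𝔖.X s).card : ℤ) * (𝔖.Y s).card = μ * m ∧
      (((𝔖.X s).card : ℤ) - (𝔖.Y s).card) ≠ 0 ∧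
      bar (refPart (𝔖.ind s) : GR ℤ m) * refPart (𝔖.ind s) * (1 - ee u) =
        ((((((𝔖.X s).card : ℤ) - (𝔖.Y s).card) ^ 2) : ℤ) : GR ℤ m) * (1 - ee u) ∧
      (∀ y ∈ 𝔖.X s, y + u ∈ 𝔖.X s) ∧ (𝔖.Y s).card < m := by
  classical
  set f := 𝔖.ind s with hf
  have hfS : 𝔖.InS f := 𝔖.inS_ind s
  set a : ℤ := ((𝔖.X s).card : ℤ) with ha
  set c : ℤ := ((𝔖.Y s).card : ℤ) with hc
  set μ := 𝔖.p s (r u) with hμ
  obtain ⟨hne, hj⟩ := hu.norm_ne hs hs'
  have hu1 : (r u : DihedralGroup m) ≠ 1 := r_ne_one hu.ne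
  have hcls : ∀ x, x ≠ 1 → ¬ 𝔖.R (r u) x → 𝔖.R s x := fun x hx h =>
    hu.unique hs hs' hx fun h' => h (𝔖.symm' h')
  have hjf := jump_ind hs hs'
  have hrot : (rotPart f : GR ℤ m) * (1 - ee u) = 0 := by
    rw [hu.rot hfS, hjf, Int.cast_zero, zero_mul]
  -- both values coincide
  have hlam : 𝔖.p s s = μ := by
    have h1 : (refPart (conv f f) : GR ℤ m) * (1 - ee u) = 0 := by
      rw [refPart_conv 𝔖 hfS, add_mul]
      linear_combination (2 * refPart f : GR ℤ m) * hrot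
    have h2 : (refPart (conv f f) : GR ℤ m) * (1 - ee u) =
        ((𝔖.p s s - μ : ℤ) : GR ℤ m) * ((refPart f : GR ℤ m) * (1 - ee u)) := by
      have h3 : (refPart (conv f f) : GR ℤ m) =
          ((𝔖.p s s - μ : ℤ) : GR ℤ m) * refPart f + ofFun fun _ => μ := by
        rw [refPart, refPart, ofFun_zsmul, ofFun_add]
        congr 1
        funext z
        have hz1 : (sr z : DihedralGroup m) ≠ 1 := fun e => by rw [one_def] at e; cases e
        show 𝔖.p s (sr z) = _
        rw [hf, Scheme.ind]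
        by_cases h : 𝔖.R s (sr z)
        · rw [if_pos h, 𝔖.p_congr s (𝔖.symm' h)]
          ring
        · rw [if_neg h, mul_zero, zero_add, hμ,
            𝔖.p_congr s (𝔖.symm' (by_contra fun h' => h (hcls _ hz1 h')))]
      rw [h3, add_mul, (ofFun_periodic).2 (fun _ => rfl), add_zero, mul_assoc]
    rw [h1] at h2
    by_contra h
    obtain ⟨z, hz⟩ : ∃ z, ((refPart f : GR ℤ m) * (1 - ee u)).coeff z ≠ 0 := by
      by_contra h0
      push Not at h0
      exact hne (by ext z; simpa using h0 z)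
    refine sub_ne_zero.2 h ?_
    have h3 := congrArg (fun Q : GR ℤ m => Q.coeff z) h2.symm
    simp only [← zsmul_eq_mul, AddMonoidAlgebra.coeff_smul_apply, smul_eq_mul,
      AddMonoidAlgebra.coeff_zero, Finsupp.zero_apply] at h3
    exact (mul_eq_zero.1 h3).resolve_right hz
  have hall : ∀ x, x ≠ 1 → 𝔖.p s x = μ := by
    intro x hx
    by_cases h : 𝔖.R (r u) x
    · exact 𝔖.p_congr s (𝔖.symm' h)
    · rw [← 𝔖.p_congr s (hcls x hx h), hlam]
  have hone : 𝔖.p s 1 = a + c := by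
    rw [← r_zero, 𝔖.p_r, 𝔖.xx_zero, 𝔖.yy_zero]
  have e1 : a * a + c * c = (a + c) + ((m : ℤ) - 1) * μ := by
    have h1 : ∑ y, 𝔖.p s (r y) = a * a + c * c := by
      simp only [𝔖.p_r, sum_add_distrib]
      rw [← Nat.cast_sum, ← Nat.cast_sum, 𝔖.sum_xx, 𝔖.sum_yy]
      push_cast
      rfl
    rw [← h1, ← add_sum_erase _ _ (mem_univ (0 : ZMod m)), r_zero, hone,
      sum_congr rfl (g := fun _ => μ) fun y hy => hall _ (r_ne_one (mem_erase.1 hy).1), sum_const,
      card_erase_of_mem (mem_univ _), card_univ, ZMod.card, nsmul_eq_mul, Nat.cast_sub (by omega)]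
    simp
  have e2 : 2 * a * c = μ * m := by
    have h1 : ∑ z, 𝔖.p s (sr z) = 2 * a * c := by
      simp only [𝔖.p_sr, ← mul_sum]
      rw [← Nat.cast_sum, 𝔖.sum_xy]
      push_cast
      ring
    rw [← h1, sum_congr rfl (g := fun _ => μ) fun z _ =>
      hall _ (fun e => by rw [one_def] at e; cases e), sum_const, card_univ, ZMod.card,
      nsmul_eq_mul]
    ring
  have e3 : a + c - μ = (a - c) ^ 2 := by linear_combination -e1 + e2
  have hjv : jump u (conv f f) = a + c - μ := by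
    rw [jump, hμ, show conv f f 1 = 𝔖.p s 1 from rfl, hone]
    rfl
  refine ⟨μ, hall, e3, e2, fun h0 => hj (by rw [hjv, e3, h0]; ring), ?_, fun y hy => ?_, ?_⟩
  · have := hu.ref_mul hfS hfS
    rw [hjf, mul_zero, sub_zero, hjv, e3] at this
    exact this
  · rw [rotPart, ofFun_periodic] at hrot
    have := hrot (y + u)
    rw [add_sub_cancel_right, hf, 𝔖.ind_r, 𝔖.ind_r, if_pos hy] at this
    by_contra h
    rw [if_neg h] at this
    exact one_ne_zero this
  · obtain ⟨z, hz⟩ := 𝔖.exists_mem_Y hm hu1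
    have : z ∉ 𝔖.Y s := fun h =>
      hs' (𝔖.trans' (𝔖.mem_Y.1 h) (𝔖.symm' (𝔖.mem_Y.1 hz)))
    have h1 := card_lt_univ_of_notMem this
    rwa [ZMod.card] at h1

variable (𝔖)

/-- If no class is pure at an odd prime, the scheme is trivial. -/
theorem trivial_of_impure (hm : 2 ≤ m) (hR : 𝔖.IsRat) {q : ℕ} (hq : q.Prime) (hq2 : q ≠ 2)
    (hqm : q ∣ m) (himp : ∀ s, s ≠ 1 → ¬ 𝔖.Pure q hq s) : 𝔖.IsTrivial := by
  classical
  haveI := Fact.mk hq
  obtain ⟨u, hu, hu0⟩ := exists_prime_elt hq hqm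
  have huo := addOrderOf_of_prime hq hu hu0
  have hUQ : ∀ y ∈ Q q hq, y ∈ AddSubgroup.zmultiples u → y = 0 := fun y hy hyU => by
    have h : addOrderOf y ∣ q := by
      rw [← huo]
      obtain ⟨j, rfl⟩ := AddSubgroup.mem_zmultiples_iff.1 hyU
      exact addOrderOf_dvd_of_mem_zmultiples (AddSubgroup.zsmul_mem_zmultiples u j)
    rcases (Nat.dvd_prime hq).1 h with h1 | h1
    · exact AddMonoid.addOrderOf_eq_one_iff.1 h1
    · exact absurd (h1 ▸ dvd_rfl) hy
  have hper : 𝔖.Periods u := by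
    refine ⟨hu0, fun y hy => ?_, fun y hy hy0 => ?_⟩
    · have hy0 : y ≠ 0 := fun h => hy (h ▸ zero_mem _)
      by_cases hyQ : y ∈ Q q hq
      · exact 𝔖.step hR hq hq2 hqm hyQ hu hu0 (himp _ (r_ne_one hy0))
      rw [mem_Q, not_not] at hyQ
      by_cases hsq : q * q ∣ addOrderOf y
      · exact 𝔖.translate hR hq hsq hu
      -- split off the component of order `q`
      obtain ⟨o, ho⟩ := hyQ
      have hqo : ¬ q ∣ o := fun h => hsq (ho ▸ Nat.mul_dvd_mul_left q h)
      obtain ⟨x, hxQ, j, hxy⟩ : ∃ x, x ∈ Q q hq ∧ ∃ j : ℕ, y = x + j • u := by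
        obtain ⟨α, hα⟩ := Nat.exists_mul_mod_eq_one_of_coprime
          (hq.coprime_iff_not_dvd.2 hqo).symm hq.one_lt
        have hw : q • (α * o) • y = 0 := by
          rw [← mul_nsmul', show q * (α * o) = α * (q * o) by ring, ← ho, mul_nsmul',
            addOrderOf_nsmul_eq_zero, nsmul_zero]
        obtain ⟨j, hj⟩ := exists_nsmul (x := u) (y := (α * o) • y)
          (huo ▸ addOrderOf_dvd_iff_nsmul_eq_zero.2 hw)
        refine ⟨y - (α * o) • y, ?_, j, by rw [hj, sub_add_cancel]⟩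
        intro h
        refine hqo (h.trans (addOrderOf_dvd_iff_nsmul_eq_zero.2 ?_))
        have hmod : α * o = q * (α * o / q) + 1 := by
          have := Nat.div_add_mod (α * o) q
          rw [mul_comm o α] at hα
          omega
        rw [nsmul_sub, ← mul_nsmul' y o (α * o), hmod, mul_add, mul_one, add_nsmul,
          sub_add_cancel_right, neg_eq_zero, ← mul_assoc, mul_comm o q, ← ho, mul_nsmul,
          addOrderOf_nsmul_eq_zero]
        simp
      have hx0 : x ≠ 0 := fun h => hy (by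
        rw [hxy, h, zero_add]; exact AddSubgroup.nsmul_mem_zmultiples u j)
      have key : ∀ i : ℕ, 𝔖.R (r x) (r (x + i • u)) := by
        intro i
        by_cases hi : q ∣ i
        · obtain ⟨i', rfl⟩ := hi
          rw [mul_nsmul, hu, nsmul_zero, add_zero]
          exact 𝔖.rfl' _
        · exact 𝔖.trans' (𝔖.step hR hq hq2 hqm hxQ hu hu0 (himp _ (r_ne_one hx0)))
            (𝔖.same_step hR hq hxQ hu hu0 hi)
      rw [hxy, add_assoc, ← succ_nsmul]
      exact 𝔖.trans' (𝔖.symm' (key j)) (key (j + 1))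
    · refine 𝔖.same_order hR ?_
      rw [huo]
      refine (addOrderOf_of_prime hq ?_ hy0).symm
      obtain ⟨j, rfl⟩ := AddSubgroup.mem_zmultiples_iff.1 hy
      rw [← natCast_zsmul, ← mul_zsmul, mul_comm, mul_zsmul, natCast_zsmul, hu, zsmul_zero]
  by_contra htriv
  unfold Scheme.IsTrivial at htriv
  push Not at htriv
  obtain ⟨x, y, hx, hy, hxy⟩ := htriv
  obtain ⟨s, hs, hs'⟩ : ∃ s, s ≠ 1 ∧ ¬ 𝔖.R s (r u) := by
    by_cases h : 𝔖.R x (r u)
    · exact ⟨y, hy, fun h' => hxy (𝔖.trans' h (𝔖.symm' h'))⟩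
    · exact ⟨x, hx, h⟩
  obtain ⟨μ, hall, e3, e2, hd0, -, hX, hcm⟩ := hper.data hm hs hs'
  set f := 𝔖.ind s with hf
  -- the `q`-power of the class vanishes modulo `q`
  obtain ⟨G, hG, hGe, hGQ, hGn⟩ := 𝔖.exists_G hR hq hq2 hqm (𝔖.inS_ind s) hu hu0
  have hG0 : (emb G : MonoidAlgebra (ZMod q) (DihedralGroup m)) = 0 := by
    ext h
    obtain ⟨y, hy⟩ := 𝔖.exists_r hm h
    rw [coeff_emb, hG _ _ hy, MonoidAlgebra.coeff_zero, Finsupp.zero_apply]
    by_cases hyQ : y ∈ Q q hq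
    · rw [hGQ y hyQ, sub_eq_zero]
      congr 1
      by_cases hy0 : y = 0
      · rw [hy0, zero_add, r_zero, Scheme.ind, Scheme.ind, if_neg hs',
          if_neg fun h => hs (𝔖.eq_one h)]
      · exact 𝔖.inS_ind s _ _ (hper.out y fun h => hy0 (hUQ y hyQ h))
    · exact hGn y hyQ
  have hdvd : (q : ℤ) ∣ ((𝔖.X s).card : ℤ) - (𝔖.Y s).card := by
    let ψ : MonoidAlgebra (ZMod q) (DihedralGroup m) →ₐ[ZMod q] ZMod q :=
      MonoidAlgebra.lift (ZMod q) (ZMod q) (DihedralGroup m)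
        ((Int.castRingHom (ZMod q)).toMonoidHom.comp sgn)
    have hψ : ψ (emb (𝔖.ind s)) = ((((𝔖.X s).card : ℤ) - (𝔖.Y s).card : ℤ) : ZMod q) := by
      rw [← 𝔖.sum_ind_r, ← 𝔖.sum_ind_sr, ← sum_sgn, Int.cast_sum, emb, map_sum]
      exact sum_congr rfl fun t _ => by simp [ψ, MonoidAlgebra.lift_single]
    rw [← ZMod.intCast_zmod_eq_zero_iff_dvd, ← hψ]
    have := congrArg ψ hGe
    rw [map_pow, hG0, map_zero] at this
    exact eq_zero_of_pow_eq_zero this
  have hq3 : 3 ≤ q := by have := hq.two_le; omega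
  -- positivity on the subgroup of periods
  set V := AddSubgroup.zmultiples u with hV
  have hcardV : Nat.card V = q := by rw [hV, Nat.card_zmultiples, huo]
  set F := univ.filter (fun v => v ∈ V) with hF
  have hFc : F.card = q := by
    rw [← hcardV, Nat.card_eq_fintype_card, Fintype.card_subtype]
  have h0F : (0 : ZMod m) ∈ F := by simp [hF, V.zero_mem]
  have hXV : ∀ v ∈ V, ∀ x ∈ 𝔖.X s, x + v ∈ 𝔖.X s := by
    intro v hv x hx
    obtain ⟨j, rfl⟩ := mem_multiples_iff_mem_zmultiples.2 hv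
    induction j with
    | zero => simpa using hx
    | succ j ih =>
      show x + (j + 1) • u ∈ 𝔖.X s
      rw [succ_nsmul, ← add_assoc]
      exact hX _ (ih (AddSubgroup.nsmul_mem_zmultiples u j))
  have hsumV : (q : ℤ) * (𝔖.X s).card + 𝔖.cosetSum s V 0 =
      (((𝔖.X s).card : ℤ) + (𝔖.Y s).card) + ((q : ℤ) - 1) * μ := by
    have h1 : ∑ v ∈ F, 𝔖.p s (r v) = (q : ℤ) * (𝔖.X s).card + 𝔖.cosetSum s V 0 := by
      simp only [𝔖.p_r, sum_add_distrib, Scheme.cosetSum, add_zero, Nat.cast_sum, hF]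
      congr 1
      rw [← hF, sum_congr rfl (g := fun _ => ((𝔖.X s).card : ℤ)) fun v hv => ?_, sum_const, hFc,
        nsmul_eq_mul]
      rw [Scheme.xx, filter_true_of_mem fun x hx => ?_]
      rw [sub_eq_add_neg, add_comm]
      exact hXV v (mem_filter.1 hv).2 _ (𝔖.neg_mem_X hx)
    rw [← h1, ← add_sum_erase _ _ h0F, sum_congr rfl (g := fun _ => μ) fun v hv =>
      hall _ (r_ne_one (mem_erase.1 hv).1), sum_const, card_erase_of_mem h0F, hFc, nsmul_eq_mul,
      Nat.cast_sub (by omega), r_zero, ← r_zero (n := m), 𝔖.p_r, 𝔖.xx_zero, 𝔖.yy_zero]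
    simp
  have hcs : (q : ℤ) * ((𝔖.Y s).card * (𝔖.Y s).card) ≤ (m : ℤ) * 𝔖.cosetSum s V 0 := by
    have h1 := 𝔖.cnt_corr s V 0
    simp only [add_zero, hcardV] at h1
    have h2 : ∑ x, 𝔖.cnt s V x = q * (𝔖.Y s).card := by
      simp only [Scheme.cnt, sum_card_filter]
      rw [← hFc, ← card_product]
      refine card_bij' (fun p _ => (p.1 - p.2, p.2)) (fun p _ => (p.1 + p.2, p.2)) ?_ ?_ ?_ ?_
      · rintro ⟨x, i⟩ h
        simp only [hF, mem_filter, mem_product, mem_univ, true_and] at h ⊢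
        exact ⟨h.2, h.1⟩
      · rintro ⟨v, i⟩ h
        simp only [hF, mem_filter, mem_product, mem_univ, true_and] at h ⊢
        exact ⟨h.2, by simpa using h.1⟩
      · rintro ⟨x, i⟩ -; simp
      · rintro ⟨v, i⟩ -; simp
    have h3 := sq_sum_le_card_mul_sum_sq (s := (univ : Finset (ZMod m))) (f := fun x => 𝔖.cnt s V x)
    rw [h2, card_univ, ZMod.card] at h3
    simp only [sq] at h3
    rw [h1] at h3
    simp only [Nat.cast_id] at h3
    have h4 : q * (q * ((𝔖.Y s).card * (𝔖.Y s).card)) ≤ q * (m * 𝔖.cosetSum s V 0) := by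
      calc q * (q * ((𝔖.Y s).card * (𝔖.Y s).card)) = q * (𝔖.Y s).card * (q * (𝔖.Y s).card) := by
            ring
        _ ≤ m * (q * 𝔖.cosetSum s V 0) := h3
        _ = _ := by ring
    exact_mod_cast Nat.le_of_mul_le_mul_left h4 hq.pos
  -- arithmetic
  set a : ℤ := ((𝔖.X s).card : ℤ) with ha
  set c : ℤ := ((𝔖.Y s).card : ℤ) with hc
  have hms : (m : ℤ) * (a + c) - 2 * a * c = m * (a - c) ^ 2 := by rw [e2, ← e3]; ring
  have hineq : (q : ℤ) * (a * m + c * c - 2 * a * c) ≤ m * (a - c) ^ 2 := by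
    have h1 : ((q : ℤ) * a + 𝔖.cosetSum s V 0) * m = (a + c + ((q : ℤ) - 1) * μ) * m := by
      rw [hsumV]
    have h2 : ((q : ℤ) - 1) * (μ * m) = ((q : ℤ) - 1) * (2 * a * c) := by rw [e2]
    linarith
  exact impure_arith rfl (Int.natCast_pos.2 (card_pos.2 (𝔖.exists_mem_Y hm hs)))
    (Int.ofNat_lt.2 hcm) hms (by exact_mod_cast hq3)
    ((show (3 : ℤ) ≤ q by exact_mod_cast hq3).trans
      (Int.le_of_dvd (abs_pos.2 hd0) ((dvd_abs _ _).2 hdvd))) rfl hineq

/-- A scheme on a dihedral group of order a power of two is trivial. -/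
theorem trivial_of_two_pow (hm : 2 ≤ m) (hR : 𝔖.IsRat) {n : ℕ} (hmn : m = 2 ^ (n + 1)) :
    𝔖.IsTrivial := by
  classical
  set u : ZMod m := ((2 ^ n * 1 : ℕ) : ZMod m) with hu
  have hu2 : 2 • u = 0 := by
    rw [hu, mul_one, nsmul_eq_mul, ← Nat.cast_mul, ← pow_succ', ← hmn, ZMod.natCast_self]
  have hu0 : u ≠ 0 := by
    rw [hu, mul_one, Ne, ZMod.natCast_eq_zero_iff, hmn]
    intro h
    have := Nat.le_of_dvd (by positivity) h
    rw [pow_succ] at this
    nlinarith [Nat.two_pow_pos n]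
  have huo := addOrderOf_of_prime Nat.prime_two hu2 hu0
  have hUsub : ∀ y, addOrderOf y ∣ 2 → y ∈ AddSubgroup.zmultiples u := fun y h => by
    obtain ⟨j, rfl⟩ := exists_nsmul (x := u) (y := y) (huo.symm ▸ h)
    exact AddSubgroup.nsmul_mem_zmultiples u j
  have hper : 𝔖.Periods u := by
    refine ⟨hu0, fun y hy => 𝔖.translate hR Nat.prime_two ?_ hu2, fun y hy hy0 => 𝔖.same_order hR ?_⟩
    · have hdy := addOrderOf_dvd_m y
      have e : addOrderOf y ∣ 2 ^ (n + 1) := hdy.trans (dvd_of_eq hmn)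
      obtain ⟨i, -, hi⟩ := (Nat.dvd_prime_pow Nat.prime_two).1 e
      rcases i with _ | _ | i
      · exact absurd (hUsub y (by rw [hi]; norm_num)) hy
      · exact absurd (hUsub y (by rw [hi]; norm_num)) hy
      · rw [hi, pow_succ, pow_succ, mul_assoc]
        exact dvd_mul_left _ _
    · rw [huo]
      refine (addOrderOf_of_prime Nat.prime_two ?_ hy0).symm
      obtain ⟨j, rfl⟩ := AddSubgroup.mem_zmultiples_iff.1 hy
      rw [← natCast_zsmul, ← mul_zsmul, mul_comm, mul_zsmul, natCast_zsmul, hu2, zsmul_zero]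
  by_contra htriv
  unfold Scheme.IsTrivial at htriv
  push Not at htriv
  obtain ⟨x, y, hx, hy, hxy⟩ := htriv
  obtain ⟨s, hs, hs'⟩ : ∃ s, s ≠ 1 ∧ ¬ 𝔖.R s (r u) := by
    by_cases h : 𝔖.R x (r u)
    · exact ⟨y, hy, fun h' => hxy (𝔖.trans' h (𝔖.symm' h'))⟩
    · exact ⟨x, hx, h⟩
  obtain ⟨μ, hall, e3, e2, hd0, hnorm, -, hcm⟩ := hper.data hm hs hs'
  have hμ : (2 : ℤ) ∣ μ := hall s hs ▸ 𝔖.two_dvd_p hm s hs
  obtain ⟨ν, rfl⟩ := hμ
  set a := (𝔖.X s).card with ha
  set c := (𝔖.Y s).card with hc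
  have ha0 : 0 < a := card_pos.2 (𝔖.exists_mem_X hm hs)
  have hc0 : 0 < c := card_pos.2 (𝔖.exists_mem_Y hm hs)
  have ham : a < m := by
    have h1 := card_lt_univ_of_notMem (𝔖.zero_notMem_X hs)
    rwa [ZMod.card] at h1
  have hdiv : m ∣ a * c := Int.natCast_dvd_natCast.1 ⟨ν, by push_cast; linarith⟩
  have hev : ∀ p q : ℕ, m ∣ p * q → 0 < p → p < m → Even q := by
    intro p q h hp hpm
    by_contra hq
    rw [Nat.not_even_iff_odd] at hq
    have hco : Nat.Coprime m q := by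
      rw [hmn]; exact Nat.Coprime.pow_left _ (Nat.coprime_two_left.2 hq)
    exact absurd (Nat.le_of_dvd hp (hco.dvd_of_dvd_mul_right h)) (by omega)
  obtain ⟨a', ha'⟩ := hev c a (by rwa [mul_comm]) hc0 hcm
  obtain ⟨c', hc'⟩ := hev a c hdiv ha0 ham
  have h4 := PiLemma.periodic_of_four (n := n) (O := 1) (Or.inl rfl) (by rw [hmn, mul_one])
    (fun z => 𝔖.ind s (sr z)) (fun z => by unfold Scheme.ind; split_ifs <;> simp) fun z => by
      show (4 : ℤ) ∣ (bar (refPart (𝔖.ind s) : GR ℤ m) * refPart (𝔖.ind s) * (1 - ee u)).coeff z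
      rw [hnorm, ← zsmul_eq_mul, AddMonoidAlgebra.coeff_smul_apply, smul_eq_mul]
      refine dvd_mul_of_dvd_left ⟨((a' : ℤ) - c') ^ 2, ?_⟩ _
      rw [ha', hc']
      push_cast
      ring
  exact (hper.norm_ne hs hs').1 h4

end Scheme

end Cfsg.Agent.DihedralBGroup
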