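import Cfsg.Agent.Lib.DihedralBGroup.Algebra
import Mathlib.RingTheory.Ideal.Quotient.Operations

/-!
# A congruence modulo four forces periodicity

* `periodic_of_four` : if `bar Y * Y * (1 - τ)` is divisible by four then `Y` is `τ`-periodic
-/

set_option autoImplicit false

namespace Cfsg.Agent.DihedralBGroup.PiLemma

open Finset

variable {m : ℕ} [NeZero m]

theorem sq_pow_eq {S : Type*} [CommRing S] (x : S) :
    ∀ k : ℕ, ∃ c, (1 - x) ^ 2 ^ k = (1 - x ^ 2 ^ k) + 2 * c := by
  intro k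
  induction k with
  | zero => exact ⟨0, by ring⟩
  | succ k ih =>
    obtain ⟨c, hc⟩ := ih
    refine ⟨(x ^ 2 ^ k) ^ 2 - x ^ 2 ^ k + 2 * (1 - x ^ 2 ^ k) * c + 2 * c ^ 2, ?_⟩
    rw [pow_succ 2 k, pow_mul, hc, pow_mul]
    ring

theorem two_mem : ∀ (n : ℕ) {S : Type*} [CommRing S] (x : S), x ^ 2 ^ n = -1 →
    (1 - x) ^ 2 ^ n ∣ (2 : S) := by
  intro n
  induction n with
  | zero =>
    intro S _ x hx
    rw [pow_zero, pow_one] at hx
    rw [hx, pow_zero, pow_one]
    exact ⟨1, by ring⟩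
  | succ n ih =>
    intro S _ x hx
    rw [pow_succ', pow_mul] at hx
    obtain ⟨e, he⟩ := ih (x ^ 2) hx
    obtain ⟨d, hd⟩ : (1 - x) ∣ (2 : S) := by
      refine dvd_trans ?_ (Dvd.intro e he.symm)
      refine dvd_trans ?_ (dvd_pow_self _ (pow_ne_zero n two_ne_zero))
      exact ⟨1 + x, by ring⟩
    have h1 : (1 + x) = (1 - x) * (1 + d * x) := by linear_combination x * hd
    refine ⟨(1 + d * x) ^ 2 ^ n * e, ?_⟩
    rw [pow_succ', pow_mul]
    calc (2 : S) = (1 - x ^ 2) ^ 2 ^ n * e := he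
      _ = ((1 - x) ^ 2 * (1 + d * x)) ^ 2 ^ n * e := by
        rw [show 1 - x ^ 2 = (1 - x) ^ 2 * (1 + d * x) by linear_combination (1 - x) * h1]
      _ = _ := by rw [mul_pow, mul_assoc]

theorem mul_sub_ee_coeff (Z : GR ℤ m) (a y : ZMod m) :
    (Z * (1 - ee a)).coeff y = Z.coeff y - Z.coeff (y - a) := by
  rw [mul_sub, mul_one, AddMonoidAlgebra.coeff_sub, Finsupp.sub_apply, coeff_mul_ee]

/-- A set of representatives of the cosets of `⟨τ⟩`. -/
def low (τ y : ZMod m) : Prop := y.val < (y + τ).val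

theorem low_iff {τ : ZMod m} (hτ : τ + τ = 0) (hτ0 : τ ≠ 0) (y : ZMod m) :
    low τ (y + τ) ↔ ¬ low τ y := by
  unfold low
  rw [add_assoc, hτ, add_zero]
  have : y.val ≠ (y + τ).val := fun h => hτ0 (by
    have := ZMod.val_injective m h
    simpa using this.symm)
  omega

theorem mem_span_iff {τ : ZMod m} (hτ : τ + τ = 0) (hτ0 : τ ≠ 0) (Z : GR ℤ m) :
    Z ∈ Ideal.span ({1 + ee τ} : Set (GR ℤ m)) ↔ Z * (1 - ee τ) = 0 := by
  classical
  rw [Ideal.mem_span_singleton']
  constructor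
  · rintro ⟨q, rfl⟩
    rw [mul_assoc, show (1 + ee τ) * (1 - ee τ) = (1 - ee τ * ee τ : GR ℤ m) by ring, ee_mul, hτ,
      ee_zero, sub_self, mul_zero]
  · intro h
    refine ⟨ofFun fun y => if low τ y then Z.coeff y else 0, ?_⟩
    ext y
    have h1 : Z.coeff y = Z.coeff (y - τ) := by
      have := congrArg (fun W : GR ℤ m => W.coeff y) h
      simp only [mul_sub_ee_coeff, AddMonoidAlgebra.coeff_zero, Finsupp.zero_apply] at this
      omega
    have hyt : y - τ = y + τ := by rw [sub_eq_add_neg, neg_eq_of_add_eq_zero_left hτ]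
    rw [mul_add, mul_one, AddMonoidAlgebra.coeff_add, Finsupp.add_apply, coeff_mul_ee, coeff_ofFun,
      coeff_ofFun, hyt]
    by_cases hl : low τ y
    · rw [if_pos hl, if_neg fun h2 => (low_iff hτ hτ0 y).1 h2 hl]
      simp
    · rw [if_neg hl, if_pos ((low_iff hτ hτ0 y).2 hl), ← hyt, ← h1]
      simp

theorem reduced_one : ∀ F : ZMod 1 → ZMod 2, (∀ y, ∑ t, F (-t) * F (y - t) = 0) → ∀ y, F y = 0 := by
  decide

theorem reduced_three :
    ∀ F : ZMod 3 → ZMod 2, (∀ y, ∑ t, F (-t) * F (y - t) = 0) → ∀ y, F y = 0 := by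
  decide

theorem reduced {O : ℕ} [NeZero O] (hO : O = 1 ∨ O = 3) (α : GR (ZMod 2) O) (h : bar α * α = 0) :
    α = 0 := by
  classical
  have key : ∀ F : ZMod O → ZMod 2, (∀ y, ∑ t, F (-t) * F (y - t) = 0) → ∀ y, F y = 0 := by
    rcases hO with rfl | rfl
    · intro F hF y
      exact reduced_one F (fun y => by convert hF y) y
    · intro F hF y
      exact reduced_three F (fun y => by convert hF y) y
  have hα : α = ofFun fun y => ((α.coeff y).val : ℤ) := by
    ext y
    simp [coeff_ofFun]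
  have h2 : ∀ y, ∑ t, α.coeff (-t) * α.coeff (y - t) = 0 := by
    intro y
    have h1 := h
    rw [hα, bar_ofFun, ofFun_mul] at h1
    have := congrArg (fun W : GR (ZMod 2) O => W.coeff y) h1
    simpa [coeff_ofFun] using this
  ext y
  simpa using key (fun y => α.coeff y) h2 y

/-- If `bar Y * Y * (1 - τ)` is divisible by four, then the set `Y` is `τ`-periodic. -/
theorem periodic_of_four {n O : ℕ} [NeZero O] (hO : O = 1 ∨ O = 3) (hm : m = 2 ^ (n + 1) * O)
    (F : ZMod m → ℤ) (hF : ∀ y, F y = 0 ∨ F y = 1)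
    (h4 : ∀ y, (4 : ℤ) ∣ (bar (ofFun F) * ofFun F *
      (1 - ee ((2 ^ n * O : ℕ) : ZMod m) : GR ℤ m)).coeff y) :
    (ofFun F : GR ℤ m) * (1 - ee ((2 ^ n * O : ℕ) : ZMod m)) = 0 := by
  classical
  set τ : ZMod m := ((2 ^ n * O : ℕ) : ZMod m) with hτdef
  have hOpos : 0 < O := Nat.pos_of_ne_zero (NeZero.ne O)
  have hτ : τ + τ = 0 := by
    rw [hτdef, ← Nat.cast_add, ← two_mul, ← mul_assoc, ← pow_succ', ← hm, ZMod.natCast_self]
  have hτ0 : τ ≠ 0 := by
    rw [hτdef, Ne, ZMod.natCast_eq_zero_iff]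
    intro h
    have h1 := Nat.le_of_dvd (by positivity) h
    rw [hm, pow_succ] at h1
    nlinarith [Nat.two_pow_pos n]
  set x0 : ZMod m := (O : ZMod m) with hx0
  set I : Ideal (GR ℤ m) := Ideal.span {1 + ee τ} with hI
  let mk := Ideal.Quotient.mk I
  have hmk : ∀ Z, mk Z = 0 ↔ Z * (1 - ee τ) = 0 := fun Z => by
    rw [Ideal.Quotient.eq_zero_iff_mem, hI, mem_span_iff hτ hτ0]
  have heepow : ∀ k : ℕ, (ee x0 : GR ℤ m) ^ k = ee (k • x0) := by
    intro k
    induction k with
    | zero => rw [pow_zero, zero_nsmul, ee_zero]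
    | succ k ih => rw [pow_succ, ih, ee_mul, succ_nsmul]
  have hpowτ : (ee x0 : GR ℤ m) ^ 2 ^ n = ee τ := by
    rw [heepow, hτdef, hx0, nsmul_eq_mul, Nat.cast_mul]
  have hX : mk (ee x0) ^ 2 ^ n = -1 := by
    rw [← map_pow, hpowτ, eq_neg_iff_add_eq_zero, ← map_one mk, ← map_add, add_comm, hmk, mul_sub,
      mul_one, add_mul, one_mul, ee_mul, hτ, ee_zero]
    abel
  set T := 1 - mk (ee x0) with hT
  obtain ⟨U, hU⟩ := two_mem n (mk (ee x0)) hX
  obtain ⟨W, hW⟩ : (2 : GR ℤ m ⧸ I) ∣ T ^ 2 ^ n := by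
    obtain ⟨c, hc⟩ := sq_pow_eq (mk (ee x0)) n
    refine ⟨1 + c, ?_⟩
    rw [hT, hc, hX]
    ring
  have htmk : mk (1 - ee x0) = T := by rw [map_sub, map_one]
  have hcancel : ∀ z, T * z = 0 → z = 0 := by
    intro z hz
    obtain ⟨Z, rfl⟩ := Ideal.Quotient.mk_surjective z
    rw [← htmk, ← map_mul, hmk] at hz
    rw [hmk]
    set V := Z * (1 - ee τ : GR ℤ m) with hV
    have h1 : V * ee x0 = V := by
      rw [hV]
      linear_combination -hz
    have h2 : ∀ k : ℕ, V * ee x0 ^ k = V := by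
      intro k
      induction k with
      | zero => simp
      | succ k ih => rw [pow_succ', ← mul_assoc, h1, ih]
    have h3 := h2 (2 ^ n)
    rw [hpowτ, hV, mul_assoc, sub_mul, one_mul, ee_mul, hτ, ee_zero] at h3
    have h4 : V + V = 0 := by
      rw [hV]
      linear_combination -h3
    ext y
    have h5 := congrArg (fun Q : GR ℤ m => Q.coeff y) h4
    simp only [AddMonoidAlgebra.coeff_add, Finsupp.add_apply, AddMonoidAlgebra.coeff_zero,
      Finsupp.zero_apply] at h5 ⊢
    omega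
  have hcancelk : ∀ k z, T ^ k * z = 0 → z = 0 := by
    intro k
    induction k with
    | zero => intro z hz; simpa using hz
    | succ k ih => intro z hz; exact ih z (hcancel _ (by rw [← mul_assoc, ← pow_succ']; exact hz))
  -- the residue map
  have hOm : O ∣ m := hm ▸ dvd_mul_left _ _
  set π : ZMod m →+ ZMod O := (ZMod.castHom hOm (ZMod O)).toAddMonoidHom with hπ
  let ρ : GR ℤ m →+* GR (ZMod 2) O := (AddMonoidAlgebra.mapRingHom (ZMod O)
    (Int.castRingHom (ZMod 2))).comp (AddMonoidAlgebra.mapDomainRingHom ℤ π)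
  have hρee : ∀ a, ρ (ee a) = ee (π a) := fun a => by
    simp [ρ, ee]
  have hπx0 : π x0 = 0 := by simp [hπ, hx0]
  have hπτ : π τ = 0 := by
    show ZMod.castHom hOm (ZMod O) τ = 0
    rw [hτdef, Nat.cast_mul, map_mul, map_natCast, map_natCast, ZMod.natCast_self, mul_zero]
  have h2GR : ((1 : GR (ZMod 2) O) + 1) = 0 := by
    ext y
    simp [CharTwo.add_self_eq_zero]
  have hρI : ∀ Z ∈ I, ρ Z = 0 := by
    intro Z hZ
    rw [hI, Ideal.mem_span_singleton'] at hZ
    obtain ⟨q, rfl⟩ := hZ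
    rw [map_mul, map_add, map_one, hρee, hπτ, ee_zero, h2GR, mul_zero]
  have hρbar : ∀ Z, ρ (bar Z) = bar (ρ Z) := by
    intro Z
    induction Z using AddMonoidAlgebra.induction_linear with
    | zero => simp
    | add a b ha hb => simp [ha, hb]
    | single a c => simp [ρ, bar_single]
  have hker : ∀ Z, ρ Z = 0 → T ∣ mk Z := by
    intro Z hZ
    let s : ZMod O → ZMod m := fun o => ((o.val : ℕ) : ZMod m)
    have h1 : ∀ Z : GR ℤ m, T ∣ mk (Z - AddMonoidAlgebra.mapDomain s
        (AddMonoidAlgebra.mapDomain π Z)) := by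
      intro Z
      induction Z using AddMonoidAlgebra.induction_linear with
      | zero => simp
      | add a b ha hb =>
        rw [AddMonoidAlgebra.mapDomain_add, AddMonoidAlgebra.mapDomain_add, add_sub_add_comm,
          map_add]
        exact dvd_add ha hb
      | single a c =>
        rw [AddMonoidAlgebra.mapDomain_single, AddMonoidAlgebra.mapDomain_single]
        obtain ⟨k, hk⟩ : ∃ k : ℕ, a = s (π a) + k • x0 := by
          have h2 : ((a - s (π a)).val : ZMod O) = 0 := by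
            have : π (a - s (π a)) = 0 := by
              show ZMod.castHom hOm (ZMod O) (a - ((π a).val : ZMod m)) = 0
              rw [map_sub, map_natCast, ZMod.natCast_zmod_val]
              exact sub_self _
            rw [ZMod.natCast_val]
            exact this
          rw [ZMod.natCast_eq_zero_iff] at h2
          obtain ⟨k, hk⟩ := h2
          refine ⟨k, ?_⟩
          rw [hx0, nsmul_eq_mul, ← Nat.cast_mul, mul_comm k O, ← hk, ZMod.natCast_zmod_val]
          abel
        rw [show (AddMonoidAlgebra.single a c - AddMonoidAlgebra.single (s (π a)) c : GR ℤ m) =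
          AddMonoidAlgebra.single (s (π a)) c * (ee (k • x0) - 1) by
            rw [mul_sub, mul_one, ee, AddMonoidAlgebra.single_mul_single, mul_one, ← hk],
          map_mul, map_sub, map_one, ← heepow, map_pow]
        refine dvd_mul_of_dvd_right ?_ _
        rw [hT]
        refine (sub_dvd_pow_sub_pow 1 (mk (ee x0)) k).trans ?_
        rw [one_pow, dvd_sub_comm]
    have h2 : ∃ q : GR ℤ O, AddMonoidAlgebra.mapDomain π Z = q + q := by
      have h3 : ∀ o, (2 : ℤ) ∣ (AddMonoidAlgebra.mapDomain π Z).coeff o := by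
        intro o
        have h4 := congrArg (fun Q : GR (ZMod 2) O => Q.coeff o) hZ
        simp only [ρ, RingHom.comp_apply, AddMonoidAlgebra.coeff_mapRingHom,
          AddMonoidAlgebra.coeff_zero, Finsupp.zero_apply] at h4
        exact (ZMod.intCast_zmod_eq_zero_iff_dvd _ 2).1 h4
      refine ⟨ofFun fun o => (AddMonoidAlgebra.mapDomain π Z).coeff o / 2, ?_⟩
      ext o
      simp only [AddMonoidAlgebra.coeff_add, Finsupp.add_apply, coeff_ofFun, Int.cast_id]
      have := h3 o
      omega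
    obtain ⟨q, hq⟩ := h2
    have h5 := h1 Z
    rw [map_sub, hq, AddMonoidAlgebra.mapDomain_add, map_add] at h5
    refine (dvd_iff_dvd_of_dvd_sub h5).2 ?_
    rw [← two_mul]
    exact dvd_mul_of_dvd_left ((dvd_pow_self T (pow_ne_zero n two_ne_zero)).trans ⟨U, hU⟩) _
  -- the product is divisible by four
  obtain ⟨P, hP⟩ : ∃ P : GR ℤ m, mk (bar (ofFun F) * ofFun F) = 4 * mk P := by
    set Z : GR ℤ m := bar (ofFun F) * ofFun F with hZ
    have hyt : ∀ y : ZMod m, y - τ = y + τ := fun y => by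
      rw [sub_eq_add_neg, neg_eq_of_add_eq_zero_left hτ]
    refine ⟨ofFun fun y => if low τ y then (Z * (1 - ee τ : GR ℤ m)).coeff y / 4 else 0, ?_⟩
    rw [show (4 : GR ℤ m ⧸ I) = mk 4 from (map_ofNat mk 4).symm, ← map_mul, ← sub_eq_zero,
      ← map_sub, hmk]
    ext y
    rw [show (4 : GR ℤ m) = ((4 : ℤ) : GR ℤ m) by norm_num, ofFun_zsmul, mul_sub_ee_coeff,
      AddMonoidAlgebra.coeff_sub, Finsupp.sub_apply, Finsupp.sub_apply, coeff_ofFun, coeff_ofFun,
      AddMonoidAlgebra.coeff_zero, Finsupp.zero_apply, hyt, mul_sub_ee_coeff, mul_sub_ee_coeff, hyt,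
      hyt, add_assoc, hτ, add_zero, Int.cast_id, Int.cast_id]
    have e1 := h4 y
    have e2 := h4 (y + τ)
    rw [mul_sub_ee_coeff, hyt] at e1 e2
    rw [add_assoc, hτ, add_zero] at e2
    by_cases hl : low τ y
    · rw [if_pos hl, if_neg fun h2 => (low_iff hτ hτ0 y).1 h2 hl]
      omega
    · rw [if_neg hl, if_pos ((low_iff hτ hτ0 y).2 hl)]
      omega
  -- induction on the power of the uniformizer
  have hmain : ∀ j, j ≤ 2 ^ n → T ^ j ∣ mk (ofFun F) := by
    intro j
    induction j with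
    | zero => simp
    | succ j ih =>
      intro hj
      obtain ⟨g, hg⟩ := ih (by omega)
      obtain ⟨H, rfl⟩ := Ideal.Quotient.mk_surjective g
      have hbarI : ∀ Z ∈ I, bar Z ∈ I := by
        intro Z hZ
        rw [hI, Ideal.mem_span_singleton'] at hZ ⊢
        obtain ⟨q, rfl⟩ := hZ
        exact ⟨bar q, by rw [map_mul, map_add, map_one, bar_ee, neg_eq_of_add_eq_zero_left hτ]⟩
      have hbt : mk (bar (1 - ee x0)) = -mk (ee (-x0)) * T := by
        rw [← htmk, ← map_neg mk, ← map_mul]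
        congr 1
        rw [map_sub, map_one, bar_ee, mul_sub, mul_one, neg_mul, ee_mul, neg_add_cancel, ee_zero]
        abel
      have hbar : mk (bar (ofFun F)) = (-mk (ee (-x0))) ^ j * T ^ j * mk (bar H) := by
        rw [← mul_pow, ← hbt, ← map_pow, ← map_mul, ← map_pow bar, ← map_mul bar, ← sub_eq_zero,
          ← map_sub, ← map_sub bar, Ideal.Quotient.eq_zero_iff_mem]
        refine hbarI _ ?_
        rw [← Ideal.Quotient.eq_zero_iff_mem, map_sub, map_mul, map_pow]
        show mk _ - mk (1 - ee x0) ^ j * mk H = 0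
        rw [htmk, hg, sub_self]
      set V := (-mk (ee (-x0))) with hVdef
      have hV : IsUnit V := by
        refine IsUnit.of_mul_eq_one (-mk (ee x0)) ?_
        rw [hVdef]
        rw [show (-mk (ee (-x0))) * -mk (ee x0) = mk (ee (-x0)) * mk (ee x0) by ring, ← map_mul, ee_mul, neg_add_cancel, ee_zero, map_one]
      have h1 : T ^ (2 * j) * (V ^ j * mk (bar H * H) - T ^ (2 * (2 ^ n - j)) * (U * U * mk P)) =
          0 := by
        have h2 : T ^ (2 * j) * T ^ (2 * (2 ^ n - j)) = T ^ 2 ^ n * T ^ 2 ^ n := by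
          rw [← pow_add, ← pow_add]
          congr 1
          omega
        have h3 : (4 : GR ℤ m ⧸ I) = (T ^ 2 ^ n * U) * (T ^ 2 ^ n * U) := by
          rw [← hU]; norm_num
        rw [map_mul, hbar, hg, h3] at hP
        rw [map_mul, mul_sub, ← mul_assoc (T ^ (2 * j)) (T ^ (2 * (2 ^ n - j))), h2]
        linear_combination hP
      have h2 : T ∣ mk (bar H * H) := by
        refine (hV.pow j).dvd_mul_left.1 ?_
        rw [sub_eq_zero.1 (hcancelk _ _ h1)]
        exact dvd_mul_of_dvd_left (dvd_pow_self T (by omega)) _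
      obtain ⟨z, hz⟩ := h2
      obtain ⟨z, rfl⟩ := Ideal.Quotient.mk_surjective z
      rw [← htmk, ← map_mul, ← sub_eq_zero, ← map_sub, Ideal.Quotient.eq_zero_iff_mem] at hz
      have h5 := hρI _ hz
      rw [map_sub, map_mul, map_mul, hρbar, map_sub, map_one, hρee, hπx0, ee_zero, sub_self,
        zero_mul, sub_zero] at h5
      rw [hg, pow_succ]
      exact mul_dvd_mul_left _ (hker H (reduced hO _ h5))
  obtain ⟨g, hg⟩ := hmain (2 ^ n) le_rfl
  obtain ⟨G, rfl⟩ := Ideal.Quotient.mk_surjective g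
  obtain ⟨W0, rfl⟩ := Ideal.Quotient.mk_surjective W
  have h6 : ((ofFun F : GR ℤ m) - ((2 : ℤ) : GR ℤ m) * (W0 * G)) * (1 - ee τ) = 0 := by
    rw [← hmk, map_sub, map_mul, map_mul, hg, hW, map_intCast]
    push_cast
    ring
  ext y
  have h7 := congrArg (fun Q : GR ℤ m => Q.coeff y) h6
  rw [sub_mul, mul_assoc] at h7
  obtain ⟨Q, hQ⟩ := exists_ofFun (W0 * G * (1 - ee τ))
  simp only [hQ, ofFun_zsmul, AddMonoidAlgebra.coeff_sub, Finsupp.sub_apply, mul_sub_ee_coeff,
    coeff_ofFun, AddMonoidAlgebra.coeff_zero, Finsupp.zero_apply, Int.cast_id] at h7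
  simp only [mul_sub_ee_coeff, coeff_ofFun, AddMonoidAlgebra.coeff_zero, Finsupp.zero_apply,
    Int.cast_id]
  rcases hF y with e | e <;> rcases hF (y - τ) with e' | e' <;> rw [e, e'] at h7 ⊢ <;> omega

end Cfsg.Agent.DihedralBGroup.PiLemma
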