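import Cfsg.Agent.Lib.DihedralBGroup.Tools
import Cfsg.Agent.Lib.DihedralBGroup.Config
import Mathlib.GroupTheory.Index

/-!
# Classes concentrated on few cosets

* `le_two_cnt` : each coset meeting `Y` carries more than half the coefficient `λ`
* `two_cosets` : at least two cosets meet `Y`
* `few_cosets` : with `#Y < 2 #X ≤ ...` the index is `3`, or `7` with three equal cosets
-/

set_option autoImplicit false

namespace Cfsg.Agent.DihedralBGroup

open DihedralGroup Finset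

variable {m : ℕ} [NeZero m]

namespace Scheme

variable (𝔖 : Scheme m)

theorem le_two_cnt {s : DihedralGroup m} (hs1 : s ≠ 1) {K : AddSubgroup (ZMod m)}
    (hK : ∀ x ∈ 𝔖.X s, x ∈ K) {z : ZMod m} (hz : z ∈ 𝔖.Y s) :
    𝔖.p s s + 2 ≤ 2 * (𝔖.cnt s K z : ℤ) := by
  classical
  rw [𝔖.p_congr s (𝔖.mem_Y.1 hz), 𝔖.p_sr]
  have h : 𝔖.xy s z < 𝔖.cnt s K z := by
    have hsub : ((𝔖.X s).filter fun x => z + x ∈ 𝔖.Y s).map (addLeftEmbedding z) ⊂
        (𝔖.Y s).filter fun i => z - i ∈ K := by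
      rw [Finset.ssubset_iff_of_subset]
      · refine ⟨z, mem_filter.2 ⟨hz, by simp [K.zero_mem]⟩, fun h => ?_⟩
        obtain ⟨x, hx, hxz⟩ := mem_map.1 h
        have : x = 0 := by simpa using hxz
        exact 𝔖.zero_notMem_X hs1 (this ▸ (mem_filter.1 hx).1)
      · intro i hi
        obtain ⟨x, hx, rfl⟩ := mem_map.1 hi
        rw [mem_filter] at hx ⊢
        exact ⟨hx.2, by simpa using K.neg_mem (hK x hx.1)⟩
    have := card_lt_card hsub
    rwa [card_map] at this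
  omega

theorem two_cosets (hm : 2 ≤ m) {s : DihedralGroup m} (hs1 : s ≠ 1) {K : AddSubgroup (ZMod m)}
    (hKt : K ≠ ⊤) (hK : ∀ x ∈ 𝔖.X s, x ∈ K) : 𝔖.p s s + 2 ≤ ((𝔖.Y s).card : ℤ) := by
  classical
  obtain ⟨j, hj⟩ := 𝔖.exists_mem_Y hm hs1
  obtain ⟨i, hi, hij⟩ : ∃ i ∈ 𝔖.Y s, i - j ∉ K := by
    by_contra h
    push Not at h
    exact 𝔖.not_in_coset hs1 hKt hK h
  have h1 := 𝔖.le_two_cnt hs1 hK hj
  have h2 := 𝔖.le_two_cnt hs1 hK hi
  have h3 : 𝔖.cnt s K i + 𝔖.cnt s K j ≤ (𝔖.Y s).card := by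
    rw [Scheme.cnt, Scheme.cnt, ← card_union_of_disjoint]
    · exact card_le_card (union_subset (filter_subset _ _) (filter_subset _ _))
    · rw [Finset.disjoint_filter]
      intro x _ hxi hxj
      exact hij (by simpa using K.sub_mem hxi hxj)
  have h4 : ((𝔖.cnt s K i : ℤ) + 𝔖.cnt s K j) ≤ ((𝔖.Y s).card : ℤ) := by exact_mod_cast h3
  linarith

theorem cosetSum_mul (hR : 𝔖.IsRat) (s : DihedralGroup m) (V : AddSubgroup (ZMod m))
    (k : (ZMod m)ˣ) (w : ZMod m) : 𝔖.cosetSum s V ((k : ZMod m) * w) = 𝔖.cosetSum s V w := by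
  classical
  have hV : ∀ (k : (ZMod m)ˣ) v, v ∈ V → (k : ZMod m) * v ∈ V := fun k v hv => by
    rw [← ZMod.natCast_zmod_val (k : ZMod m), ← nsmul_eq_cast_mul]
    exact V.nsmul_mem hv _
  unfold Scheme.cosetSum
  refine sum_nbij' (fun v => ((k⁻¹ : (ZMod m)ˣ) : ZMod m) * v) (fun v => (k : ZMod m) * v)
    ?_ ?_ ?_ ?_ ?_
  · intro v hv
    simp only [mem_coe, mem_filter, mem_univ, true_and] at hv ⊢
    exact hV _ v hv
  · intro v hv
    simp only [mem_coe, mem_filter, mem_univ, true_and] at hv ⊢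
    exact hV _ v hv
  · intro v _; simp [← mul_assoc]
  · intro v _; simp [← mul_assoc]
  · intro v _
    rw [← 𝔖.yy_mul hR s k (((k⁻¹ : (ZMod m)ˣ) : ZMod m) * v + w), mul_add, ← mul_assoc,
      Units.mul_inv, one_mul]

/-- Cosets of a subgroup as fibres of a projection. -/
theorem exists_proj (K : AddSubgroup (ZMod m)) :
    ∃ hd : K.index ∣ m, ∀ x, x ∈ K ↔ ZMod.castHom hd (ZMod K.index) x = 0 := by
  classical
  have hd : K.index ∣ m := by simpa [Nat.card_zmod] using K.index_dvd_card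
  refine ⟨hd, fun x => ?_⟩
  set π : ZMod m →+ ZMod K.index := (ZMod.castHom hd (ZMod K.index)).toAddMonoidHom
  have hle : π.ker ≤ K := by
    intro y hy
    have h1 : (y.val : ZMod K.index) = 0 := by
      rw [ZMod.natCast_val]; exact hy
    rw [ZMod.natCast_eq_zero_iff] at h1
    obtain ⟨q, hq⟩ := h1
    rw [← ZMod.natCast_zmod_val y, hq, Nat.cast_mul, ← nsmul_eq_mul]
    exact K.nsmul_index_mem _
  have hsurj : Function.Surjective π := ZMod.castHom_surjective hd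
  have hk : π.ker.index = K.index := by
    rw [AddSubgroup.index_ker, AddMonoidHom.range_eq_top.2 hsurj]
    simp
  have hcard : Nat.card K ≤ Nat.card π.ker := by
    have h1 := K.card_mul_index
    have h2 := π.ker.card_mul_index
    rw [hk, ← h1] at h2
    have : 0 < K.index := Nat.pos_of_ne_zero AddSubgroup.index_ne_zero_of_finite
    exact (Nat.eq_of_mul_eq_mul_right this h2).ge
  have hKer := AddSubgroup.eq_of_le_of_card_ge hle hcard
  exact (SetLike.ext_iff.1 hKer x).symm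

/-- The three-point configurations. -/
theorem few_cosets (hm : 2 ≤ m) (hR : 𝔖.IsRat) {s : DihedralGroup m} (hs1 : s ≠ 1)
    {K : AddSubgroup (ZMod m)} (hKt : K ≠ ⊤) (hodd : Odd K.index) (hK : ∀ x ∈ 𝔖.X s, x ∈ K)
    (hca : (𝔖.Y s).card < 2 * (𝔖.X s).card) (hlam : ((𝔖.X s).card : ℤ) ≤ 𝔖.p s s + 2) :
    K.index = 3 ∨ (K.index = 7 ∧ ∃ n : ℕ, 0 < n ∧ (∀ w ∈ K, 𝔖.cosetSum s K w = 3 * (n * n)) ∧
      ∀ w ∉ K, 𝔖.cosetSum s K w = n * n) := by
  classical
  obtain ⟨hd, hπ⟩ := exists_proj K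
  haveI : NeZero K.index := ⟨AddSubgroup.index_ne_zero_of_finite⟩
  set π := ZMod.castHom hd (ZMod K.index) with hπdef
  let n : ZMod K.index → ℕ := fun j => ((𝔖.Y s).filter fun i => π i = j).card
  have hn : ∀ x, 𝔖.cnt s K x = n (π x) := fun x => by
    simp only [Scheme.cnt, n]
    congr 1
    refine filter_congr fun i _ => ?_
    rw [hπ, map_sub, sub_eq_zero, eq_comm]
  have hex : ∀ j, n j ≠ 0 → ∃ i ∈ 𝔖.Y s, π i = j := fun j hj => by
    obtain ⟨i, hi⟩ := card_pos.1 (Nat.pos_of_ne_zero hj)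
    exact ⟨i, (mem_filter.1 hi).1, (mem_filter.1 hi).2⟩
  have hG : ∀ w, 𝔖.cosetSum s K w = Config.G n (π w) := fun w => by
    rw [𝔖.cosetSum_eq_pairs, ← sum_card_filter (P := fun a b => b - a - w ∈ K)]
    have h1 : ∀ i, ((𝔖.Y s).filter fun i' => i' - i - w ∈ K).card = n (π i + π w) := fun i => by
      simp only [n]
      congr 1
      refine filter_congr fun i' _ => ?_
      rw [hπ, map_sub, map_sub, sub_sub, sub_eq_zero]
    rw [sum_congr rfl fun i _ => h1 i,
      ← sum_fiberwise (𝔖.Y s) π fun i => n (π i + π w)]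
    exact sum_congr rfl fun j _ => by
      rw [sum_congr rfl (g := fun _ => n (j + π w)) fun i hi => by rw [(mem_filter.1 hi).2],
        sum_const, smul_eq_mul]
  have key := Config.classify (n := n) (a := (𝔖.X s).card) hodd
    (fun h => hKt (AddSubgroup.index_eq_one.1 h)) ?_ ?_ ?_ ?_
  · rcases key with h | ⟨h7, N, hN, h0, h1⟩
    · exact Or.inl h
    · exact Or.inr ⟨h7, N, hN, fun w hw => by rw [hG, (hπ w).1 hw, h0],
        fun w hw => by rw [hG]; exact h1 _ fun h => hw ((hπ w).2 h)⟩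
  · intro j hj
    obtain ⟨i, hi, rfl⟩ := hex j hj
    have := 𝔖.le_two_cnt hs1 hK hi
    rw [hn] at this
    omega
  · rwa [← card_eq_sum_card_fiberwise fun i _ => mem_univ (π i)]
  · intro k w
    obtain ⟨K', hK'⟩ := ZMod.unitsMap_surjective hd k
    obtain ⟨w', rfl⟩ := ZMod.castHom_surjective hd w
    have : π (K' : ZMod m) = (k : ZMod K.index) := by
      rw [← hK', ZMod.unitsMap_def, Units.coe_map]
      rfl
    rw [← this, ← map_mul, ← hG, ← hG, 𝔖.cosetSum_mul hR]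
  · intro H hH
    by_contra hne
    obtain ⟨j, hj⟩ := 𝔖.exists_mem_Y hm hs1
    refine 𝔖.not_in_coset hs1 (K := H.comap π.toAddMonoidHom) (fun h => hne (eq_top_iff.2 ?_))
      (fun x hx => ?_) (j := j) fun i hi => ?_
    · intro w _
      obtain ⟨w', rfl⟩ := ZMod.castHom_surjective hd w
      exact (h ▸ AddSubgroup.mem_top w' : w' ∈ H.comap π.toAddMonoidHom)
    · show π x ∈ H
      rw [(hπ x).1 (hK x hx)]
      exact H.zero_mem
    · show π (i - j) ∈ H
      rw [map_sub]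
      exact hH _ _ (card_pos.2 ⟨j, mem_filter.2 ⟨hj, (rfl : π j = π j)⟩⟩).ne'
        (card_pos.2 ⟨i, mem_filter.2 ⟨hi, (rfl : π i = π i)⟩⟩).ne'

end Scheme

end Cfsg.Agent.DihedralBGroup
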