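import Mathlib.GroupTheory.SpecificGroups.Dihedral
import Mathlib.Data.Fintype.Card
import Mathlib.Algebra.BigOperators.Ring.Finset
import Cfsg.Agent.EqLemmas

/-!
# Primitive Schur partitions of dihedral groups (owner: helper67)

* `Scheme` : an equivalence relation on a dihedral group behaving like a primitive Schur partition
* `X`, `Y` : the parts of a class in the cyclic subgroup and outside of it
* `triangle` : the identity between class parts and structure constants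
* `eq_const` : a class function invariant under a nontrivial translation is constant
-/

set_option autoImplicit false

namespace Cfsg.Agent.DihedralBGroup

open DihedralGroup Finset

variable {m : ℕ} [NeZero m]

/-- Convolution of functions on the dihedral group. -/
def conv (f g : DihedralGroup m → ℤ) (h : DihedralGroup m) : ℤ := ∑ t, f t * g (t⁻¹ * h)

/-- A primitive Schur partition of the dihedral group. -/
structure Scheme (m : ℕ) [NeZero m] where
  /-- the relation of lying in the same class -/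
  R : DihedralGroup m → DihedralGroup m → Prop
  rfl' : ∀ x, R x x
  symm' : ∀ {x y}, R x y → R y x
  trans' : ∀ {x y z}, R x y → R y z → R x z
  eq_one : ∀ {x}, R x 1 → x = 1
  inv' : ∀ x, R x x⁻¹
  conv' : ∀ f g : DihedralGroup m → ℤ, (∀ x y, R x y → f x = f y) →
    (∀ x y, R x y → g x = g y) → ∀ x y, R x y → conv f g x = conv f g y
  gen : ∀ O : Set (DihedralGroup m), (∀ x ∈ O, ∀ y, R x y → y ∈ O) → (∃ x ∈ O, x ≠ 1) →
    Subgroup.closure O = ⊤

namespace Scheme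

variable (𝔖 : Scheme m)

/-- Functions constant on the classes. -/
def InS (f : DihedralGroup m → ℤ) : Prop := ∀ x y, 𝔖.R x y → f x = f y

open Classical in
/-- The indicator of the class of `s`. -/
noncomputable def ind (s : DihedralGroup m) (h : DihedralGroup m) : ℤ := if 𝔖.R s h then 1 else 0

theorem inS_ind (s : DihedralGroup m) : 𝔖.InS (𝔖.ind s) := fun x y h => by
  unfold Scheme.ind
  have : 𝔖.R s x ↔ 𝔖.R s y := ⟨fun h' => 𝔖.trans' h' h, fun h' => 𝔖.trans' h' (𝔖.symm' h)⟩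
  by_cases hx : 𝔖.R s x
  · rw [if_pos hx, if_pos (this.1 hx)]
  · rw [if_neg hx, if_neg (fun e => hx (this.2 e))]

theorem inS_conv {f g : DihedralGroup m → ℤ} (hf : 𝔖.InS f) (hg : 𝔖.InS g) : 𝔖.InS (conv f g) :=
  𝔖.conv' f g hf hg

theorem inS_inv {f : DihedralGroup m → ℤ} (hf : 𝔖.InS f) (x : DihedralGroup m) : f x⁻¹ = f x :=
  (hf _ _ (𝔖.inv' x)).symm

theorem conv_comm {f g : DihedralGroup m → ℤ} (hf : 𝔖.InS f) (hg : 𝔖.InS g) :
    conv f g = conv g f := by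
  funext h
  rw [← 𝔖.inS_inv (𝔖.inS_conv hf hg) h]
  unfold conv
  refine Fintype.sum_equiv (Equiv.mulLeft h) _ _ fun t => ?_
  show f t * g (t⁻¹ * h⁻¹) = g (h * t) * f ((h * t)⁻¹ * h)
  rw [show (h * t)⁻¹ * h = t⁻¹ by group, 𝔖.inS_inv hf, ← 𝔖.inS_inv hg (h * t),
    show (h * t)⁻¹ = t⁻¹ * h⁻¹ by group, mul_comm]

open Classical in
/-- The part of a class in the cyclic subgroup. -/
noncomputable def X (s : DihedralGroup m) : Finset (ZMod m) := univ.filter fun i => 𝔖.R s (r i)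

open Classical in
/-- The part of a class outside the cyclic subgroup. -/
noncomputable def Y (s : DihedralGroup m) : Finset (ZMod m) := univ.filter fun i => 𝔖.R s (sr i)

theorem mem_X {s : DihedralGroup m} {i : ZMod m} : i ∈ 𝔖.X s ↔ 𝔖.R s (r i) := by simp [X]

theorem mem_Y {s : DihedralGroup m} {i : ZMod m} : i ∈ 𝔖.Y s ↔ 𝔖.R s (sr i) := by simp [Y]

theorem ind_r (s : DihedralGroup m) (i : ZMod m) : 𝔖.ind s (r i) = if i ∈ 𝔖.X s then 1 else 0 := by
  classical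
  simp [Scheme.ind, 𝔖.mem_X]

theorem ind_sr (s : DihedralGroup m) (i : ZMod m) :
    𝔖.ind s (sr i) = if i ∈ 𝔖.Y s then 1 else 0 := by
  classical
  simp [Scheme.ind, 𝔖.mem_Y]

theorem X_congr {s t : DihedralGroup m} (h : 𝔖.R s t) : 𝔖.X s = 𝔖.X t := by
  ext i
  rw [𝔖.mem_X, 𝔖.mem_X]
  exact ⟨fun h' => 𝔖.trans' (𝔖.symm' h) h', fun h' => 𝔖.trans' h h'⟩

theorem Y_congr {s t : DihedralGroup m} (h : 𝔖.R s t) : 𝔖.Y s = 𝔖.Y t := by
  ext i
  rw [𝔖.mem_Y, 𝔖.mem_Y]
  exact ⟨fun h' => 𝔖.trans' (𝔖.symm' h) h', fun h' => 𝔖.trans' h h'⟩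

theorem self_mem_X (i : ZMod m) : i ∈ 𝔖.X (r i) := 𝔖.mem_X.2 (𝔖.rfl' _)

theorem neg_mem_X {s : DihedralGroup m} {i : ZMod m} (h : i ∈ 𝔖.X s) : -i ∈ 𝔖.X s := by
  rw [𝔖.mem_X] at h ⊢
  have := 𝔖.trans' h (𝔖.inv' _)
  rwa [inv_r] at this

theorem zero_notMem_X {s : DihedralGroup m} (hs : s ≠ 1) : (0 : ZMod m) ∉ 𝔖.X s := fun h => by
  rw [𝔖.mem_X, r_zero] at h
  exact hs (𝔖.eq_one h)

theorem sum_dihedral {M : Type*} [AddCommMonoid M] (F : DihedralGroup m → M) :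
    ∑ t, F t = (∑ i, F (r i)) + ∑ i, F (sr i) := by
  classical
  let e : ZMod m ⊕ ZMod m ≃ DihedralGroup m :=
    { toFun := fun x => x.elim r sr
      invFun := fun g => match g with
        | .r i => Sum.inl i
        | .sr i => Sum.inr i
      left_inv := fun x => by rcases x with i | i <;> rfl
      right_inv := fun g => by rcases g with i | i <;> rfl }
  rw [← Fintype.sum_equiv e (fun x => F (e x)) F fun x => rfl, Fintype.sum_sum_type]
  rfl

/-- The structure constant of two classes at an element of the cyclic subgroup. -/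
theorem conv_ind_r (s l : DihedralGroup m) (y : ZMod m) :
    conv (𝔖.ind s) (𝔖.ind l) (r y) = (((𝔖.X s).filter fun x => y - x ∈ 𝔖.X l).card : ℤ) +
      ((𝔖.Y s).filter fun i => i + y ∈ 𝔖.Y l).card := by
  classical
  unfold conv
  rw [sum_dihedral, natCast_card_filter, natCast_card_filter]
  congr 1
  · rw [← Finset.sum_subset (Finset.subset_univ (𝔖.X s)) (fun x _ hx => by simp [𝔖.ind_r, hx])]
    refine sum_congr rfl fun x hx => ?_
    simp [𝔖.ind_r, hx, sub_eq_neg_add]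
  · rw [← Finset.sum_subset (Finset.subset_univ (𝔖.Y s)) (fun x _ hx => by simp [𝔖.ind_sr, hx])]
    refine sum_congr rfl fun x hx => ?_
    simp [𝔖.ind_sr, hx]

/-- The structure constant of two classes outside the cyclic subgroup. -/
theorem conv_ind_sr (s l : DihedralGroup m) (z : ZMod m) :
    conv (𝔖.ind s) (𝔖.ind l) (sr z) = (((𝔖.X s).filter fun x => z + x ∈ 𝔖.Y l).card : ℤ) +
      ((𝔖.Y s).filter fun i => z - i ∈ 𝔖.X l).card := by
  classical
  unfold conv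
  rw [sum_dihedral, natCast_card_filter, natCast_card_filter]
  congr 1
  · rw [← Finset.sum_subset (Finset.subset_univ (𝔖.X s)) (fun x _ hx => by simp [𝔖.ind_r, hx])]
    refine sum_congr rfl fun x hx => ?_
    simp [𝔖.ind_r, 𝔖.ind_sr, hx, sub_neg_eq_add]
  · rw [← Finset.sum_subset (Finset.subset_univ (𝔖.Y s)) (fun x _ hx => by simp [𝔖.ind_sr, hx])]
    refine sum_congr rfl fun x hx => ?_
    simp [𝔖.ind_r, 𝔖.ind_sr, hx]

open Classical in
/-- Autocorrelation of `X`. -/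
noncomputable def xx (s : DihedralGroup m) (y : ZMod m) : ℕ :=
  ((𝔖.X s).filter fun x => y - x ∈ 𝔖.X s).card

open Classical in
/-- Autocorrelation of `Y`. -/
noncomputable def yy (s : DihedralGroup m) (y : ZMod m) : ℕ :=
  ((𝔖.Y s).filter fun i => i + y ∈ 𝔖.Y s).card

open Classical in
/-- The number of `x ∈ X` with `z + x ∈ Y`. -/
noncomputable def xy (s : DihedralGroup m) (z : ZMod m) : ℕ :=
  ((𝔖.X s).filter fun x => z + x ∈ 𝔖.Y s).card

/-- The structure constant of the class of `s` with itself. -/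
noncomputable def p (s h : DihedralGroup m) : ℤ := conv (𝔖.ind s) (𝔖.ind s) h

theorem p_congr (s : DihedralGroup m) {g h : DihedralGroup m} (e : 𝔖.R g h) :
    𝔖.p s g = 𝔖.p s h := 𝔖.inS_conv (𝔖.inS_ind s) (𝔖.inS_ind s) g h e

theorem p_r (s : DihedralGroup m) (y : ZMod m) :
    𝔖.p s (r y) = (𝔖.xx s y : ℤ) + 𝔖.yy s y := by
  unfold Scheme.p Scheme.xx Scheme.yy
  convert 𝔖.conv_ind_r s s y

theorem p_sr (s : DihedralGroup m) (z : ZMod m) : 𝔖.p s (sr z) = 2 * (𝔖.xy s z : ℤ) := by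
  classical
  rw [Scheme.p, 𝔖.conv_ind_sr, Scheme.xy]
  have h : ((𝔖.Y s).filter fun i => z - i ∈ 𝔖.X s).card =
      ((𝔖.X s).filter fun x => z + x ∈ 𝔖.Y s).card := by
    refine card_bij' (fun i _ => i - z) (fun x _ => z + x) ?_ ?_ ?_ ?_
    · intro i hi
      rw [mem_filter] at hi ⊢
      refine ⟨?_, by simpa using hi.1⟩
      simpa using 𝔖.neg_mem_X hi.2
    · intro x hx
      rw [mem_filter] at hx ⊢
      refine ⟨hx.2, ?_⟩
      simpa using 𝔖.neg_mem_X hx.1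
    · intro i _; simp
    · intro x _; simp
  rw [h]
  ring

theorem exists_mem_X (hm : 2 ≤ m) {s : DihedralGroup m} (hs : s ≠ 1) :
    (𝔖.X s).Nonempty := by
  classical
  by_contra hX
  rw [Finset.not_nonempty_iff_eq_empty] at hX
  have hsr : ∀ h, 𝔖.R s h → ∃ i, h = sr i := fun h hh => by
    rcases h with i | i
    · exact absurd (𝔖.mem_X.2 hh) (by simp [hX])
    · exact ⟨i, rfl⟩
  have hgen := 𝔖.gen {h | 𝔖.R s h} (fun x hx y hy => 𝔖.trans' hx hy) ⟨s, 𝔖.rfl' s, hs⟩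
  by_cases hone : ∀ h, 𝔖.R s h → h = s
  · -- a single reflection generates a subgroup of order two
    obtain ⟨i, rfl⟩ := hsr s (𝔖.rfl' s)
    have hle : Subgroup.closure {h | 𝔖.R (sr i) h} ≤ Subgroup.zpowers (sr i) := by
      rw [Subgroup.closure_le]
      intro h hh
      rw [hone h hh]
      exact Subgroup.mem_zpowers _
    rw [hgen, top_le_iff] at hle
    have := congrArg (fun K : Subgroup (DihedralGroup m) => Nat.card K) hle
    simp only [Nat.card_zpowers, orderOf_sr, Subgroup.card_top, DihedralGroup.nat_card] at this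
    omega
  push Not at hone
  obtain ⟨t, ht, hts⟩ := hone
  have hgen2 := 𝔖.gen {h | conv (𝔖.ind s) (𝔖.ind s) h ≠ 0}
    (fun x hx y hy => by
      simp only [Set.mem_setOf_eq] at hx ⊢
      rwa [show conv (𝔖.ind s) (𝔖.ind s) x = conv (𝔖.ind s) (𝔖.ind s) y from
        𝔖.p_congr s hy] at hx) ?_
  · have hle : Subgroup.closure {h | conv (𝔖.ind s) (𝔖.ind s) h ≠ 0} ≤
        Subgroup.zpowers (r 1) := by
      rw [Subgroup.closure_le]
      intro h hh
      rcases h with i | i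
      · exact ⟨(i.cast : ℤ), by simp [r_one_zpow]⟩
      · exfalso
        refine hh ?_
        rw [show conv (𝔖.ind s) (𝔖.ind s) (sr i) = 𝔖.p s (sr i) from rfl, 𝔖.p_sr, Scheme.xy, hX]
        simp
    rw [hgen2, top_le_iff] at hle
    have := congrArg (fun K : Subgroup (DihedralGroup m) => Nat.card K) hle
    simp only [Nat.card_zpowers, orderOf_r_one, Subgroup.card_top, DihedralGroup.nat_card] at this
    omega
  obtain ⟨i, rfl⟩ := hsr s (𝔖.rfl' _)
  obtain ⟨j, rfl⟩ := hsr t ht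
  refine ⟨r (j - i), ?_, fun h => hts ?_⟩
  · simp only [Set.mem_setOf_eq]
    rw [show conv (𝔖.ind (sr i)) (𝔖.ind (sr i)) (r (j - i)) = 𝔖.p (sr i) (r (j - i)) from rfl,
      𝔖.p_r]
    have : 0 < 𝔖.yy (sr i) (j - i) := Finset.card_pos.2 ⟨i, mem_filter.2
      ⟨𝔖.mem_Y.2 (𝔖.rfl' _), by rw [add_sub_cancel]; exact 𝔖.mem_Y.2 ht⟩⟩
    omega
  · rw [one_def] at h
    simp only [r.injEq, sub_eq_zero] at h
    rw [h]

theorem exists_mem_Y (hm : 2 ≤ m) {s : DihedralGroup m} (hs : s ≠ 1) :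
    (𝔖.Y s).Nonempty := by
  classical
  by_contra hY
  rw [Finset.not_nonempty_iff_eq_empty] at hY
  have hgen := 𝔖.gen {h | 𝔖.R s h} (fun x hx y hy => 𝔖.trans' hx hy) ⟨s, 𝔖.rfl' s, hs⟩
  have hle : Subgroup.closure {h | 𝔖.R s h} ≤ Subgroup.zpowers (r 1) := by
    rw [Subgroup.closure_le]
    intro h hh
    rcases h with i | i
    · exact ⟨(i.cast : ℤ), by simp [r_one_zpow]⟩
    · exact absurd (𝔖.mem_Y.2 hh) (by simp [hY])
  rw [hgen, top_le_iff] at hle
  have := congrArg (fun K : Subgroup (DihedralGroup m) => Nat.card K) hle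
  simp only [Nat.card_zpowers, orderOf_r_one, Subgroup.card_top, DihedralGroup.nat_card] at this
  omega

theorem sum_card_filter {α β : Type*} (A : Finset α) (B : Finset β) (P : α → β → Prop)
    [∀ a b, Decidable (P a b)] :
    ∑ a ∈ A, (B.filter fun b => P a b).card = ((A ×ˢ B).filter fun q => P q.1 q.2).card := by
  classical
  rw [card_filter, sum_product]
  exact sum_congr rfl fun a _ => card_filter _ _

/-- The triangle identity. -/
theorem triangle (s l : DihedralGroup m) :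
    2 * (((𝔖.X s).card : ℤ) + (𝔖.Y s).card) * ∑ y ∈ 𝔖.X l, (𝔖.xx s y : ℤ) =
      𝔖.p s l * (2 * (𝔖.X s).card * (𝔖.X l).card +
        (((𝔖.X s).card : ℤ) - (𝔖.Y s).card) * (𝔖.Y l).card) := by
  classical
  set T := ∑ y ∈ 𝔖.X l, 𝔖.xx s y with hT
  set S := ∑ y ∈ 𝔖.X l, 𝔖.yy s y with hS
  set U := ∑ z ∈ 𝔖.Y l, 𝔖.xy s z with hU
  have h1 : (T : ℤ) + S = (𝔖.X l).card * 𝔖.p s l := by
    rw [hT, hS, Nat.cast_sum, Nat.cast_sum, ← sum_add_distrib, ← nsmul_eq_mul, ← sum_const]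
    exact sum_congr rfl fun y hy => by rw [← 𝔖.p_r, 𝔖.p_congr s (𝔖.mem_X.1 hy)]
  have h2 : 2 * (U : ℤ) = (𝔖.Y l).card * 𝔖.p s l := by
    rw [hU, Nat.cast_sum, mul_sum, ← nsmul_eq_mul, ← sum_const]
    exact sum_congr rfl fun z hz => by rw [← 𝔖.p_sr, 𝔖.p_congr s (𝔖.mem_Y.1 hz)]
  set g := conv (𝔖.ind s) (𝔖.ind l) s with hg
  have hcst : ∀ h, 𝔖.R s h → g = conv (𝔖.ind s) (𝔖.ind l) h :=
    𝔖.inS_conv (𝔖.inS_ind s) (𝔖.inS_ind l) s
  have eT : ∑ y ∈ 𝔖.X s, ((𝔖.X s).filter fun x => y - x ∈ 𝔖.X l).card = T := by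
    rw [hT]
    simp only [Scheme.xx, sum_card_filter]
    refine card_bij' (fun q _ => (q.1 - q.2, q.1)) (fun q _ => (q.2, q.2 - q.1)) ?_ ?_ ?_ ?_
    · rintro ⟨a, b⟩ h
      simp only [mem_filter, mem_product] at h ⊢
      refine ⟨⟨h.2, h.1.1⟩, ?_⟩
      simpa using 𝔖.neg_mem_X h.1.2
    · rintro ⟨a, b⟩ h
      simp only [mem_filter, mem_product] at h ⊢
      refine ⟨⟨h.1.2, ?_⟩, by simpa using h.1.1⟩
      simpa using 𝔖.neg_mem_X h.2
    · rintro ⟨a, b⟩ -; simp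
    · rintro ⟨a, b⟩ -; simp
  have eU : ∑ y ∈ 𝔖.X s, ((𝔖.Y s).filter fun i => i + y ∈ 𝔖.Y l).card = U := by
    rw [hU]
    simp only [Scheme.xy, sum_card_filter]
    refine card_bij' (fun q _ => (q.2 + q.1, -q.1)) (fun q _ => (-q.2, q.1 + q.2)) ?_ ?_ ?_ ?_
    · rintro ⟨a, b⟩ h
      simp only [mem_filter, mem_product] at h ⊢
      exact ⟨⟨h.2, 𝔖.neg_mem_X h.1.1⟩, by simpa using h.1.2⟩
    · rintro ⟨a, b⟩ h
      simp only [mem_filter, mem_product] at h ⊢
      exact ⟨⟨𝔖.neg_mem_X h.1.2, h.2⟩, by simpa using h.1.1⟩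
    · rintro ⟨a, b⟩ -; simp
    · rintro ⟨a, b⟩ -; simp
  have eU' : ∑ z ∈ 𝔖.Y s, ((𝔖.X s).filter fun x => z + x ∈ 𝔖.Y l).card = U := by
    rw [hU]
    simp only [Scheme.xy, sum_card_filter]
    refine card_bij' (fun q _ => (q.1 + q.2, -q.2)) (fun q _ => (q.1 + q.2, -q.2)) ?_ ?_ ?_ ?_
    · rintro ⟨a, b⟩ h
      simp only [mem_filter, mem_product] at h ⊢
      exact ⟨⟨h.2, 𝔖.neg_mem_X h.1.2⟩, by simpa using h.1.1⟩
    · rintro ⟨a, b⟩ h
      simp only [mem_filter, mem_product] at h ⊢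
      exact ⟨⟨h.2, 𝔖.neg_mem_X h.1.2⟩, by simpa using h.1.1⟩
    · rintro ⟨a, b⟩ -; simp
    · rintro ⟨a, b⟩ -; simp
  have eS : ∑ z ∈ 𝔖.Y s, ((𝔖.Y s).filter fun i => z - i ∈ 𝔖.X l).card = S := by
    rw [hS]
    simp only [Scheme.yy, sum_card_filter]
    refine card_bij' (fun q _ => (q.1 - q.2, q.2)) (fun q _ => (q.2 + q.1, q.2)) ?_ ?_ ?_ ?_
    · rintro ⟨a, b⟩ h
      simp only [mem_filter, mem_product] at h ⊢
      exact ⟨⟨h.2, h.1.2⟩, by simpa using h.1.1⟩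
    · rintro ⟨a, b⟩ h
      simp only [mem_filter, mem_product] at h ⊢
      exact ⟨⟨h.2, h.1.2⟩, by simpa using h.1.1⟩
    · rintro ⟨a, b⟩ -; simp
    · rintro ⟨a, b⟩ -; simp
  have h3 : (T : ℤ) + U = (𝔖.X s).card * g := by
    rw [← eT, ← eU, Nat.cast_sum, Nat.cast_sum, ← sum_add_distrib, ← nsmul_eq_mul, ← sum_const]
    refine sum_congr rfl fun y hy => ?_
    rw [hcst _ (𝔖.mem_X.1 hy), 𝔖.conv_ind_r]
  have h4 : (U : ℤ) + S = (𝔖.Y s).card * g := by
    rw [← eU', ← eS, Nat.cast_sum, Nat.cast_sum, ← sum_add_distrib, ← nsmul_eq_mul, ← sum_const]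
    refine sum_congr rfl fun z hz => ?_
    rw [hcst _ (𝔖.mem_Y.1 hz), 𝔖.conv_ind_sr]
  rw [← Nat.cast_sum, ← hT]
  linear_combination 2 * ((𝔖.Y s).card : ℤ) * h3 - 2 * ((𝔖.X s).card : ℤ) * h4 +
    2 * ((𝔖.X s).card : ℤ) * h1 + (((𝔖.X s).card : ℤ) - (𝔖.Y s).card) * h2

end Scheme

end Cfsg.Agent.DihedralBGroup
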