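import Mathlib.Data.Nat.Totient
import Mathlib.Algebra.BigOperators.Fin
import Mathlib.Data.ZMod.Basic
import Mathlib.Tactic.Linarith
import Mathlib.Tactic.FinCases
import Cfsg.Agent.EqLemmas

/-!
# Three-point configurations on small cyclic groups (owner: helper67)

* `five`, `seven`, `nine` : autocorrelations of three-point weights
* `small_totient` : odd numbers with totient at most six
-/

set_option autoImplicit false

namespace Cfsg.Agent.DihedralBGroup.Small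

open Finset

theorem five {N : Fin 5 → ℕ} {A : ℕ} {a b : Fin 5} (ha : a ≠ 0) (hb : b ≠ 0) (hab : a ≠ b)
    (hsup : ∀ e, e ≠ 0 → e ≠ a → e ≠ b → N e = 0)
    (hv : ∀ e, e = 0 ∨ e = a ∨ e = b → A ≤ 2 * N e ∧ N e < A)
    (h : ∑ e, N e * N (e + 1) = ∑ e, N e * N (e + 2)) : False := by
  obtain ⟨x, y, z, rfl⟩ : ∃ x y z, N = fun e => if e = 0 then x else if e = a then y
      else if e = b then z else 0 := ⟨N 0, N a, N b, funext fun e => by
      split_ifs with i j k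
      · rw [i]
      · rw [j]
      · rw [k]
      · exact hsup e i j k⟩
  obtain ⟨h0, h0'⟩ := hv 0 (Or.inl rfl)
  obtain ⟨h1, h1'⟩ := hv a (Or.inr (Or.inl rfl))
  obtain ⟨h2, h2'⟩ := hv b (Or.inr (Or.inr rfl))
  simp only [if_pos, if_neg ha, if_neg hb, if_neg (Ne.symm hab)] at h0 h0' h1 h1' h2 h2'
  have hs : ∀ f : Fin 5 → ℕ, ∑ e, f e = f 0 + f 1 + f 2 + f 3 + f 4 := fun f =>
    Fin.sum_univ_five f
  rw [hs, hs] at h
  clear hs hsup hv
  fin_cases a <;> fin_cases b <;> simp +decide at ha hb hab h ⊢ <;>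
    nlinarith [Nat.mul_le_mul h0 h1, Nat.mul_le_mul h0 h2, Nat.mul_le_mul h1 h2]

set_option maxHeartbeats 2000000 in
theorem seven {N : Fin 7 → ℕ} {g : ℕ} {a b : Fin 7} (ha : a ≠ 0) (hb : b ≠ 0) (hab : a ≠ b)
    (hg : 0 < g) (hsup : ∀ e, e ≠ 0 → e ≠ a → e ≠ b → N e = 0)
    (h1 : ∑ e, N e * N (e + 1) = g) (h2 : ∑ e, N e * N (e + 2) = g)
    (h3 : ∑ e, N e * N (e + 3) = g) : N a = N 0 ∧ N b = N 0 ∧ g = N 0 * N 0 := by
  obtain ⟨x, y, z, rfl⟩ : ∃ x y z, N = fun e => if e = 0 then x else if e = a then y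
      else if e = b then z else 0 := ⟨N 0, N a, N b, funext fun e => by
      split_ifs with i j k
      · rw [i]
      · rw [j]
      · rw [k]
      · exact hsup e i j k⟩
  have hs : ∀ f : Fin 7 → ℕ, ∑ e, f e = f 0 + f 1 + f 2 + f 3 + f 4 + f 5 + f 6 := fun f =>
    Fin.sum_univ_seven f
  rw [hs] at h1 h2 h3
  simp only [if_pos, if_neg ha, if_neg hb, if_neg (Ne.symm hab)]
  clear hs hsup
  have key : ∀ x y z : ℕ, x * y = g → y * z = g → x * z = g → y = x ∧ z = x ∧ g = x * x := by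
    intro x y z e1 e2 e3
    have hx : 0 < x := by rcases Nat.eq_zero_or_pos x with h|h <;> simp_all
    have hy : 0 < y := by rcases Nat.eq_zero_or_pos y with h|h <;> simp_all
    have e12 : x = z := Nat.eq_of_mul_eq_mul_right hy (by rw [e1, mul_comm z y, e2])
    have e13 : y = z := Nat.eq_of_mul_eq_mul_left hx (by rw [e1, e3])
    exact ⟨e13.trans e12.symm, e12.symm, by rw [← e3, e12]⟩
  fin_cases a <;> fin_cases b <;> simp +decide at ha hb hab h1 h2 h3 ⊢ <;>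
    first
    | omega
    | exact key x y z (by linarith) (by linarith) (by linarith)

theorem nine : ∀ a b : ZMod 9, ∃ w : ZMod 9, IsUnit w ∧ w ≠ a ∧ w ≠ -a ∧ w ≠ b ∧ w ≠ -b ∧
    w ≠ b - a ∧ w ≠ a - b := by
  have h : ∀ a b : ZMod 9, ∃ w ∈ ({1, 2, 4, 5, 7, 8} : Finset (ZMod 9)), w ≠ a ∧ w ≠ -a ∧ w ≠ b ∧
      w ≠ -b ∧ w ≠ b - a ∧ w ≠ a - b := by decide +kernel
  intro a b
  obtain ⟨w, hw, hh⟩ := h a b
  exact ⟨w, by fin_cases hw <;> exact (by decide), hh⟩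

theorem small_totient {t : ℕ} (ht : Odd t) (h : Nat.totient t ≤ 6) :
    t = 1 ∨ t = 3 ∨ t = 5 ∨ t = 7 ∨ t = 9 := by
  have ht0 : 0 < t := by rcases ht with ⟨k, rfl⟩; omega
  have h315 : t ∣ 315 := by
    rw [Nat.dvd_iff_prime_pow_dvd_dvd]
    intro p k hp hd
    rcases k with _ | k
    · simp
    have hle := (Nat.le_of_dvd (Nat.totient_pos.2 ht0) (Nat.totient_dvd_of_dvd hd)).trans h
    rw [Nat.totient_prime_pow_succ hp] at hle
    have h12 : p ^ (k + 1) ≤ 12 := by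
      rw [pow_succ]
      have h2 : p ≤ 2 * (p - 1) := by have := hp.two_le; omega
      have := Nat.mul_le_mul_left (p ^ k) h2
      nlinarith
    have key : ∀ n : ℕ, n ≤ 12 → Odd n → Nat.totient n ≤ 6 → n ∣ 315 := by decide +kernel
    exact key _ h12 (ht.of_dvd_nat hd) ((Nat.totient_prime_pow_succ hp k).le.trans hle)
  have key : ∀ n ∈ Nat.divisors 315, Nat.totient n ≤ 6 → n = 1 ∨ n = 3 ∨ n = 5 ∨ n = 7 ∨ n = 9 := by
    decide +kernel
  exact key t (Nat.mem_divisors.2 ⟨h315, by norm_num⟩) h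

/-- `five` on residues. -/
theorem five' {N : ZMod 5 → ℕ} {A : ℕ} {a b : ZMod 5} (ha : a ≠ 0) (hb : b ≠ 0) (hab : a ≠ b)
    (hsup : ∀ e, e ≠ 0 → e ≠ a → e ≠ b → N e = 0)
    (hv : ∀ e, e = 0 ∨ e = a ∨ e = b → A ≤ 2 * N e ∧ N e < A)
    (h : ∑ e, N e * N (e + 1) = ∑ e, N e * N (e + 2)) : False :=
  five ha hb hab hsup hv h

/-- `seven` on residues. -/
theorem seven' {N : ZMod 7 → ℕ} {g : ℕ} {a b : ZMod 7} (ha : a ≠ 0) (hb : b ≠ 0) (hab : a ≠ b)
    (hg : 0 < g) (hsup : ∀ e, e ≠ 0 → e ≠ a → e ≠ b → N e = 0)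
    (h1 : ∑ e, N e * N (e + 1) = g) (h2 : ∑ e, N e * N (e + 2) = g)
    (h3 : ∑ e, N e * N (e + 3) = g) : N a = N 0 ∧ N b = N 0 ∧ g = N 0 * N 0 :=
  seven ha hb hab hg hsup h1 h2 h3

end Cfsg.Agent.DihedralBGroup.Small
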