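import Cfsg.Agent.Lib.DihedralBGroup.Algebra
import Mathlib.NumberTheory.LegendreSymbol.JacobiSymbol
import Mathlib.NumberTheory.LSeries.PrimesInAP
import Mathlib.Data.Nat.Squarefree

/-!
# Eigenvalues of `bar Y * Y` are squares

* `exists_nonresidue` : a nonsquare is a nonresidue modulo arbitrarily large primes
* `eigen_square` : an integer eigenvalue of `bar Y * Y` is a square
-/

set_option autoImplicit false

namespace Cfsg.Agent.DihedralBGroup

open Finset DihedralGroup

section Residue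

theorem jacobi_one_of_modEq {r M : ℕ} (hr : r % 4 = 1) (hM : Odd M) (h : r ≡ 1 [MOD M]) :
    jacobiSym M r = 1 := by
  rw [← jacobiSym.quadratic_reciprocity_one_mod_four hr hM, jacobiSym.mod_left' (a₂ := 1),
    jacobiSym.one_left]
  exact_mod_cast h

theorem jacobi_two_of_mod {r : ℕ} :
    (r % 8 = 1 → jacobiSym 2 r = 1) ∧ (r % 8 = 5 → jacobiSym 2 r = -1) := by
  constructor <;> intro h <;>
    rw [jacobiSym.at_two (Nat.odd_iff.2 (by omega)), ZMod.χ₈_nat_eq_if_mod_eight] <;>
    simp [h, show r % 2 = 1 by omega]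

theorem jacobi_one_of_modEq_all {r a : ℕ} (ha : Squarefree a) (h8 : r % 8 = 1)
    (h : r ≡ 1 [MOD a]) : jacobiSym a r = 1 := by
  rcases Nat.even_or_odd a with hev | hodd
  · obtain ⟨M, rfl⟩ := even_iff_two_dvd.1 hev
    have hM : Odd M := by
      rw [← Nat.not_even_iff_odd]
      rintro ⟨k, rfl⟩
      have := ha 2 ⟨k, by ring⟩
      simp [Nat.isUnit_iff] at this
    rw [Nat.cast_mul, jacobiSym.mul_left, Nat.cast_ofNat, jacobi_two_of_mod.1 h8, one_mul]
    exact jacobi_one_of_modEq (by omega) hM (h.of_mul_left 2)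
  · exact jacobi_one_of_modEq (by omega) hodd h

/-- A nonsquare is a nonresidue modulo arbitrarily large primes. -/
theorem exists_nonresidue {N : ℕ} (hN : ¬ IsSquare N) (B : ℕ) :
    ∃ r, r.Prime ∧ B < r ∧ r % 2 = 1 ∧ ((N : ℤ) : ZMod r) ^ (r / 2) = -1 := by
  obtain ⟨a, b, hab, ha⟩ := Nat.sq_mul_squarefree N
  have ha1 : a ≠ 1 := fun h => hN ⟨b, by rw [← hab, h]; ring⟩
  obtain ⟨l, hl, hla⟩ := Nat.exists_prime_and_dvd ha1
  obtain ⟨a', rfl⟩ := hla
  have hla' : ¬ l ∣ a' := fun ⟨k, hk⟩ => by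
    have := ha l ⟨k, by rw [hk]; ring⟩
    exact hl.not_isUnit this
  have ha' : Squarefree a' := ha.squarefree_of_dvd (dvd_mul_left _ _)
  have hN0 : N ≠ 0 := fun h => hN (h ▸ ⟨0, rfl⟩)
  have ha'0 : a' ≠ 0 := ha'.ne_zero
  have key : ∀ r, r.Prime → max B N < r → r % 2 = 1 → jacobiSym ((l * a' : ℕ) : ℤ) r = -1 →
      B < r ∧ ((N : ℤ) : ZMod r) ^ (r / 2) = -1 := by
    intro r hr hbig _ hJ
    haveI := Fact.mk hr
    refine ⟨lt_of_le_of_lt (le_max_left _ _) hbig, ?_⟩
    rw [← legendreSym.eq_pow, jacobiSym.legendreSym.to_jacobiSym, ← hab, Nat.cast_mul,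
      jacobiSym.mul_left, hJ, Nat.cast_pow, jacobiSym.sq_one']
    · simp
    · have hb0 : b ≠ 0 := fun h => hN0 (by rw [← hab, h]; simp)
      have hbN : b ≤ N := by
        rw [← hab]
        exact le_trans (Nat.le_self_pow two_ne_zero b) (Nat.le_mul_of_pos_right _ (Nat.pos_of_ne_zero
          (mul_ne_zero hl.ne_zero ha'0)))
      rw [Int.gcd_natCast_natCast, Nat.gcd_comm]
      exact hr.coprime_iff_not_dvd.2 fun h => absurd (Nat.le_of_dvd (Nat.pos_of_ne_zero hb0) h)
        (by have := le_max_right B N; omega)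
  by_cases hl2 : l = 2
  · subst hl2
    have hodd : Odd a' := Nat.not_even_iff_odd.1 fun h => hla' (even_iff_two_dvd.1 h)
    have hco : Nat.Coprime 8 a' := by
      rw [show (8 : ℕ) = 2 ^ 3 by norm_num]
      exact Nat.Coprime.pow_left _ (Nat.coprime_two_left.2 hodd)
    obtain ⟨k, hk1, hk2⟩ := Nat.chineseRemainder hco 5 1
    obtain ⟨r, hrB, hr, hrk⟩ := Nat.forall_exists_prime_gt_and_modEq (q := 8 * a') (a := k)
      (max B N) (mul_ne_zero (by norm_num) ha'0) (by
        refine Nat.Coprime.mul_right ?_ ?_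
        · rw [Nat.coprime_iff_gcd_eq_one, hk1.gcd_eq]; norm_num
        · rw [Nat.coprime_iff_gcd_eq_one, hk2.gcd_eq]; simp)
    have h8 : r % 8 = 5 := by
      have := (hrk.of_mul_right a').trans hk1
      simpa [Nat.ModEq] using this
    have hJ : jacobiSym ((2 * a' : ℕ) : ℤ) r = -1 := by
      rw [Nat.cast_mul, jacobiSym.mul_left, Nat.cast_ofNat, jacobi_two_of_mod.2 h8,
        jacobi_one_of_modEq (by omega) hodd ((hrk.of_mul_left 8).trans hk2)]
      norm_num
    obtain ⟨h1, h2⟩ := key r hr hrB (by omega) hJ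
    exact ⟨r, hr, h1, by omega, h2⟩
  · haveI := Fact.mk hl
    obtain ⟨v, hv⟩ := FiniteField.exists_nonsquare (F := ZMod l) (by rwa [ZMod.ringChar_zmod_n])
    have hlodd : Odd l := hl.odd_of_ne_two hl2
    have hco : Nat.Coprime l (8 * a') := by
      refine Nat.Coprime.mul_right ?_ (hl.coprime_iff_not_dvd.2 hla')
      rw [show (8 : ℕ) = 2 ^ 3 by norm_num]
      exact Nat.Coprime.pow_right _ (Nat.coprime_two_right.2 hlodd)
    obtain ⟨k, hk1, hk2⟩ := Nat.chineseRemainder hco v.val 1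
    have hv0 : v ≠ 0 := fun h => hv (h ▸ ⟨0, by simp⟩)
    obtain ⟨r, hrB, hr, hrk⟩ := Nat.forall_exists_prime_gt_and_modEq (q := l * (8 * a')) (a := k)
      (max B N) (mul_ne_zero hl.ne_zero (mul_ne_zero (by norm_num) ha'0)) (by
        refine Nat.Coprime.mul_right ?_ ?_
        · rw [Nat.coprime_iff_gcd_eq_one, hk1.gcd_eq, ← Nat.coprime_iff_gcd_eq_one, Nat.coprime_comm,
            hl.coprime_iff_not_dvd]
          intro h
          have h1 := Nat.le_of_dvd (Nat.pos_of_ne_zero fun h => hv0 ((ZMod.val_eq_zero v).1 h)) h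
          have h2 := ZMod.val_lt v
          omega
        · rw [Nat.coprime_iff_gcd_eq_one, hk2.gcd_eq]; simp)
    have h8a : r ≡ 1 [MOD 8 * a'] := (hrk.of_mul_left l).trans hk2
    have h8 : r % 8 = 1 := by
      have := h8a.of_mul_right a'
      simpa [Nat.ModEq] using this
    have hJ : jacobiSym ((l * a' : ℕ) : ℤ) r = -1 := by
      rw [Nat.cast_mul, jacobiSym.mul_left,
        jacobi_one_of_modEq_all ha' h8 (h8a.of_mul_left 8), mul_one,
        ← jacobiSym.quadratic_reciprocity_one_mod_four (show r % 4 = 1 by omega) hlodd,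
        ← jacobiSym.legendreSym.to_jacobiSym, legendreSym.eq_neg_one_iff']
      rw [(ZMod.natCast_eq_natCast_iff _ _ _).2 ((hrk.of_mul_right (8 * a')).trans hk1),
        ZMod.natCast_zmod_val]
      exact hv
    obtain ⟨h1, h2⟩ := key r hr hrB (by omega) hJ
    exact ⟨r, hr, h1, by omega, h2⟩

end Residue

variable {m : ℕ} [NeZero m]

namespace Scheme

variable (𝔖 : Scheme m)

/-- The reflection part is fixed by the power `bar Y * Y` to half a large prime. -/
theorem refPart_pow (hm : 2 ≤ m) (hR : 𝔖.IsRat) {r : ℕ} (hr : r.Prime) (hr2 : r ≠ 2)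
    (hrm : ¬ r ∣ m) {f : DihedralGroup m → ℤ} (hf : 𝔖.InS f) :
    (bar (refPart f : GR (ZMod r) m) * refPart f) ^ (r / 2) * refPart f = refPart f := by
  classical
  haveI := Fact.mk hr
  haveI : CharP (Matrix (Fin 2) (Fin 2) (GR (ZMod r) m)) r :=
    charP_of_injective_algebraMap (FaithfulSMul.algebraMap_injective (ZMod r) _) r
  let M : DihedralGroup m →* Matrix (Fin 2) (Fin 2) (GR (ZMod r) m) :=
    { toFun := fun g => match g with
        | .r i => !![ee i, 0; 0, ee (-i)]
        | .sr i => !![0, ee (-i); ee i, 0]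
      map_one' := by
        show !![ee (0 : ZMod m), 0; 0, ee (-(0 : ZMod m))] = (1 : Matrix (Fin 2) (Fin 2) (GR (ZMod r) m))
        rw [neg_zero, ee_zero, Matrix.one_fin_two]
      map_mul' := fun a b => by
        rcases a with i | i <;> rcases b with j | j <;>
          simp only [r_mul_r, r_mul_sr, sr_mul_r, sr_mul_sr, Matrix.mul_fin_two, mul_zero, zero_mul,
            add_zero, zero_add, ee_mul] <;>
          simp [sub_eq_add_neg, add_comm] }
  let Ψ : MonoidAlgebra (ZMod r) (DihedralGroup m) →ₐ[ZMod r] Matrix (Fin 2) (Fin 2) (GR (ZMod r) m) :=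
    MonoidAlgebra.lift (ZMod r) (Matrix (Fin 2) (Fin 2) (GR (ZMod r) m)) (DihedralGroup m) M
  set X : GR (ZMod r) m := rotPart f with hX
  set Y : GR (ZMod r) m := refPart f with hY
  set Nm : Matrix (Fin 2) (Fin 2) (GR (ZMod r) m) := !![0, bar Y; Y, 0] with hNm
  have hΨ : Ψ (emb f) = Matrix.scalar (Fin 2) X + Nm := by
    have hsm : ∀ (c : ZMod r) (i : ZMod m),
        c • (ee i : GR (ZMod r) m) = AddMonoidAlgebra.single i c := fun c i => by
      simp [ee, AddMonoidAlgebra.smul_single]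
    rw [emb, map_sum, sum_dihedral]
    congr 1
    · rw [sum_congr rfl (g := fun i => !![(AddMonoidAlgebra.single i (f (DihedralGroup.r i) : ZMod r) : GR (ZMod r) m),
        0; 0, bar (AddMonoidAlgebra.single i (f (DihedralGroup.r i) : ZMod r))]) fun i _ => by
          rw [bar_single]
          simp [Ψ, MonoidAlgebra.lift_single, M, hsm]]
      refine Matrix.ext fun p q => ?_
      fin_cases p <;> fin_cases q <;>
        simp [Matrix.sum_apply, Matrix.scalar, hX]
      · rfl
      · rw [← map_sum]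
        exact 𝔖.bar_rotPart hf
    · rw [sum_congr rfl (g := fun i => !![0, bar (AddMonoidAlgebra.single i (f (sr i) : ZMod r));
        (AddMonoidAlgebra.single i (f (sr i) : ZMod r) : GR (ZMod r) m), 0]) fun i _ => by
          rw [bar_single]
          simp [Ψ, MonoidAlgebra.lift_single, M, hsm]]
      refine Matrix.ext fun p q => ?_
      fin_cases p <;> fin_cases q <;>
        simp [Matrix.sum_apply, hNm, hY]
      · rw [← map_sum]; rfl
      · rfl
  have hNN : Nm * Nm = Matrix.scalar (Fin 2) (bar Y * Y) := by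
    ext p q
    fin_cases p <;> fin_cases q <;> simp [hNm, Matrix.scalar, mul_comm]
  have hcomm : Commute (Matrix.scalar (Fin 2) X) Nm :=
    Matrix.scalar_commute _ (fun _ => Commute.all _ _) _
  have hpow : Ψ (emb f) ^ r = Ψ (emb f) := by
    rw [← map_pow, 𝔖.pow_self hm hR hr hr2 hrm hf]
  have hr' : r = 2 * (r / 2) + 1 := by
    have := Nat.odd_iff.1 (hr.odd_of_ne_two hr2)
    omega
  rw [hΨ, add_pow_char_of_commute (p := r) hcomm, ← map_pow] at hpow
  have hN : Nm ^ r = Matrix.scalar (Fin 2) ((bar Y * Y) ^ (r / 2)) * Nm := by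
    calc Nm ^ r = Nm ^ (2 * (r / 2) + 1) := congrArg (Nm ^ ·) hr'
      _ = _ := by rw [pow_succ, pow_mul, pow_two, hNN, ← map_pow]
  rw [hN] at hpow
  have := congrFun (congrFun hpow 1) 0
  simpa [hNm, Matrix.scalar] using this

/-- Integer eigenvalues of `bar Y * Y` are squares. -/
theorem eigen_square (hm : 2 ≤ m) (hR : 𝔖.IsRat) {f : DihedralGroup m → ℤ} (hf : 𝔖.InS f)
    {w : GR ℤ m} (hw : w ≠ 0) {N : ℤ}
    (h : bar (refPart f) * refPart f * w = (N : GR ℤ m) * w) :
    IsSquare N := by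
  classical
  obtain ⟨y0, hy0⟩ : ∃ y, w.coeff y ≠ 0 := by
    by_contra h0
    push Not at h0
    exact hw (by ext y; simpa using h0 y)
  by_cases hY : (refPart f : GR ℤ m) * w = 0
  · rw [mul_assoc, hY, mul_zero] at h
    have := congrArg (fun Q : GR ℤ m => Q.coeff y0) h
    simp only [← zsmul_eq_mul, AddMonoidAlgebra.coeff_smul_apply, AddMonoidAlgebra.coeff_zero,
      Finsupp.zero_apply, smul_eq_mul] at this
    exact ⟨0, by simpa using (mul_eq_zero.1 this.symm).resolve_right hy0⟩
  obtain ⟨z0, hz0⟩ : ∃ z, ((refPart f : GR ℤ m) * w).coeff z ≠ 0 := by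
    by_contra h0
    push Not at h0
    exact hY (by ext y; simpa using h0 y)
  -- the eigenvalue is nonnegative
  have hnonneg : 0 ≤ N := by
    have hsq : ∀ Z : GR ℤ m, (bar Z * Z).coeff 0 = ∑ t, Z.coeff t * Z.coeff t := by
      intro Z
      obtain ⟨F, rfl⟩ := exists_ofFun Z
      rw [bar_ofFun, ofFun_mul]
      simp only [coeff_ofFun, Int.cast_id, zero_sub]
      exact Fintype.sum_equiv (Equiv.neg _) _ _ fun t => by simp
    have h1 : bar ((refPart f : GR ℤ m) * w) * (refPart f * w) = (N : GR ℤ m) * (bar w * w) := by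
      rw [map_mul]
      linear_combination bar w * h
    have h2 := congrArg (fun Q : GR ℤ m => Q.coeff 0) h1
    simp only [← zsmul_eq_mul, AddMonoidAlgebra.coeff_smul_apply, smul_eq_mul, hsq] at h2
    have h3 : (0 : ℤ) < ∑ t, w.coeff t * w.coeff t :=
      sum_pos' (fun t _ => mul_self_nonneg _) ⟨y0, mem_univ _, mul_self_pos.2 hy0⟩
    have h4 : (0 : ℤ) ≤ ∑ t, ((refPart f : GR ℤ m) * w).coeff t *
        ((refPart f : GR ℤ m) * w).coeff t := sum_nonneg fun t _ => mul_self_nonneg _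
    rw [h2] at h4
    by_contra hneg
    push Not at hneg
    nlinarith
  lift N to ℕ using hnonneg
  by_contra hns
  have hns' : ¬ IsSquare N := fun ⟨k, hk⟩ => hns ⟨k, by rw [hk]; push_cast; rfl⟩
  obtain ⟨r, hr, hrB, hr2, hrN⟩ := exists_nonresidue hns'
    (max m (((refPart f : GR ℤ m) * w).coeff z0).natAbs)
  haveI := Fact.mk hr
  have hrm : ¬ r ∣ m := fun h => absurd (Nat.le_of_dvd (by omega) h) (by omega)
  let φ : GR ℤ m →+* GR (ZMod r) m := AddMonoidAlgebra.mapRingHom (ZMod m) (Int.castRingHom (ZMod r))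
  have hφY : φ (refPart f) = refPart f := by
    ext y
    simp [φ, refPart, coeff_ofFun]
  have hφb : φ (bar (refPart f)) = bar (refPart f) := by
    rw [refPart, bar_ofFun, refPart, bar_ofFun]
    ext y
    simp [φ, coeff_ofFun]
  have h1 := congrArg φ h
  rw [map_mul, map_mul, hφY, hφb, map_mul, map_intCast] at h1
  have h2 := 𝔖.refPart_pow hm hR hr (fun h => by rw [h] at hr2; norm_num at hr2) hrm hf
  set W : GR (ZMod r) m := φ w with hW
  set Z : GR (ZMod r) m := bar (refPart f) * refPart f with hZ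
  have h3 : ∀ k : ℕ, Z ^ k * W = ((N : ℤ) : GR (ZMod r) m) ^ k * W := by
    intro k
    induction k with
    | zero => simp
    | succ k ih => rw [pow_succ, mul_assoc, h1, mul_left_comm, ih]; ring
  have h4 : ((-1 : ZMod r) : ZMod r) • (refPart f * W : GR (ZMod r) m) = refPart f * W := by
    rw [← hrN, Algebra.smul_def, map_pow, map_intCast]
    conv_rhs => rw [← h2, mul_assoc, mul_comm (refPart f) W, ← mul_assoc, h3]
    ring
  have h5 := congrArg (fun Q : GR (ZMod r) m => Q.coeff z0) h4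
  simp only [AddMonoidAlgebra.coeff_smul_apply, smul_eq_mul, neg_mul, one_mul] at h5
  have h6 : (refPart f * W : GR (ZMod r) m).coeff z0 =
      ((((refPart f : GR ℤ m) * w).coeff z0 : ℤ) : ZMod r) := by
    rw [hW, ← hφY, ← map_mul]
    exact AddMonoidAlgebra.coeff_mapRingHom _ _ _
  rw [h6] at h5
  have h7 : ((((refPart f : GR ℤ m) * w).coeff z0 : ℤ) : ZMod r) = 0 := by
    have h8 : (2 : ZMod r) * ((((refPart f : GR ℤ m) * w).coeff z0 : ℤ) : ZMod r) = 0 := by
      linear_combination -h5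
    refine (mul_eq_zero.1 h8).resolve_left fun h9 => ?_
    have h' : ((2 : ℕ) : ZMod r) = 0 := by exact_mod_cast h9
    rw [ZMod.natCast_eq_zero_iff] at h'
    have := Nat.le_of_dvd (by norm_num) h'
    omega
  rw [ZMod.intCast_zmod_eq_zero_iff_dvd] at h7
  have := Nat.le_of_dvd (Int.natAbs_pos.2 hz0) (Int.natCast_dvd.1 h7)
  omega

end Scheme

end Cfsg.Agent.DihedralBGroup
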