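import Cfsg.Agent.Lib.DihedralBGroup.TwoCommon
import Cfsg.Agent.Lib.DihedralBGroup.Periodic

/-!
# Two-classes when the odd part is three

* `norm_mul` : the reflection part of a class function modulo the two-part
* `unique_two` : there is at most one two-class
* `dichotomy` : the signed length of the two-class is the square root of an eigenvalue
-/

set_option autoImplicit false

namespace Cfsg.Agent.DihedralBGroup

open DihedralGroup Finset

variable {m : ℕ} [NeZero m]

/-- The autocorrelation of the reflection part. -/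
def auto (f : DihedralGroup m → ℤ) (y : ZMod m) : ℤ := ∑ t, f (sr t) * f (sr (t + y))

/-- An element of order six. -/
def six (m n : ℕ) : ZMod m := ((2 ^ n : ℕ) : ZMod m)

theorem bar_refPart_mul (f : DihedralGroup m → ℤ) :
    bar (refPart f : GR ℤ m) * refPart f = ofFun (auto f) := by
  rw [refPart, bar_ofFun, ofFun_mul]
  congr 1
  funext y
  exact Fintype.sum_equiv (Equiv.neg (ZMod m)) _ _ fun t => by
    simp [sub_eq_neg_add]

theorem auto_neg (f : DihedralGroup m → ℤ) (y : ZMod m) : auto f (-y) = auto f y := by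
  unfold auto
  exact Fintype.sum_equiv (Equiv.addRight (-y)) _ _ fun t => by simp [mul_comm]

theorem sum_conv_sgn (f g : DihedralGroup m → ℤ) :
    ∑ h, conv f g h * sgn h = (∑ t, f t * sgn t) * ∑ t, g t * sgn t := by
  simp only [conv, sum_mul]
  rw [sum_comm]
  refine sum_congr rfl fun t _ => ?_
  rw [mul_sum]
  exact Fintype.sum_equiv (Equiv.mulLeft t⁻¹) _ _ fun h => by
    show f t * g (t⁻¹ * h) * sgn h = f t * sgn t * (g (t⁻¹ * h) * sgn (t⁻¹ * h))
    rw [show sgn h = sgn t * sgn (t⁻¹ * h) by rw [← map_mul, mul_inv_cancel_left]]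
    ring

theorem conv_assoc (f g h : DihedralGroup m → ℤ) : conv (conv f g) h = conv f (conv g h) := by
  have e := mul_assoc (emb f : MonoidAlgebra ℤ (DihedralGroup m)) (emb g) (emb h)
  rw [emb_mul, emb_mul, emb_mul, emb_mul] at e
  funext x
  have := congrArg (fun Z => MonoidAlgebra.coeff Z x) e
  simpa [coeff_emb] using this

section Three

variable {n : ℕ} (hmn : m = 2 ^ (n + 1) * 3)
include hmn

theorem six_order : addOrderOf (six m n) = 6 := by
  rw [six, ZMod.addOrderOf_coe _ (NeZero.ne m),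
    Nat.gcd_eq_right ⟨6, by rw [hmn, pow_succ]; ring⟩]
  exact Nat.div_eq_of_eq_mul_left (Nat.two_pow_pos n) (by rw [hmn, pow_succ]; ring)

theorem six_ne {i : ℕ} (hi : i ≠ 0) (hi6 : i < 6) : i • six m n ≠ 0 := by
  intro h
  have := Nat.le_of_dvd (Nat.pos_of_ne_zero hi)
    (six_order hmn ▸ addOrderOf_dvd_iff_nsmul_eq_zero.2 h)
  omega

theorem six_nsmul : 6 • six m n = 0 := six_order hmn ▸ addOrderOf_nsmul_eq_zero (six m n)

theorem tau_order : addOrderOf (3 • six m n) = 2 := by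
  rw [addOrderOf_nsmul, six_order hmn]
  rfl

theorem two_tau : 3 • six m n + 3 • six m n = 0 := by rw [← add_nsmul]; exact six_nsmul hmn

theorem sub_tau (y : ZMod m) : y - 3 • six m n = y + 3 • six m n := by
  rw [sub_eq_add_neg, neg_eq_of_add_eq_zero_left (two_tau hmn)]

theorem four_or_six (y : ZMod m) : 4 ∣ addOrderOf y ∨ ∃ i < 6, i • six m n = y := by
  have hd : addOrderOf y ∣ 2 ^ (n + 1) * 3 := (addOrderOf_dvd_m y).trans (dvd_of_eq hmn)
  obtain ⟨a, b, ha, hb, hab⟩ := exists_dvd_and_dvd_of_dvd_mul hd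
  obtain ⟨i, -, rfl⟩ := (Nat.dvd_prime_pow Nat.prime_two).1 ha
  rcases le_or_gt 2 i with hi | hi
  · left
    rw [hab]
    exact dvd_mul_of_dvd_left ((pow_dvd_pow 2 hi)) _
  · right
    have h6 : addOrderOf y ∣ 6 := by
      rw [hab, show (6 : ℕ) = 2 ^ 1 * 3 by norm_num]
      exact Nat.mul_dvd_mul (pow_dvd_pow 2 (by omega)) hb
    obtain ⟨k, hk⟩ := exists_nsmul (x := six m n) (y := y) (six_order hmn ▸ h6)
    refine ⟨k % 6, Nat.mod_lt _ (by norm_num), ?_⟩
    rw [← hk]
    conv_rhs => rw [← Nat.div_add_mod k 6, add_nsmul, mul_nsmul, six_nsmul hmn, nsmul_zero, zero_add]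

theorem six_inj {i j : ℕ} (hi : i < 6) (hj : j < 6) (h : i • six m n = j • six m n) : i = j :=
  nsmul_injOn_Iio_addOrderOf (by rw [six_order hmn]; exact hi) (by rw [six_order hmn]; exact hj) h

theorem mem_two_six {i : ℕ} (hi : i < 6) (h : i • six m n ∈ S2 (n + 1)) : i = 0 ∨ i = 3 := by
  rw [mem_S2, addOrderOf_nsmul, six_order hmn] at h
  have h3 : ¬ 3 ∣ 2 ^ (n + 1) := fun h3 =>
    absurd ((Nat.prime_dvd_prime_iff_eq Nat.prime_three Nat.prime_two).1
      (Nat.prime_three.dvd_of_dvd_pow h3)) (by norm_num)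
  interval_cases i
  · exact Or.inl rfl
  all_goals first
    | exact Or.inr rfl
    | exact absurd (dvd_trans (by decide) h) h3

end Three

namespace Scheme

variable (𝔖 : Scheme m)

theorem auto_ind (s : DihedralGroup m) (y : ZMod m) : auto (𝔖.ind s) y = (𝔖.yy s y : ℤ) := by
  have h := congrArg (fun Q : GR ℤ m => Q.coeff y)
    ((bar_refPart_mul (𝔖.ind s)).symm.trans (𝔖.norm_ind s))
  simpa [coeff_ofFun] using h

theorem auto_mul (hR : 𝔖.IsRat) {f : DihedralGroup m → ℤ} (hf : 𝔖.InS f) (k : (ZMod m)ˣ)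
    (y : ZMod m) : auto f ((k : ZMod m) * y) = auto f y := by
  have key : ∀ y, auto f y = conv f f (r y) - ∑ x, f (r x) * f (r (y - x)) := by
    intro y
    unfold conv auto
    rw [sum_dihedral]
    simp [neg_add_eq_sub, sr_mul_r, r_mul_r]
  rw [key, key, ← 𝔖.inS_conv hf hf _ _ (hR k y)]
  congr 1
  exact (Fintype.sum_equiv (Units.mulLeft k) _ _ fun x => by
    show f (r x) * f (r (y - x)) = f (r ((k : ZMod m) * x)) * f (r ((k : ZMod m) * y - (k : ZMod m) * x))
    rw [← mul_sub, ← hf _ _ (hR k x), ← hf _ _ (hR k (y - x))]).symm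

variable {n : ℕ} (hmn : m = 2 ^ (n + 1) * 3)
include hmn

theorem auto_tau (hR : 𝔖.IsRat) {f : DihedralGroup m → ℤ} (hf : 𝔖.InS f) {y : ZMod m}
    (hy : 4 ∣ addOrderOf y) : auto f (y + 3 • six m n) = auto f y := by
  obtain ⟨K, hK⟩ := exists_unit_of_order (x := y) (y := y + 3 • six m n)
    (order_translate Nat.prime_two hy (by rw [two_nsmul, two_tau hmn])).symm
  rw [← hK, 𝔖.auto_mul hR hf]

theorem norm_mul (hR : 𝔖.IsRat) {f : DihedralGroup m → ℤ} (hf : 𝔖.InS f) :
    let e : ℤ := auto f 0 - auto f (3 • six m n)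
    let b : ℤ := auto f (2 • six m n) - auto f (5 • six m n)
    bar (refPart f : GR ℤ m) * refPart f * (1 - ee (six m n) ^ 3) =
      ((e : GR ℤ m) + (b : GR ℤ m) * (ee (six m n) ^ 2 + ee (six m n) ^ 4)) *
        (1 - ee (six m n) ^ 3) := by
  classical
  intro e b
  set g : GR ℤ m := ee (six m n) with hg
  have hgi : ∀ i : ℕ, g ^ i = ee (i • six m n) := by
    intro i
    induction i with
    | zero => rw [pow_zero, zero_nsmul, ee_zero]
    | succ i ih => rw [pow_succ, ih, hg, ee_mul, succ_nsmul]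
  have hg6 : g ^ 6 = 1 := by rw [hgi, six_nsmul hmn, ee_zero]
  set D : ZMod m → ℤ := fun y => auto f y - auto f (y + 3 • six m n) with hD
  have hL : bar (refPart f : GR ℤ m) * refPart f * (1 - g ^ 3) =
      ∑ i ∈ Finset.range 6, (D (i • six m n) : GR ℤ m) * g ^ i := by
    rw [bar_refPart_mul, hgi 3]
    ext y
    rw [PiLemma.mul_sub_ee_coeff, coeff_ofFun, coeff_ofFun, sub_tau hmn, AddMonoidAlgebra.coeff_sum,
      Finset.sum_apply']
    simp only [hgi, ee, AddMonoidAlgebra.intCast_def, AddMonoidAlgebra.single_mul_single,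
      AddMonoidAlgebra.coeff_single, Finsupp.single_apply, zero_add, mul_one, Int.cast_id]
    rcases four_or_six hmn y with h | ⟨i, hi, rfl⟩
    · rw [sum_eq_zero fun i hi => if_neg fun e => ?_, 𝔖.auto_tau hmn hR hf h, sub_self]
      have h6 : addOrderOf y ∣ 6 := addOrderOf_dvd_iff_nsmul_eq_zero.2
        (by rw [← e, ← mul_nsmul, mul_nsmul', six_nsmul hmn, nsmul_zero])
      exact absurd (h.trans h6) (by decide)
    · rw [sum_eq_single i (fun j hj hji =>
        if_neg fun e => hji (six_inj hmn (Finset.mem_range.1 hj) hi e))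
        (fun h => absurd (Finset.mem_range.2 hi) h), if_pos rfl]
  have hper : ∀ i : ℕ, auto f (i • six m n + 6 • six m n) = auto f (i • six m n) := fun i => by
    rw [six_nsmul hmn, add_zero]
  have hneg : ∀ i j : ℕ, i + j = 6 → auto f (i • six m n) = auto f (j • six m n) := fun i j h => by
    rw [← auto_neg f (j • six m n)]
    congr 1
    rw [eq_neg_iff_add_eq_zero, ← add_nsmul, h, six_nsmul hmn]
  have d0 : D (0 • six m n) = e := by simp [hD, e]
  have d1 : D (1 • six m n) = -b := by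
    simp only [hD, ← add_nsmul, b]
    rw [hneg 1 5 rfl, show 1 + 3 = 4 from rfl, hneg 4 2 rfl]
    ring
  have d2 : D (2 • six m n) = b := by simp only [hD, ← add_nsmul, b]
  have d3 : D (3 • six m n) = -e := by
    simp only [hD, ← add_nsmul, e]
    rw [six_nsmul hmn]
    ring
  have d4 : D (4 • six m n) = b := by
    simp only [hD, ← add_nsmul, b]
    rw [hneg 4 2 rfl, show 4 + 3 = 1 + 6 from rfl, add_nsmul, hper, hneg 1 5 rfl]
  have d5 : D (5 • six m n) = -b := by
    simp only [hD, ← add_nsmul, b]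
    rw [show 5 + 3 = 2 + 6 from rfl, add_nsmul, hper]
    ring
  rw [hL]
  simp only [Finset.sum_range_succ, Finset.sum_range_zero, d0, d1, d2, d3, d4, d5]
  push_cast
  linear_combination ((b : GR ℤ m) * g) * hg6

theorem squares (hm : 2 ≤ m) (hR : 𝔖.IsRat) {f : DihedralGroup m → ℤ} (hf : 𝔖.InS f) :
    IsSquare ((auto f 0 - auto f (3 • six m n)) +
        2 * (auto f (2 • six m n) - auto f (5 • six m n))) ∧
      IsSquare ((auto f 0 - auto f (3 • six m n)) -
        (auto f (2 • six m n) - auto f (5 • six m n))) := by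
  classical
  have h := 𝔖.norm_mul hmn hR hf
  simp only at h
  set g : GR ℤ m := ee (six m n) with hg
  have hgi : ∀ i : ℕ, g ^ i = ee (i • six m n) := by
    intro i
    induction i with
    | zero => rw [pow_zero, zero_nsmul, ee_zero]
    | succ i ih => rw [pow_succ, ih, hg, ee_mul, succ_nsmul]
  have hg6 : g ^ 6 = 1 := by rw [hgi, six_nsmul hmn, ee_zero]
  have h1 : (1 : GR ℤ m).coeff 0 = 1 := AddMonoidAlgebra.coeff_one_zero
  have hco : ∀ i : ℕ, i ≠ 0 → i < 6 → (g ^ i).coeff 0 = 0 := fun i hi hi6 => by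
    rw [hgi, ee, AddMonoidAlgebra.coeff_single, Finsupp.single_eq_of_ne (Ne.symm (six_ne hmn hi hi6))]
  refine ⟨𝔖.eigen_square hm hR hf (w := (1 - g ^ 3) * (1 + g ^ 2 + g ^ 4)) ?_ ?_,
    𝔖.eigen_square hm hR hf (w := (1 - g ^ 3) * (2 - g ^ 2 - g ^ 4)) ?_ ?_⟩
  · intro h0
    have := congrArg (fun Q : GR ℤ m => Q.coeff 0) h0
    rw [show (1 - g ^ 3) * (1 + g ^ 2 + g ^ 4) = 1 + g ^ 2 + g ^ 4 - g ^ 3 - g ^ 5 - g ^ 1 by
      linear_combination (-g) * hg6] at this
    simp only [AddMonoidAlgebra.coeff_add, AddMonoidAlgebra.coeff_sub, Finsupp.add_apply,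
      Finsupp.sub_apply, h1, hco 1 (by norm_num) (by norm_num), hco 2 (by norm_num) (by norm_num),
      hco 3 (by norm_num) (by norm_num), hco 4 (by norm_num) (by norm_num),
      hco 5 (by norm_num) (by norm_num), AddMonoidAlgebra.coeff_zero, Finsupp.zero_apply] at this
    norm_num at this
  · rw [← mul_assoc, h]
    push_cast
    linear_combination
      ((auto f (2 • six m n) : GR ℤ m) - auto f (5 • six m n)) * (1 - g ^ 3) * (2 + g ^ 2) * hg6
  · intro h0
    have := congrArg (fun Q : GR ℤ m => Q.coeff 0) h0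
    rw [show (1 - g ^ 3) * (2 - g ^ 2 - g ^ 4) = 1 + 1 - g ^ 2 - g ^ 4 - g ^ 3 - g ^ 3 + g ^ 5 + g ^ 1 by
      linear_combination g * hg6] at this
    simp only [AddMonoidAlgebra.coeff_add, AddMonoidAlgebra.coeff_sub, Finsupp.add_apply,
      Finsupp.sub_apply, h1, hco 1 (by norm_num) (by norm_num), hco 2 (by norm_num) (by norm_num),
      hco 3 (by norm_num) (by norm_num), hco 4 (by norm_num) (by norm_num),
      hco 5 (by norm_num) (by norm_num), AddMonoidAlgebra.coeff_zero, Finsupp.zero_apply] at this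
    norm_num at this
  · rw [← mul_assoc, h]
    push_cast
    linear_combination
      ((auto f (2 • six m n) : GR ℤ m) - auto f (5 • six m n)) * (1 - g ^ 3) * (-2 - g ^ 2) * hg6

/-- A zero-one class function supported on the two-part has an odd number of reflections. -/
theorem odd_refl (hm : 2 ≤ m) (hR : 𝔖.IsRat) {f : DihedralGroup m → ℤ} (hf : 𝔖.InS f)
    (h01 : ∀ x, f x = 0 ∨ f x = 1) (h1 : f 1 = 0) (htwo : ∀ y, f (r y) ≠ 0 → y ∈ S2 (n + 1))
    (hne : ∃ x, f x ≠ 0) : ¬ Even (∑ t, f (sr t)) := by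
  classical
  intro hev
  set τ := 3 • six m n with hτ
  have hτ0 : τ ≠ 0 := six_ne hmn (by norm_num) (by norm_num)
  have hτS : τ ∈ S2 (n + 1) := mem_S2.2 (by rw [hτ, tau_order hmn]; exact dvd_pow_self 2 (by omega))
  -- parities
  have hnot : ∀ i : ℕ, i = 2 ∨ i = 5 → Even (auto f (i • six m n)) := by
    intro i hi
    have hni : i • six m n ∉ S2 (n + 1) := fun h => by
      rcases mem_two_six hmn (by omega) h with rfl | rfl <;> omega
    have h0 : i • six m n ≠ 0 := fun h => hni (h ▸ zero_mem _)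
    have h2 : auto f (i • six m n) = conv f f (r (i • six m n)) := by
      unfold conv auto
      rw [sum_dihedral, sum_eq_zero (s := (univ : Finset (ZMod m)))
        (f := fun x => f (r x) * f ((r x)⁻¹ * r (i • six m n))) fun x _ => ?_, zero_add]
      · exact sum_congr rfl fun t _ => by rw [inv_sr, sr_mul_r]
      · rw [inv_r, r_mul_r, neg_add_eq_sub]
        by_contra hx
        refine hni ?_
        have := (S2 (n + 1)).add_mem (htwo _ (left_ne_zero_of_mul hx))
          (htwo _ (right_ne_zero_of_mul hx))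
        rwa [add_sub_cancel] at this
    obtain ⟨z, hz⟩ := 𝔖.exists_mem_Y hm (r_ne_one h0)
    rw [h2, 𝔖.inS_conv hf hf _ _ (𝔖.mem_Y.1 hz)]
    have h3 := congrArg (fun Q : GR ℤ m => Q.coeff z) (𝔖.refPart_conv hf f)
    rw [mul_comm (rotPart f : GR ℤ m), ← two_mul] at h3
    obtain ⟨Q, hQ⟩ := exists_ofFun ((refPart f : GR ℤ m) * rotPart f)
    rw [hQ, show (2 : GR ℤ m) = ((2 : ℤ) : GR ℤ m) by norm_num, ofFun_zsmul] at h3
    simp only [refPart, coeff_ofFun, Int.cast_id] at h3
    exact ⟨Q z, by linarith⟩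
  have hevτ : Even (auto f τ) := by
    refine ⟨∑ t ∈ univ.filter (fun t => PiLemma.low τ t), f (sr t) * f (sr (t + τ)), ?_⟩
    unfold auto
    rw [← sum_filter_add_sum_filter_not univ (fun t => PiLemma.low τ t)]
    congr 1
    refine sum_nbij' (fun t => t + τ) (fun t => t + τ) ?_ ?_ ?_ ?_ ?_
    · intro t ht
      simp only [mem_coe, mem_filter, mem_univ, true_and] at ht ⊢
      exact (PiLemma.low_iff (two_tau hmn) hτ0 t).2 ht
    · intro t ht
      simp only [mem_coe, mem_filter, mem_univ, true_and] at ht ⊢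
      exact fun h' => (PiLemma.low_iff (two_tau hmn) hτ0 t).1 h' ht
    · intro t _; show t + τ + τ = t; rw [add_assoc, two_tau hmn, add_zero]
    · intro t _; show t + τ + τ = t; rw [add_assoc, two_tau hmn, add_zero]
    · intro t _
      rw [show t + τ + τ = t by rw [add_assoc, two_tau hmn, add_zero], mul_comm]
  have h0 : auto f 0 = ∑ t, f (sr t) := by
    unfold auto
    refine sum_congr rfl fun t _ => ?_
    rw [add_zero]
    rcases h01 (sr t) with h | h <;> simp [h]
  set e := auto f 0 - auto f τ with he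
  set b := auto f (2 • six m n) - auto f (5 • six m n) with hb
  have hee : Even e := by rw [he, h0]; exact hev.sub hevτ
  have hbe : Even b := (hnot 2 (Or.inl rfl)).sub (hnot 5 (Or.inr rfl))
  obtain ⟨hs0, hs1⟩ := 𝔖.squares hmn hm hR hf
  rw [← hτ, ← he, ← hb] at hs0 hs1
  have hfour : ∀ N : ℤ, IsSquare N → Even N → (4 : ℤ) ∣ N := by
    rintro N ⟨k, rfl⟩ hN
    rw [Int.even_mul] at hN
    obtain ⟨j, rfl⟩ : Even k := hN.elim id id
    exact ⟨j * j, by ring⟩
  have e0 := hfour _ hs0 (hee.add (even_two_mul b))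
  have e1 := hfour _ hs1 (hee.sub hbe)
  have hb4 : (4 : ℤ) ∣ b := by omega
  have he4 : (4 : ℤ) ∣ e := by omega
  -- the reflections are periodic
  have hper : (refPart f : GR ℤ m) * (1 - ee τ) = 0 := by
    have hτeq : τ = ((2 ^ n * 3 : ℕ) : ZMod m) := by
      rw [hτ, six, nsmul_eq_mul, ← Nat.cast_mul, mul_comm]
    rw [hτeq]
    refine PiLemma.periodic_of_four (Or.inr rfl) hmn _ (fun z => h01 (sr z)) fun z => ?_
    rw [← hτeq]
    show (4 : ℤ) ∣ (bar (refPart f : GR ℤ m) * refPart f * (1 - ee τ)).coeff z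
    have hgi : (ee τ : GR ℤ m) = ee (six m n) ^ 3 := by
      rw [hτ, pow_succ, pow_two, ee_mul, ee_mul, succ_nsmul, two_nsmul]
    rw [hgi, 𝔖.norm_mul hmn hR hf]
    obtain ⟨e', he'⟩ := he4
    obtain ⟨b', hb'⟩ := hb4
    simp only [← hτ, ← he, ← hb, he', hb']
    obtain ⟨Q, hQ⟩ := exists_ofFun (((e' : GR ℤ m) + (b' : GR ℤ m) *
      (ee (six m n) ^ 2 + ee (six m n) ^ 4)) * (1 - ee (six m n) ^ 3))
    rw [show (((4 * e' : ℤ) : GR ℤ m) + ((4 * b' : ℤ) : GR ℤ m) *
      (ee (six m n) ^ 2 + ee (six m n) ^ 4)) * (1 - ee (six m n) ^ 3) =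
        ((4 : ℤ) : GR ℤ m) * ofFun Q by rw [← hQ]; push_cast; ring, ofFun_zsmul, coeff_ofFun]
    exact ⟨Q z, rfl⟩
  rw [refPart, ofFun_periodic] at hper
  -- so is the class function, up to the identity
  set L : DihedralGroup m → ℤ := fun x => f x + if x = 1 then f (r τ) else 0 with hL
  have hLS : 𝔖.InS L := fun x y hxy => by
    simp only [hL, hf x y hxy]
    congr 1
    by_cases hy : y = 1
    · subst hy; rw [if_pos (𝔖.eq_one hxy)]
      simp
    · rw [if_neg hy, if_neg fun hx => hy (𝔖.eq_one (by rw [hx] at hxy; exact 𝔖.symm' hxy))]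
  have hLc := 𝔖.eq_const hLS hτ0 (fun x => by
    rcases x with y | y
    · rw [r_mul_r]
      simp only [hL]
      rcases four_or_six hmn y with h | ⟨i, hi, rfl⟩
      · have hy : y ≠ 0 := fun e' => by
          rw [e', addOrderOf_zero] at h; norm_num at h
        have ho := order_translate Nat.prime_two h (show 2 • τ = 0 by rw [two_nsmul, two_tau hmn])
        have hy' : τ + y ≠ 0 := fun e' => by
          rw [add_comm] at e'
          rw [← ho, e', addOrderOf_zero] at h
          norm_num at h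
        rw [if_neg (r_ne_one hy), if_neg (r_ne_one hy'), add_comm τ y,
          hf _ _ (𝔖.same_order hR ho.symm)]
      · by_cases h03 : i = 0 ∨ i = 3
        · rcases h03 with rfl | rfl
          · rw [zero_nsmul, add_zero, if_neg (r_ne_one hτ0), r_zero, if_pos rfl, h1]
            ring
          · rw [two_tau hmn, if_neg (r_ne_one hτ0), r_zero, if_pos rfl, h1]
            ring
        · have hni : i • six m n ∉ S2 (n + 1) := fun h' => h03 (mem_two_six hmn hi h')
          have hni' : τ + i • six m n ∉ S2 (n + 1) := fun h' => hni (by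
            have := (S2 (n + 1)).sub_mem h' hτS
            rwa [add_sub_cancel_left] at this)
          have z1 : f (r (i • six m n)) = 0 := by_contra fun h' => hni (htwo _ h')
          have z2 : f (r (τ + i • six m n)) = 0 := by_contra fun h' => hni' (htwo _ h')
          rw [z1, z2, if_neg (r_ne_one fun e' : i • six m n = 0 => hni (e' ▸ zero_mem _)),
            if_neg (r_ne_one fun e' : τ + i • six m n = 0 => hni' (e' ▸ zero_mem _))]
    · rw [r_mul_sr]
      simp only [hL]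
      rw [hper y, if_neg (fun e' => by rw [one_def] at e'; cases e'),
        if_neg (fun e' => by rw [one_def] at e'; cases e')])
  have hu : 2 • six m n ∉ S2 (n + 1) := fun h' => by
    rcases mem_two_six hmn (by norm_num) h' with h | h <;> norm_num at h
  have hfu : f (r (2 • six m n)) = 0 := by_contra fun h' => hu (htwo _ h')
  have hL0 := hLc (r (2 • six m n))
  simp only [hL, hfu, h1, if_pos, if_neg (r_ne_one fun e' : 2 • six m n = 0 => hu (e' ▸ zero_mem _))]
    at hL0
  obtain ⟨x, hx⟩ := hne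
  have hLx := hLc x
  have hx1 : x ≠ 1 := fun e' => hx (e' ▸ h1)
  simp only [hL, h1, if_pos, if_neg hx1] at hLx
  apply hx
  linarith

/-- There is at most one two-class. -/
theorem unique_two (hm : 2 ≤ m) (hR : 𝔖.IsRat) {s t : DihedralGroup m} (hs : s ≠ 1)
    (hs2 : 𝔖.Two (n + 1) s) (ht : t ≠ 1) (ht2 : 𝔖.Two (n + 1) t) : 𝔖.R s t := by
  classical
  have hind : ∀ s, s ≠ 1 → 𝔖.Two (n + 1) s → ¬ Even (((𝔖.Y s).card : ℤ)) := by
    intro s hs hs2
    rw [← 𝔖.sum_ind_sr]
    refine 𝔖.odd_refl hmn hm hR (𝔖.inS_ind s) (fun x => ?_) ?_ (fun y hy => ?_) ⟨s, ?_⟩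
    · unfold Scheme.ind; split_ifs <;> simp
    · exact if_neg fun h => hs (𝔖.eq_one h)
    · rw [𝔖.ind_r] at hy
      exact hs2 y (by_contra fun h => hy (if_neg h))
    · simp [Scheme.ind, 𝔖.rfl' s]
  by_contra hst
  refine 𝔖.odd_refl hmn hm hR (f := fun x => 𝔖.ind s x + 𝔖.ind t x)
    (fun x y hxy => by simp only [𝔖.inS_ind s x y hxy, 𝔖.inS_ind t x y hxy]) (fun x => ?_) ?_
    (fun y hy => ?_) ⟨s, ?_⟩ ?_
  · unfold Scheme.ind
    by_cases h1 : 𝔖.R s x <;> by_cases h2 : 𝔖.R t x <;> simp [h1, h2]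
    exact hst (𝔖.trans' h1 (𝔖.symm' h2))
  · simp only [Scheme.ind, if_neg fun h => hs (𝔖.eq_one h), if_neg fun h => ht (𝔖.eq_one h)]
    norm_num
  · simp only [𝔖.ind_r] at hy
    by_contra h
    rw [if_neg fun h' => h (hs2 y h'), if_neg fun h' => h (ht2 y h')] at hy
    exact hy (by norm_num)
  · simp only [Scheme.ind, if_pos (𝔖.rfl' s), if_neg fun h : 𝔖.R t s => hst (𝔖.symm' h)]
    norm_num
  · simp only [sum_add_distrib, 𝔖.sum_ind_sr]
    exact (Int.not_even_iff_odd.1 (hind s hs hs2)).add_odd (Int.not_even_iff_odd.1 (hind t ht ht2))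

/-- The signed length of a two-class squared is one of the two eigenvalues. -/
theorem dichotomy (hm : 2 ≤ m) (hR : 𝔖.IsRat) {s : DihedralGroup m} (hs : s ≠ 1)
    (hs2 : 𝔖.Two (n + 1) s) :
    let D : ℤ := ((𝔖.X s).card : ℤ) - (𝔖.Y s).card + 𝔖.ind s (r (3 • six m n))
    let e : ℤ := ((𝔖.Y s).card : ℤ) - 𝔖.yy s (3 • six m n)
    let b : ℤ := (𝔖.yy s (2 • six m n) : ℤ) - 𝔖.yy s (5 • six m n)
    IsSquare (e + 2 * b) ∧ IsSquare (e - b) ∧ (D * D = e + 2 * b ∨ D * D = e - b) ∧
      ((6 : ℤ) ∣ b) := by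
  classical
  intro D e b
  set τ := 3 • six m n with hτ
  set f := 𝔖.ind s with hfdef
  have hfS : 𝔖.InS f := 𝔖.inS_ind s
  have he : auto f 0 - auto f τ = e := by
    simp only [e, hfdef, hτ, 𝔖.auto_ind, 𝔖.yy_zero]
  have hb : auto f (2 • six m n) - auto f (5 • six m n) = b := by
    simp only [b, hfdef, 𝔖.auto_ind]
  obtain ⟨q0, q1⟩ := 𝔖.squares hmn hm hR hfS
  rw [← hτ, he, hb] at q0 q1
  -- divisibility
  have hsix : ∀ i : ℕ, i = 2 ∨ i = 5 → (6 : ℤ) ∣ (𝔖.yy s (i • six m n) : ℤ) := by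
    intro i hi
    have hni : i • six m n ∉ S2 (n + 1) := fun h => by
      rcases mem_two_six hmn (by omega) h with rfl | rfl <;> omega
    have h0 : i • six m n ≠ 0 := fun h => hni (h ▸ zero_mem _)
    obtain ⟨p, hp, hp2, hpm, hlp⟩ := 𝔖.exists_impure hmn (by decide) (l := r (i • six m n))
      fun h => hni (h _ (𝔖.self_mem_X _))
    have h3 : p = 3 := by
      rcases hp.dvd_mul.1 (hpm.trans (dvd_of_eq hmn)) with h | h
      · exact absurd ((Nat.prime_dvd_prime_iff_eq hp Nat.prime_two).1 (hp.dvd_of_dvd_pow h)) hp2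
      · exact (Nat.prime_dvd_prime_iff_eq hp Nat.prime_three).1 h
    have h := 𝔖.outer_dvd hm hR (r_ne_one h0) hp hp2 hpm (hs2.pure hp hp2) hlp
    rw [𝔖.p_r, 𝔖.xx_eq_zero_of_notMem hs2 hni, h3] at h
    simpa using h
  refine ⟨q0, q1, ?_, (hsix 2 (Or.inl rfl)).sub (hsix 5 (Or.inr rfl))⟩
  -- the eigenvector
  let Kf : ℕ := Nat.factorial (2 * m)
  let kk : DihedralGroup m → ℕ := fun x => (𝔖.X x).card + (𝔖.Y x).card
  have hkk : ∀ x, 0 < kk x ∧ kk x ∣ Kf := by
    intro x
    have h1 : 0 < kk x := by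
      rcases x with i | i
      · exact Nat.add_pos_left (card_pos.2 ⟨i, 𝔖.self_mem_X i⟩) _
      · exact Nat.add_pos_right _ (card_pos.2 ⟨i, 𝔖.mem_Y.2 (𝔖.rfl' _)⟩)
    refine ⟨h1, Nat.dvd_factorial h1 ?_⟩
    have h2 := card_le_univ (𝔖.X x)
    have h3 := card_le_univ (𝔖.Y x)
    rw [ZMod.card] at h2 h3
    show (𝔖.X x).card + (𝔖.Y x).card ≤ 2 * m
    omega
  let E : DihedralGroup m → ℤ := fun x =>
    ((Kf / kk x : ℕ) : ℤ) * (((𝔖.X x).card : ℤ) - (𝔖.Y x).card)
  have hES : 𝔖.InS E := fun x y hxy => by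
    simp only [E, kk, 𝔖.X_congr hxy, 𝔖.Y_congr hxy]
  have hkE : ∀ x, (kk x : ℤ) * E x = (Kf : ℤ) * (((𝔖.X x).card : ℤ) - (𝔖.Y x).card) := by
    intro x
    simp only [E]
    rw [← mul_assoc, ← Nat.cast_mul, Nat.mul_div_cancel' (hkk x).2]
  have hproj : ∀ φ : DihedralGroup m → ℤ, 𝔖.InS φ →
      ∑ y, φ y * E y = (Kf : ℤ) * ∑ y, φ y * sgn y := by
    intro φ hφ
    have h1 : ∀ y, φ y * E y = ∑ z, 𝔖.ind y z * (((Kf / kk y : ℕ) : ℤ) * (φ y * sgn z)) := by
      intro y
      have h2 := sum_sgn (𝔖.ind y)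
      rw [𝔖.sum_ind_r, 𝔖.sum_ind_sr] at h2
      simp only [E, ← h2, mul_sum]
      exact sum_congr rfl fun z _ => by ring
    rw [sum_congr rfl fun y _ => h1 y, sum_comm, mul_sum]
    refine sum_congr rfl fun z _ => ?_
    have h3 : ∀ y, 𝔖.ind y z * (((Kf / kk y : ℕ) : ℤ) * (φ y * sgn z)) =
        𝔖.ind z y * (((Kf / kk z : ℕ) : ℤ) * (φ z * sgn z)) := by
      intro y
      unfold Scheme.ind
      by_cases h : 𝔖.R y z
      · rw [if_pos h, if_pos (𝔖.symm' h), hφ y z h]
        simp only [kk, 𝔖.X_congr h, 𝔖.Y_congr h]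
      · rw [if_neg h, if_neg fun h' => h (𝔖.symm' h')]
        simp
    rw [sum_congr rfl fun y _ => h3 y, ← sum_mul,
      show ∑ y, 𝔖.ind z y = ((kk z : ℕ) : ℤ) by
        rw [sum_dihedral, 𝔖.sum_ind_r, 𝔖.sum_ind_sr]; simp [kk],
      ← mul_assoc, ← Nat.cast_mul, Nat.mul_div_cancel' (hkk z).2]
  set A : ℤ := ((𝔖.X s).card : ℤ) - (𝔖.Y s).card with hA
  have heig : ∀ x, conv f E x = A * E x := by
    intro t
    have hcE := 𝔖.inS_conv hfS hES
    have h1 : (kk t : ℤ) * conv f E t = ∑ y, conv f E y * 𝔖.ind t y := by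
      rw [show (kk t : ℤ) = ∑ y, 𝔖.ind t y by
        rw [sum_dihedral, 𝔖.sum_ind_r, 𝔖.sum_ind_sr]; simp [kk], sum_mul]
      refine sum_congr rfl fun y _ => ?_
      unfold Scheme.ind
      by_cases h : 𝔖.R t y
      · rw [if_pos h, hcE t y h]; ring
      · rw [if_neg h]; simp
    have hS := 𝔖.inS_ind t
    have h2 : ∑ y, conv f E y * 𝔖.ind t y = conv (conv f (𝔖.ind t)) E 1 := by
      rw [conv_assoc, 𝔖.conv_comm hS hES, ← conv_assoc]
      conv_rhs => unfold conv
      exact sum_congr rfl fun y _ => by rw [mul_one, 𝔖.inS_inv hS]; rfl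
    have h3 : conv (conv f (𝔖.ind t)) E 1 = ∑ y, conv f (𝔖.ind t) y * E y := by
      conv_lhs => unfold conv
      exact sum_congr rfl fun y _ => by rw [mul_one, 𝔖.inS_inv hES]; rfl
    rw [h2, h3, hproj _ (𝔖.inS_conv hfS hS), sum_conv_sgn, sum_sgn, sum_sgn, 𝔖.sum_ind_r,
      𝔖.sum_ind_sr, 𝔖.sum_ind_r, 𝔖.sum_ind_sr] at h1
    refine mul_left_cancel₀ (show (kk t : ℤ) ≠ 0 by exact_mod_cast (hkk t).1.ne') ?_
    rw [h1, mul_left_comm (kk t : ℤ), hkE]
    ring
  set g : GR ℤ m := ee (six m n) with hg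
  have hgτ : (ee τ : GR ℤ m) = g ^ 3 := by
    rw [hτ, hg, pow_succ, pow_two, ee_mul, ee_mul, succ_nsmul, two_nsmul]
  set w : GR ℤ m := 1 - g ^ 3 with hw
  set fτ := f (r τ) with hfτ
  have hτ0 : τ ≠ 0 := six_ne hmn (by norm_num) (by norm_num)
  have hf0 : f (r (0 : ZMod m)) = 0 := by
    rw [r_zero, hfdef]
    exact if_neg fun h => hs (𝔖.eq_one h)
  have hrot : (rotPart f : GR ℤ m) * w = ((-fτ : ℤ) : GR ℤ m) * w := by
    rw [hw, ← hgτ]
    ext y
    rw [rotPart, PiLemma.mul_sub_ee_coeff, PiLemma.mul_sub_ee_coeff, coeff_ofFun, coeff_ofFun,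
      AddMonoidAlgebra.intCast_def, AddMonoidAlgebra.coeff_single, hτ, sub_tau hmn, ← hτ]
    simp only [Int.cast_id]
    rcases four_or_six hmn y with h | ⟨i, hi, rfl⟩
    · have ho := order_translate Nat.prime_two h (show 2 • τ = 0 by rw [two_nsmul, two_tau hmn])
      rw [← hfS _ _ (𝔖.same_order hR ho.symm), sub_self, Finsupp.single_eq_of_ne, Finsupp.single_eq_of_ne,
        sub_self]
      · intro e'
        rw [e'] at ho
        rw [← ho, addOrderOf_zero] at h
        norm_num at h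
      · intro e'
        rw [e', addOrderOf_zero] at h
        norm_num at h
    · by_cases h03 : i = 0 ∨ i = 3
      · rcases h03 with rfl | rfl
        · rw [zero_nsmul, zero_add, Finsupp.single_eq_same, Finsupp.single_eq_of_ne hτ0, hf0, hfτ]
          ring
        · rw [← hτ, two_tau hmn, Finsupp.single_eq_same, Finsupp.single_eq_of_ne hτ0, hf0, hfτ]
          ring
      · have hni : i • six m n ∉ S2 (n + 1) := fun h' => h03 (mem_two_six hmn hi h')
        have hτS : τ ∈ S2 (n + 1) :=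
          mem_S2.2 (by rw [hτ, tau_order hmn]; exact dvd_pow_self 2 (by omega))
        have hni' : i • six m n + τ ∉ S2 (n + 1) := fun h' => hni (by
          simpa using (S2 (n + 1)).sub_mem h' hτS)
        rw [hfdef, 𝔖.ind_r, 𝔖.ind_r, if_neg fun h' => hni (hs2 _ h'),
          if_neg fun h' => hni' (hs2 _ h'), Finsupp.single_eq_of_ne fun e' : i • six m n = 0 =>
            hni (e' ▸ zero_mem _), Finsupp.single_eq_of_ne fun e' : i • six m n + τ = 0 =>
            hni' (e' ▸ zero_mem _)]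
  have hEeq : conv f E = fun x => A * E x := funext heig
  have e1 : (rotPart f : GR ℤ m) * rotPart E + bar (refPart f) * refPart E =
      (A : GR ℤ m) * rotPart E := by
    rw [← rotPart_conv, hEeq, rotPart, rotPart, ofFun_zsmul]
  have e2 : (rotPart f : GR ℤ m) * refPart E + refPart f * rotPart E =
      (A : GR ℤ m) * refPart E := by
    rw [← 𝔖.refPart_conv hfS, hEeq, refPart, refPart, ofFun_zsmul]
  have e3 : bar (refPart f : GR ℤ m) * refPart f * w =
      ((e : GR ℤ m) + (b : GR ℤ m) * (g ^ 2 + g ^ 4)) * w := by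
    have := 𝔖.norm_mul hmn hR hfS
    rw [he, hb] at this
    exact this
  have hD : (D : GR ℤ m) = (A : GR ℤ m) + (fτ : GR ℤ m) := by
    rw [← Int.cast_add]
  set G := (rotPart E : GR ℤ m) * w with hG
  have hkey : ((D : GR ℤ m) * D - ((e : GR ℤ m) + (b : GR ℤ m) * (g ^ 2 + g ^ 4))) * G = 0 := by
    rw [hD, hG]
    push_cast at hrot
    linear_combination ((rotPart E : GR ℤ m) * ((A : GR ℤ m) + fτ) + bar (refPart f) * refPart E) *
        hrot - (((A : GR ℤ m) + fτ) * w) * e1 - (bar (refPart f) * w) * e2 + (rotPart E) * e3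
  have hg6 : g ^ 6 = 1 := by
    rw [show (6 : ℕ) = 3 + 3 from rfl, pow_add, ← hgτ, ee_mul, two_tau hmn, ee_zero]
  have k0 : ((D * D - (e + 2 * b) : ℤ) : GR ℤ m) * (G * (1 + g ^ 2 + g ^ 4)) = 0 := by
    push_cast
    linear_combination (1 + g ^ 2 + g ^ 4) * hkey + (b : GR ℤ m) * G * (2 + g ^ 2) * hg6
  have k1 : ((D * D - (e - b) : ℤ) : GR ℤ m) * (G * (2 - g ^ 2 - g ^ 4)) = 0 := by
    push_cast
    linear_combination (2 - g ^ 2 - g ^ 4) * hkey - (b : GR ℤ m) * G * (2 + g ^ 2) * hg6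
  by_contra hne
  push Not at hne
  have hzero : ∀ (c : ℤ) (Z : GR ℤ m), c ≠ 0 → (c : GR ℤ m) * Z = 0 → Z = 0 := by
    intro c Z hc hZ
    ext y
    have := congrArg (fun Q : GR ℤ m => Q.coeff y) hZ
    simp only [← zsmul_eq_mul, AddMonoidAlgebra.coeff_smul_apply, smul_eq_mul,
      AddMonoidAlgebra.coeff_zero, Finsupp.zero_apply] at this ⊢
    exact (mul_eq_zero.1 this).resolve_left hc
  have z0 := hzero _ _ (sub_ne_zero.2 hne.1) k0
  have z1 := hzero _ _ (sub_ne_zero.2 hne.2) k1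
  have hG0 : G = 0 := by
    refine hzero 3 G (by norm_num) ?_
    push_cast
    linear_combination z0 + z1
  have h0 := congrArg (fun Q : GR ℤ m => Q.coeff 0) hG0
  rw [hG, hw, ← hgτ] at h0
  simp only [rotPart, PiLemma.mul_sub_ee_coeff, coeff_ofFun, Int.cast_id,
    AddMonoidAlgebra.coeff_zero, Finsupp.zero_apply, hτ, sub_tau hmn, zero_add, r_zero] at h0
  rw [← hτ] at h0
  have hk1 := hkE 1
  have hkτ := hkE (r τ)
  have hX1 : (𝔖.X 1).card = 1 ∧ (𝔖.Y 1).card = 0 := by
    constructor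
    · rw [card_eq_one]
      refine ⟨0, Finset.ext fun i => ?_⟩
      rw [𝔖.mem_X, mem_singleton]
      constructor
      · intro h
        have := 𝔖.eq_one (𝔖.symm' h)
        rw [one_def] at this
        exact r.inj this
      · rintro rfl
        rw [r_zero]
        exact 𝔖.rfl' _
    · rw [card_eq_zero, Finset.eq_empty_iff_forall_notMem]
      intro i hi
      have := 𝔖.eq_one (𝔖.symm' (𝔖.mem_Y.1 hi))
      rw [one_def] at this
      cases this
  simp only [kk, hX1.1, hX1.2] at hk1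
  have hcpos : 0 < (𝔖.Y (r τ)).card := card_pos.2 (𝔖.exists_mem_Y hm (r_ne_one hτ0))
  have hE : E (r τ) = E 1 := by linarith
  push_cast at hk1
  rw [hE, show E 1 = (Kf : ℤ) by linarith] at hkτ
  simp only [kk] at hkτ
  push_cast at hkτ
  have hK : (0 : ℤ) < Kf := by exact_mod_cast Nat.factorial_pos _
  have hc' : (0 : ℤ) < (𝔖.Y (r τ)).card := by exact_mod_cast hcpos
  nlinarith [mul_pos hK hc']

end Scheme

end Cfsg.Agent.DihedralBGroup
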