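import Mathlib.Tactic.Linarith
import Mathlib.Tactic.IntervalCases
import Mathlib.Algebra.Order.Ring.Int
import Mathlib.Algebra.Ring.Parity
import Mathlib.Algebra.Ring.Int.Parity
import Cfsg.Agent.EqLemmas

/-!
# Arithmetic for the two-classes with odd part three

* `no_gap_one`, `full_one`, `no_gap_two`, `full_two`
-/

set_option autoImplicit false

namespace Cfsg.Agent.DihedralBGroup.TwoArith

theorem full_one {σ c n : ℤ} (hσ : 4 ≤ σ) (hn1 : 1 ≤ n) (hn : n ≤ σ) (hc : σ ≤ c)
    (h : c * (n - 1) = (σ - 1) * (2 * n - σ)) : c = σ := by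
  have h1 : σ * (n - 1) ≤ c * (n - 1) := mul_le_mul_of_nonneg_right hc (by linarith)
  have h2 : n = σ := by
    by_contra hne
    have h3 : n + 1 ≤ σ := by omega
    have h4 : 0 < (σ - 2) * (σ - n) := mul_pos (by linarith) (by linarith)
    linarith
  subst h2
  have h5 : (c - n) * (n - 1) = 0 := by linear_combination h
  rcases mul_eq_zero.1 h5 with h6 | h6 <;> linarith

theorem square_bound {D e b : ℤ} (he : Odd e) (hb : Even b) (h0 : IsSquare (e + 2 * b))
    (h1 : IsSquare (e - b)) (hD : Odd D) (h : D * D = e + 2 * b ∨ D * D = e - b) :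
    D * D + 2 ≤ 3 * e := by
  have hpos : ∀ N : ℤ, IsSquare N → Odd N → 1 ≤ N := by
    rintro N ⟨k, rfl⟩ hN
    have hk : k ≠ 0 := fun e => by subst e; simp at hN
    have := mul_self_pos.2 hk
    omega
  have e0 := hpos _ h0 (he.add_even (even_two_mul b))
  have e1 := hpos _ h1 (he.sub_even hb)
  have e2 := hpos _ ⟨D, rfl⟩ (hD.mul hD)
  rcases h with h | h <;> linarith

theorem no_gap_one {σ H g D b : ℤ} (hσ : σ = 2 ∨ σ = 4 ∨ 8 ≤ σ) (hH : 0 < H) (hdvd : 2 * σ ∣ H)
    (hg : 0 ≤ g) (hgD : g ≤ D) (hgev : Even g) (hDodd : Odd D)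
    (h1 : σ * H ≤ (σ + H + D) + (σ - 1) * g)
    (hT : 2 * (σ - 1) * (σ - 2 + H) + 4 * (σ - 1) * H ≤ (σ - 2 + H + g) * (σ - 2 + H - D))
    (h2 : D * D + 2 ≤ 3 * (σ + H + D - g))
    (h3 : D * D = (σ + H + D - g) + 2 * b ∨ D * D = (σ + H + D - g) - b) (h6 : 6 ∣ b) : False := by
  obtain ⟨k, rfl⟩ := hdvd
  have hgg : (σ - 1) * g ≤ (σ - 1) * D :=
    mul_le_mul_of_nonneg_left hgD (by rcases hσ with rfl | rfl | h <;> linarith)
  obtain ⟨d, rfl⟩ := hDodd
  obtain ⟨g', rfl⟩ := hgev
  rcases hσ with rfl | rfl | hσ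
  · have hD7 : d ≤ 3 := by
      by_contra h
      push Not at h
      have : 0 ≤ (d - 4) * (d - 1) := mul_nonneg (by linarith) (by linarith)
      nlinarith
    have : 0 ≤ d := by linarith
    have : k ≤ 4 := by linarith
    have : 1 ≤ k := by linarith
    interval_cases d <;> interval_cases k <;>
      (have : g' ≤ 3 := by linarith) <;> (have : 0 ≤ g' := by linarith) <;>
      interval_cases g' <;> omega
  · have hD9 : d ≤ 4 := by
      by_contra h
      push Not at h
      have : 0 ≤ (d - 5) * (d - 1) := mul_nonneg (by linarith) (by linarith)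
      nlinarith
    have : 0 ≤ d := by linarith
    have : k ≤ 1 := by linarith
    have : 1 ≤ k := by linarith
    interval_cases d <;> interval_cases k <;>
      (have : g' ≤ 4 := by linarith) <;> (have : 0 ≤ g' := by linarith) <;>
      interval_cases g' <;> omega
  · set D := 2 * d + 1 with hD
    have hk : 1 ≤ k := by
      by_contra h
      push Not at h
      nlinarith
    have hH2 : 2 * σ ≤ 2 * σ * k := by nlinarith
    have hA : (σ - 1) * (2 * σ * k) ≤ σ * (1 + D) := by linarith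
    have hB : 7 * (2 * σ * k) ≤ 8 * (1 + D) := by
      have h4 : σ * (7 * (2 * σ * k)) ≤ σ * (8 * (1 + D)) := by
        have : 0 ≤ (σ - 8) * (2 * σ * k) := mul_nonneg (by linarith) (by linarith)
        linarith
      exact le_of_mul_le_mul_left h4 (by linarith)
    have hbig : 13 ≤ D := by linarith
    have : 13 * D ≤ D * D := mul_le_mul_of_nonneg_right hbig (by linarith)
    linarith

theorem full_two {a c l : ℤ} (ha : 2 < a) (hca : a < c) (hc : c < 2 * a) (hl : l + 2 ≤ c)
    (hl0 : 0 ≤ l) (hlev : Even l) (h : l * (2 * a - c) = 2 * a * (a - 2)) : False := by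
  obtain ⟨k, rfl⟩ := hlev
  have h1 : k + k ≤ 2 * a - 4 := by omega
  have h2 : (k + k) * (2 * a - c) ≤ (2 * a - 4) * (a - 1) :=
    mul_le_mul h1 (by linarith) (by linarith) (by linarith)
  linarith

theorem no_gap_two {σ H g D e b : ℤ} (hσ : 4 ≤ σ) (hH : 2 * σ ≤ H) (hg : g ≤ D)
    (h1 : σ * H ≤ D + (σ - 2) * g) (h2 : e ≤ σ - 2 + H + D) (hb0 : IsSquare (e + 2 * b))
    (hb1 : IsSquare (e - b)) (h3 : D * D = e + 2 * b ∨ D * D = e - b) : False := by
  have hnn : ∀ N : ℤ, IsSquare N → 0 ≤ N := by rintro N ⟨k, rfl⟩; exact mul_self_nonneg k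
  have e0 := hnn _ hb0
  have e1 := hnn _ hb1
  have hgg : (σ - 2) * g ≤ (σ - 2) * D := mul_le_mul_of_nonneg_left hg (by linarith)
  have hA : σ * H ≤ (σ - 1) * D := by linarith
  have hDH : H ≤ D := by
    have hD0 : 0 ≤ D := by
      by_contra h
      push Not at h
      nlinarith
    have : σ * H ≤ σ * D := by nlinarith
    exact le_of_mul_le_mul_left this (by linarith)
  have h4 : D * D ≤ 3 * e := by
    have := mul_self_nonneg D
    rcases h3 with h | h <;> linarith
  have h5 : 8 * D ≤ D * D := mul_le_mul_of_nonneg_right (by linarith) (by linarith)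
  linarith

end Cfsg.Agent.DihedralBGroup.TwoArith
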