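import Cfsg.Agent.Lib.DihedralBGroup.Square
import Cfsg.Agent.Lib.DihedralBGroup.Projection
import Cfsg.Agent.Lib.DihedralBGroup.PiLemma

/-!
# Classes supported on elements of two-power order

* `S2`, `Two` : elements killed by `2 ^ j`, classes supported on the two-part
* `outer` : structure constants at the other classes are multiples of twice an odd prime
* `no_seven` : seven equally loaded cosets are impossible
-/

set_option autoImplicit false

namespace Cfsg.Agent.DihedralBGroup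

open DihedralGroup Finset

variable {m : ℕ} [NeZero m]

/-- The elements killed by `2 ^ j`. -/
def S2 (j : ℕ) : AddSubgroup (ZMod m) := (nsmulAddMonoidHom (2 ^ j) : ZMod m →+ ZMod m).ker

omit [NeZero m] in
theorem mem_S2 {j : ℕ} {y : ZMod m} : y ∈ S2 j ↔ addOrderOf y ∣ 2 ^ j :=
  (addOrderOf_dvd_iff_nsmul_eq_zero).symm

omit [NeZero m] in
theorem S2_mono {i j : ℕ} (h : i ≤ j) {y : ZMod m} (hy : y ∈ S2 i) : y ∈ S2 j :=
  mem_S2.2 ((mem_S2.1 hy).trans (pow_dvd_pow 2 h))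

omit [NeZero m] in
theorem mem_Q_of_S2 {p : ℕ} (hp : p.Prime) (hp2 : p ≠ 2) {j : ℕ} {y : ZMod m} (hy : y ∈ S2 j) :
    y ∈ Q p hp := fun h => hp2 ((Nat.prime_dvd_prime_iff_eq hp Nat.prime_two).1
      (hp.dvd_of_dvd_pow (h.trans (mem_S2.1 hy))))

omit [NeZero m] in
theorem exists_order_pow {j : ℕ} {y : ZMod m} (hy : y ∈ S2 j) :
    ∃ i ≤ j, addOrderOf y = 2 ^ i := (Nat.dvd_prime_pow Nat.prime_two).1 (mem_S2.1 hy)

/-- An element of order `d`, for `d ∣ m`. -/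
theorem exists_order {d : ℕ} (hd : d ∣ m) : ∃ y : ZMod m, addOrderOf y = d := by
  obtain ⟨k, hk⟩ := hd
  refine ⟨(k : ZMod m), ?_⟩
  have hk0 : 0 < k := Nat.pos_of_ne_zero fun h => NeZero.ne m (by rw [hk, h, mul_zero])
  rw [ZMod.addOrderOf_coe k (NeZero.ne m), Nat.gcd_eq_right ⟨d, by rw [mul_comm]; exact hk⟩]
  exact Nat.div_eq_of_eq_mul_left hk0 hk

theorem card_order {d : ℕ} (hd : d ∣ m) :
    (univ.filter fun y : ZMod m => addOrderOf y = d).card = Nat.totient d :=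
  IsAddCyclic.card_addOrderOf_eq_totient (by rwa [ZMod.card])

theorem card_layer {j : ℕ} (hj : 0 < j) (hd : 2 ^ j ∣ m) :
    (univ.filter fun y : ZMod m => addOrderOf y = 2 ^ j).card = 2 ^ (j - 1) := by
  rw [card_order hd, Nat.totient_prime_pow Nat.prime_two hj]
  norm_num

theorem S2_eq_zmultiples {j : ℕ} {e : ZMod m} (he : addOrderOf e = 2 ^ j) :
    S2 j = AddSubgroup.zmultiples e := by
  ext y
  constructor
  · intro hy
    obtain ⟨k, rfl⟩ := exists_nsmul (x := e) (y := y) (he ▸ mem_S2.1 hy)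
    exact AddSubgroup.nsmul_mem_zmultiples e k
  · intro hy
    exact (AddSubgroup.zmultiples_le.2 (mem_S2.2 he.dvd)) hy

theorem card_S2 {j : ℕ} (hd : 2 ^ j ∣ m) : Nat.card (S2 (m := m) j) = 2 ^ j := by
  obtain ⟨e, he⟩ := exists_order (m := m) hd
  rw [S2_eq_zmultiples he, Nat.card_zmultiples, he]

theorem card_filter_S2 {j : ℕ} (hd : 2 ^ j ∣ m) [DecidablePred fun v : ZMod m => v ∈ S2 j] :
    (univ.filter fun v : ZMod m => v ∈ S2 j).card = 2 ^ j := by
  rw [← card_S2 (m := m) hd, Nat.card_eq_fintype_card, Fintype.card_subtype]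

omit [NeZero m] in
/-- Adding an element of smaller two-power order keeps the order. -/
theorem order_add {j : ℕ} (hj : 0 < j) {x v : ZMod m} (hx : addOrderOf x = 2 ^ j)
    (hv : v ∈ S2 (j - 1)) : addOrderOf (x + v) = 2 ^ j := by
  have h1 : x + v ∈ S2 j :=
    (S2 j).add_mem (mem_S2.2 hx.dvd) (S2_mono (Nat.sub_le j 1) hv)
  obtain ⟨i, hi, he⟩ := exists_order_pow h1
  rw [he]
  congr 1
  by_contra hne
  have h2 : x + v ∈ S2 (j - 1) := mem_S2.2 (he ▸ pow_dvd_pow 2 (by omega))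
  have h3 : x ∈ S2 (j - 1) := by simpa using (S2 (j - 1)).sub_mem h2 hv
  have h4 := mem_S2.1 h3
  rw [hx, Nat.pow_dvd_pow_iff_le_right (by norm_num)] at h4
  omega

theorem sub_mem_of_order {j : ℕ} {x y : ZMod m} (hx : addOrderOf x = 2 ^ j)
    (hy : addOrderOf y = 2 ^ j) : x - y ∈ S2 (j - 1) := by
  obtain ⟨k, rfl⟩ := exists_nsmul (x := x) (y := y) (by rw [hx, hy])
  rcases Nat.eq_zero_or_pos j with rfl | hj
  · rw [pow_zero, AddMonoid.addOrderOf_eq_one_iff] at hx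
    subst hx
    simp
  rw [addOrderOf_nsmul, hx] at hy
  have hk : Odd k := by
    rw [← Nat.not_even_iff_odd]
    intro hk
    have h2 : 2 ∣ (2 ^ j).gcd k := Nat.dvd_gcd (dvd_pow_self 2 (by omega)) (even_iff_two_dvd.1 hk)
    have h3 := Nat.div_lt_self (Nat.two_pow_pos j)
      (lt_of_lt_of_le one_lt_two (Nat.le_of_dvd (Nat.gcd_pos_of_pos_left _ (Nat.two_pow_pos j)) h2))
    omega
  obtain ⟨l, rfl⟩ := hk
  rw [mem_S2, addOrderOf_dvd_iff_nsmul_eq_zero, succ_nsmul, sub_add_cancel_right, smul_neg,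
    neg_eq_zero, ← mul_nsmul', ← mul_assoc, ← pow_succ, Nat.sub_add_cancel hj, mul_comm, mul_nsmul',
    ← hx, addOrderOf_nsmul_eq_zero, nsmul_zero]

/-- Translation by an element of order `p` preserves the order when `p ^ 2` divides it. -/
theorem order_translate {p : ℕ} (hp : p.Prime) {x u : ZMod m}
    (hx : p * p ∣ addOrderOf x) (hu : p • u = 0) : addOrderOf (x + u) = addOrderOf x := by
  have hpx : addOrderOf u ∣ addOrderOf x :=
    (addOrderOf_dvd_iff_nsmul_eq_zero.2 hu).trans ((dvd_mul_right p p).trans hx)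
  obtain ⟨j, hj⟩ := exists_nsmul hpx
  have hd : addOrderOf x ∣ p * j := by
    rw [addOrderOf_dvd_iff_nsmul_eq_zero, mul_nsmul', hj, hu]
  rw [show x + u = (1 + j) • x by rw [add_nsmul, one_nsmul, hj]]
  refine Nat.Coprime.addOrderOf_nsmul (Nat.coprime_comm.1 ?_)
  refine Nat.coprime_of_dvd fun q hq hq1 hqx => ?_
  have hqj : q ∣ j := by
    by_cases hqp : q = p
    · subst hqp
      exact (Nat.mul_dvd_mul_iff_left hq.pos).1 (hx.trans hd)
    · exact (hq.dvd_mul.1 (hqx.trans hd)).resolve_left fun h =>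
        hqp ((Nat.prime_dvd_prime_iff_eq hq hp).1 h)
  exact hq.one_lt.ne' (Nat.dvd_one.1 ((Nat.dvd_add_left hqj).1 hq1))

/-- Elements of equal order differ by a unit. -/
theorem exists_unit_of_order {x y : ZMod m} (h : addOrderOf x = addOrderOf y) :
    ∃ K : (ZMod m)ˣ, (K : ZMod m) * x = y := by
  obtain ⟨k, rfl⟩ := exists_nsmul (x := x) (y := y) h.symm.dvd
  have hk : k.Coprime (addOrderOf x) := by
    rw [addOrderOf_nsmul] at h
    rw [Nat.coprime_comm, Nat.coprime_iff_gcd_eq_one]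
    by_contra hg
    have hg1 : 1 < (addOrderOf x).gcd k :=
      lt_of_le_of_ne (Nat.gcd_pos_of_pos_left _ (addOrderOf_pos x)) (Ne.symm hg)
    have := Nat.div_lt_self (addOrderOf_pos x) hg1
    omega
  obtain ⟨U, hU⟩ := exists_unit hk
  exact ⟨U, by rw [hU, nsmul_eq_cast_mul]⟩

namespace Scheme

variable (𝔖 : Scheme m)

theorem yy_order (hR : 𝔖.IsRat) (s : DihedralGroup m) {x y : ZMod m}
    (h : addOrderOf x = addOrderOf y) : 𝔖.yy s x = 𝔖.yy s y := by
  obtain ⟨K, rfl⟩ := exists_unit_of_order h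
  rw [𝔖.yy_mul hR]

theorem mem_X_order (hR : 𝔖.IsRat) {s : DihedralGroup m} {x y : ZMod m}
    (h : addOrderOf x = addOrderOf y) (hx : x ∈ 𝔖.X s) : y ∈ 𝔖.X s :=
  𝔖.mem_X.2 (𝔖.trans' (𝔖.mem_X.1 hx) (𝔖.same_order hR h))

/-- A class whose rotations have two-power order. -/
def Two (ν : ℕ) (s : DihedralGroup m) : Prop := ∀ x ∈ 𝔖.X s, x ∈ S2 ν

theorem two_congr {ν : ℕ} {s t : DihedralGroup m} (h : 𝔖.R s t) : 𝔖.Two ν s ↔ 𝔖.Two ν t := by
  rw [Scheme.Two, Scheme.Two, 𝔖.X_congr h]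

theorem Two.pure {𝔖 : Scheme m} {ν : ℕ} {s : DihedralGroup m} (hs : 𝔖.Two ν s) {p : ℕ}
    (hp : p.Prime) (hp2 : p ≠ 2) : 𝔖.Pure p hp s := fun x hx => mem_Q_of_S2 hp hp2 (hs x hx)

theorem exists_impure {ν O : ℕ} (hmO : m = 2 ^ ν * O) (hO : Odd O) {l : DihedralGroup m}
    (hl : ¬ 𝔖.Two ν l) :
    ∃ p, ∃ hp : p.Prime, p ≠ 2 ∧ p ∣ m ∧ ¬ 𝔖.Pure p hp l := by
  simp only [Scheme.Two, not_forall] at hl
  obtain ⟨x, hx, hxS⟩ := hl
  rw [mem_S2] at hxS
  obtain ⟨p, hp, hp2, hpx⟩ : ∃ p, p.Prime ∧ p ≠ 2 ∧ p ∣ addOrderOf x := by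
    by_contra hno
    push Not at hno
    refine hxS ((Nat.Coprime.dvd_mul_right ?_).1 ((addOrderOf_dvd_m x).trans (dvd_of_eq hmO)))
    refine Nat.coprime_of_dvd fun k hk hk1 hk2 => ?_
    by_cases hk2' : k = 2
    · subst hk2'
      exact (Nat.not_even_iff_odd.2 hO) (even_iff_two_dvd.2 hk2)
    · exact hno k hk hk2' hk1
  exact ⟨p, hp, hp2, hpx.trans (addOrderOf_dvd_m x), fun h => h x hx hpx⟩

theorem outer_dvd (hm : 2 ≤ m) (hR : 𝔖.IsRat) {s l : DihedralGroup m} (hl1 : l ≠ 1) {p : ℕ}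
    (hp : p.Prime) (hp2 : p ≠ 2) (hpm : p ∣ m) (hs : 𝔖.Pure p hp s) (hl : ¬ 𝔖.Pure p hp l) :
    ((2 * p : ℕ) : ℤ) ∣ 𝔖.p s l := by
  have h1 := 𝔖.dvd_p hm hR hp hp2 hpm hs hl
  have h2 := 𝔖.two_dvd_p hm s hl1
  push_cast
  refine IsCoprime.mul_dvd ?_ h2 h1
  exact Nat.isCoprime_iff_coprime.2
    ((Nat.coprime_primes Nat.prime_two hp).2 (Ne.symm hp2))

/-- A positive structure constant of a two-class at another class is at least six. -/
theorem six_le (hm : 2 ≤ m) (hR : 𝔖.IsRat) {ν O : ℕ} (hmO : m = 2 ^ ν * O) (hO : Odd O)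
    {s l : DihedralGroup m} (hs : 𝔖.Two ν s) (hl1 : l ≠ 1) (hl : ¬ 𝔖.Two ν l)
    (hpos : 0 < 𝔖.p s l) : 6 ≤ 𝔖.p s l := by
  obtain ⟨p, hp, hp2, hpm, hlp⟩ := 𝔖.exists_impure hmO hO hl
  have h := Int.le_of_dvd hpos (𝔖.outer_dvd hm hR hl1 hp hp2 hpm (hs.pure hp hp2) hlp)
  have := hp.two_le
  have h3 : (6 : ℤ) ≤ ((2 * p : ℕ) : ℤ) := by exact_mod_cast (show 6 ≤ 2 * p by omega)
  omega

theorem norm_ind (s : DihedralGroup m) :
    bar (refPart (𝔖.ind s) : GR ℤ m) * refPart (𝔖.ind s) = ofFun fun y => (𝔖.yy s y : ℤ) := by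
  classical
  rw [refPart, bar_ofFun, ofFun_mul]
  congr 1
  funext y
  rw [Scheme.yy, natCast_card_filter,
    ← sum_subset (subset_univ ((𝔖.Y s).map (Equiv.neg (ZMod m)).toEmbedding)) fun t _ ht => ?_,
    sum_map]
  · refine sum_congr rfl fun i hi => ?_
    simp [𝔖.ind_sr, hi, add_comm]
  · have : -t ∉ 𝔖.Y s := fun h => ht (mem_map.2 ⟨-t, h, neg_neg t⟩)
    simp [𝔖.ind_sr, this]

/-- Seven equally loaded cosets are impossible. -/
theorem no_seven (hm : 2 ≤ m) (hR : 𝔖.IsRat) {s : DihedralGroup m} {K : AddSubgroup (ZMod m)}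
    (hK : K ≠ ⊤) {n : ℕ} (hn : 0 < n) (h0 : ∀ w ∈ K, 𝔖.cosetSum s K w = 3 * (n * n))
    (h1 : ∀ w ∉ K, 𝔖.cosetSum s K w = n * n) : False := by
  classical
  obtain ⟨d, hd⟩ : ∃ d, d ∉ K := by
    by_contra h
    push Not at h
    exact hK (eq_top_iff.2 fun x _ => h x)
  let F : ZMod m → ℤ := fun y => if y ∈ K then 1 else 0
  set w : GR ℤ m := ofFun F * (1 - ee d) with hw
  have hw0 : w ≠ 0 := by
    intro h
    have := congrArg (fun Q : GR ℤ m => Q.coeff 0) h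
    simp only [hw, PiLemma.mul_sub_ee_coeff, coeff_ofFun, F, AddMonoidAlgebra.coeff_zero,
      Finsupp.zero_apply, if_pos K.zero_mem, Int.cast_id] at this
    rw [if_neg (fun h => hd (by simpa using K.neg_mem h))] at this
    norm_num at this
  have hmul : bar (refPart (𝔖.ind s) : GR ℤ m) * refPart (𝔖.ind s) * ofFun F =
      ofFun fun y => (n * n : ℤ) * (1 + 2 * F y) := by
    rw [𝔖.norm_ind, ofFun_mul]
    congr 1
    funext y
    have h2 : ∑ t, (𝔖.yy s t : ℤ) * F (y - t) = (𝔖.cosetSum s K y : ℤ) := by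
      rw [Scheme.cosetSum, Nat.cast_sum, sum_filter]
      exact Fintype.sum_equiv (Equiv.subRight y) _ _ fun t => by
        show _ = if t - y ∈ K then ((𝔖.yy s (t - y + y) : ℕ) : ℤ) else 0
        rw [sub_add_cancel, show t - y = -(y - t) by ring]
        simp only [F, K.neg_mem_iff, mul_ite, mul_one, mul_zero]
    rw [h2]
    by_cases hy : y ∈ K
    · simp only [h0 y hy, F, if_pos hy]
      push_cast
      ring
    · simp only [h1 y hy, F, if_neg hy]
      push_cast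
      ring
  have hsq := 𝔖.eigen_square hm hR (𝔖.inS_ind s) hw0 (N := 2 * (n * n)) ?_
  · obtain ⟨k, hk⟩ := hsq
    have hk' : k.natAbs * k.natAbs = 2 * (n * n) := by
      rw [← Int.natAbs_mul, ← hk]
      norm_cast
    have h2 := congrArg (fun z => z.factorization 2) hk'
    have hk0 : k.natAbs ≠ 0 := fun h => by simp [h, hn.ne'] at hk'
    simp only [Nat.factorization_mul hk0 hk0, Nat.factorization_mul two_ne_zero
      (mul_ne_zero hn.ne' hn.ne'), Nat.factorization_mul hn.ne' hn.ne', Finsupp.add_apply,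
      Nat.Prime.factorization_self Nat.prime_two] at h2
    omega
  · rw [hw, ← mul_assoc, hmul, ← mul_assoc, ofFun_zsmul]
    ext y
    simp only [PiLemma.mul_sub_ee_coeff, coeff_ofFun, Int.cast_id]
    ring

end Scheme

end Cfsg.Agent.DihedralBGroup
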