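import Cfsg.Agent.Lib.DihedralBGroup.TwoCommon
import Cfsg.Agent.Lib.DihedralBGroup.Tools

/-!
# No two-class starts at the third layer or above

* `shared_bound`, `disjoint_bound` : positivity for the lower layers
* `no_high` : a two-class contains an element of order two or four unless none exists
-/

set_option autoImplicit false

namespace Cfsg.Agent.DihedralBGroup

open DihedralGroup Finset

variable {m : ℕ} [NeZero m]

namespace Scheme

variable (𝔖 : Scheme m)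

/-- A two-class whose lowest layer is `i`. -/
structure Lowest (ν i : ℕ) (s : DihedralGroup m) : Prop where
  ne : s ≠ 1
  two : 𝔖.Two ν s
  le : i ≤ ν
  top : ∃ x ∈ 𝔖.X s, addOrderOf x = 2 ^ i
  low : ∀ y ∈ S2 (i - 1), y ≠ 0 → ¬ 𝔖.Two ν (r y)

variable {𝔖}

theorem Lowest.high {ν i : ℕ} {s : DihedralGroup m} (h : 𝔖.Lowest ν i s) {x : ZMod m}
    (hx : x ∈ 𝔖.X s) : ∃ j, i ≤ j ∧ j ≤ ν ∧ addOrderOf x = 2 ^ j := by
  obtain ⟨j, hj, hjo⟩ := exists_order_pow (h.two x hx)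
  refine ⟨j, ?_, hj, hjo⟩
  by_contra hlt
  refine h.low x (mem_S2.2 (hjo ▸ pow_dvd_pow 2 (by omega))) (fun h0 => ?_)
    ((𝔖.two_congr (𝔖.mem_X.1 hx)).1 h.two)
  exact 𝔖.zero_notMem_X h.ne (h0 ▸ hx)

theorem Lowest.add_mem (hR : 𝔖.IsRat) {ν i : ℕ} {s : DihedralGroup m} (h : 𝔖.Lowest ν i s)
    (hi : 0 < i) {x v : ZMod m} (hx : x ∈ 𝔖.X s) (hv : v ∈ S2 (i - 1)) : x + v ∈ 𝔖.X s := by
  obtain ⟨j, hij, -, hjo⟩ := h.high hx
  exact 𝔖.mem_X_order hR
    (hjo.trans (order_add (by omega) hjo (S2_mono (by omega) hv)).symm) hx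

theorem Lowest.xx_low (hR : 𝔖.IsRat) {ν i : ℕ} {s : DihedralGroup m} (h : 𝔖.Lowest ν i s)
    (hi : 0 < i) {v : ZMod m} (hv : v ∈ S2 (i - 1)) : 𝔖.xx s v = (𝔖.X s).card := by
  rw [Scheme.xx, filter_true_of_mem fun x hx => ?_]
  rw [sub_eq_add_neg, add_comm]
  exact h.add_mem hR hi (𝔖.neg_mem_X hx) hv

/-- Two lower layers impure at the same prime make the class long. -/
theorem Lowest.shared_bound (hm : 2 ≤ m) (hR : 𝔖.IsRat) {ν i : ℕ} {s : DihedralGroup m}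
    (h : 𝔖.Lowest ν i s) (hdvd : 2 ^ ν ∣ m) {p : ℕ} (hp : p.Prime) (hp2 : p ≠ 2) (hpm : p ∣ m)
    {k j : ℕ} (hk : 0 < k) (hkj : k < j) (hji : j < i) {x y : ZMod m}
    (hx : addOrderOf x = 2 ^ k) (hy : addOrderOf y = 2 ^ j) (hxp : ¬ 𝔖.Pure p hp (r x))
    (hyp : ¬ 𝔖.Pure p hp (r y)) : 3 * (𝔖.X s).card ≤ (𝔖.Y s).card := by
  classical
  obtain ⟨u, hu, hu0⟩ := exists_prime_elt hp hpm
  have hjν : j ≤ ν := by have := h.le; omega
  have hdj : 2 ^ j ∣ m := (pow_dvd_pow 2 hjν).trans hdvd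
  have hdk : 2 ^ k ∣ m := (pow_dvd_pow 2 (by omega)).trans hdvd
  set a := (𝔖.X s).card with ha
  set F := univ.filter (fun v : ZMod m => v ∈ S2 j) with hF
  have h0F : (0 : ZMod m) ∈ F := by simp [hF, (S2 j).zero_mem]
  set L := univ.filter (fun v : ZMod m => addOrderOf v = 2 ^ k ∨ addOrderOf v = 2 ^ j) with hL
  have hLsub : L ⊆ F.erase 0 := by
    intro v hv
    rw [hL, mem_filter] at hv
    rw [mem_erase, hF, mem_filter]
    refine ⟨fun e => ?_, mem_univ _, mem_S2.2 ?_⟩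
    · rw [e, addOrderOf_zero] at hv
      have h1 : 2 ≤ 2 ^ k := Nat.le_self_pow (by omega) 2
      have h2 : 2 ≤ 2 ^ j := Nat.le_self_pow (by omega) 2
      rcases hv.2 with e | e <;> omega
    · rcases hv.2 with e | e <;> rw [e]
      exact pow_dvd_pow 2 hkj.le
  have hLc : L.card = 2 ^ (k - 1) + 2 ^ (j - 1) := by
    rw [hL, filter_or, card_union_of_disjoint, card_layer hk hdk, card_layer (by omega) hdj]
    rw [disjoint_filter]
    intro v _ e1 e2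
    have := Nat.pow_right_injective (le_refl 2) (e1.symm.trans e2)
    omega
  have hpQ : ∀ v ∈ F, v ∈ Q p hp := fun v hv => mem_Q_of_S2 hp hp2 (mem_filter.1 hv).2
  have hxx : ∀ v ∈ F, 𝔖.xx s v = a := fun v hv =>
    h.xx_low hR (by omega) (S2_mono (by omega) (mem_filter.1 hv).2)
  have hdiff : ∀ v ∈ F.erase 0, 𝔖.yy s v + (if v ∈ L then 2 * a else 0) ≤ 𝔖.yy s (v + u) + a := by
    intro v hv
    rw [mem_erase] at hv
    split_ifs with hvL
    · have himp : ¬ 𝔖.Pure p hp (r v) := by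
        rcases (mem_filter.1 hvL).2 with e | e
        · exact fun h' => hxp ((𝔖.pure_congr hp (𝔖.same_order hR (hx.trans e.symm))).2 h')
        · exact fun h' => hyp ((𝔖.pure_congr hp (𝔖.same_order hR (hy.trans e.symm))).2 h')
      have h2 := 𝔖.p_congr s (𝔖.step hR hp hp2 hpm (hpQ v hv.2) hu hu0 himp)
      rw [𝔖.p_r, 𝔖.p_r, hxx v hv.2,
        𝔖.xx_eq_zero_of_notMem (h.two.pure hp hp2) (add_notMem_Q hp (hpQ v hv.2) hu hu0)] at h2
      omega
    · have h2 := 𝔖.p_le hm s (r_ne_one hv.1)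
      rw [𝔖.p_r, hxx v hv.2] at h2
      omega
  have h1 := sum_le_sum hdiff
  rw [sum_add_distrib, sum_add_distrib, ← sum_filter, filter_mem_eq_inter,
    inter_eq_right.2 hLsub, sum_const, sum_const, hLc, card_erase_of_mem h0F,
    card_filter_S2 hdj, smul_eq_mul, smul_eq_mul] at h1
  have h2 := 𝔖.cosetSum_le s (S2 j) u
  unfold Scheme.cosetSum at h2
  rw [← hF, ← add_sum_erase _ _ h0F, ← add_sum_erase _ _ h0F] at h2
  simp only [add_zero, zero_add, 𝔖.yy_zero] at h2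
  have e1 : (2 ^ (k - 1) + 2 ^ (j - 1)) * (2 * a) = 2 ^ k * a + 2 ^ j * a := by
    rw [show 2 ^ k = 2 * 2 ^ (k - 1) by rw [← pow_succ']; congr 1; omega,
      show 2 ^ j = 2 * 2 ^ (j - 1) by rw [← pow_succ']; congr 1; omega]
    ring
  have e2 : ((2 : ℕ) ^ j - 1) * a + a = 2 ^ j * a := by
    rw [← Nat.succ_mul, show ((2 : ℕ) ^ j - 1).succ = 2 ^ j by have := Nat.two_pow_pos j; omega]
  have e3 : 2 * a ≤ 2 ^ k * a := Nat.mul_le_mul_right a (Nat.le_self_pow (by omega) 2)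
  omega

/-- The second difference at an element of a lower layer. -/
theorem Lowest.delta (hR : 𝔖.IsRat) {ν i : ℕ} {s : DihedralGroup m} (h : 𝔖.Lowest ν i s)
    (hi : 0 < i) {p q : ℕ} (hp : p.Prime) (hp2 : p ≠ 2) (hpm : p ∣ m) (hq : q.Prime) (hq2 : q ≠ 2)
    (hqm : q ∣ m) (hpq : p ≠ q) {v u u' : ZMod m} (hv : v ∈ S2 (i - 1))
    (hvp : ¬ 𝔖.Pure p hp (r v)) (hu : p • u = 0) (hu0 : u ≠ 0) (hu' : q • u' = 0) (hu0' : u' ≠ 0) :
    (𝔖.yy s (v + u) : ℤ) + 𝔖.yy s (v + u') =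
      𝔖.yy s v + 𝔖.yy s (v + u' + u) + (𝔖.X s).card := by
  have hvQp := mem_Q_of_S2 hp hp2 hv
  have hvQq := mem_Q_of_S2 hq hq2 hv
  have h1 := 𝔖.p_congr s (𝔖.step hR hp hp2 hpm hvQp hu hu0 hvp)
  rw [𝔖.p_r, 𝔖.p_r, h.xx_low hR hi hv,
    𝔖.xx_eq_zero_of_notMem (h.two.pure hp hp2) (add_notMem_Q hp hvQp hu hu0)] at h1
  have hQp' : v + u' ∈ Q p hp := (Q p hp).add_mem hvQp (mem_Q_of_prime hp hq hpq hu')
  have himp : ¬ 𝔖.Pure p hp (r (v + u')) := fun hpure =>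
    hvp (𝔖.pred hR hp hp2 hpm hq hq2 hqm hpq hpure hvQq hu' hu0' (𝔖.self_mem_X _))
  have h2 := 𝔖.p_congr s (𝔖.step hR hp hp2 hpm hQp' hu hu0 himp)
  have h3 : v + u' + u ∉ Q q hq := by
    rw [show v + u' + u = v + u + u' by ring]
    exact add_notMem_Q hq ((Q q hq).add_mem hvQq (mem_Q_of_prime hq hp (Ne.symm hpq) hu)) hu' hu0'
  rw [𝔖.p_r, 𝔖.p_r,
    𝔖.xx_eq_zero_of_notMem (h.two.pure hq hq2) (add_notMem_Q hq hvQq hu' hu0'),
    𝔖.xx_eq_zero_of_notMem (h.two.pure hq hq2) h3] at h2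
  push_cast at h1 h2 ⊢
  linarith

/-- The first two layers impure at different primes make the class long. -/
theorem Lowest.disjoint_bound (hR : 𝔖.IsRat) {ν i : ℕ} {s : DihedralGroup m}
    (h : 𝔖.Lowest ν i s) (hi : 3 ≤ i) (hdvd : 2 ^ ν ∣ m) {p q : ℕ} (hp : p.Prime) (hp2 : p ≠ 2)
    (hpm : p ∣ m) (hq : q.Prime) (hq2 : q ≠ 2) (hqm : q ∣ m) (hpq : p ≠ q) {x y : ZMod m}
    (hx : addOrderOf x = 2 ^ 1) (hy : addOrderOf y = 2 ^ 2) (hxp : ¬ 𝔖.Pure p hp (r x))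
    (hyq : ¬ 𝔖.Pure q hq (r y)) (ha : 0 < (𝔖.X s).card) :
    2 * (𝔖.X s).card < (𝔖.Y s).card := by
  classical
  obtain ⟨u, hu, hu0⟩ := exists_prime_elt hp hpm
  obtain ⟨u', hu', hu0'⟩ := exists_prime_elt hq hqm
  have huQ : u ∈ Q q hq := mem_Q_of_prime hq hp (Ne.symm hpq) hu
  have hu'Q : u' ∈ Q p hp := mem_Q_of_prime hp hq hpq hu'
  have hou := addOrderOf_of_prime hp hu hu0
  have hou' := addOrderOf_of_prime hq hu' hu0'
  have hnu : p • (-u) = 0 := by rw [smul_neg, hu, neg_zero]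
  set a := (𝔖.X s).card with hadef
  set F := univ.filter (fun v : ZMod m => v ∈ S2 2) with hF
  have h0F : (0 : ZMod m) ∈ F := by simp [hF, (S2 2).zero_mem]
  have hd4 : 2 ^ 2 ∣ m := (pow_dvd_pow 2 (by have := h.le; omega)).trans hdvd
  have hdelta : ∀ w, p • w = 0 → w ≠ 0 → ∀ v ∈ F.erase 0,
      (𝔖.yy s (v + w) : ℤ) + 𝔖.yy s (v + u') = 𝔖.yy s v + 𝔖.yy s (v + u' + w) + a := by
    intro w hw hw0 v hv
    rw [mem_erase, hF, mem_filter] at hv
    have hv' : v ∈ S2 (i - 1) := S2_mono (by omega) hv.2.2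
    obtain ⟨j, hj, hjo⟩ := exists_order_pow hv.2.2
    have hj0 : j ≠ 0 := fun e => hv.1 (by
      rw [← AddMonoid.addOrderOf_eq_one_iff, hjo, e, pow_zero])
    rcases (show j = 1 ∨ j = 2 by omega) with rfl | rfl
    · exact h.delta hR (by omega) hp hp2 hpm hq hq2 hqm hpq hv'
        (fun h' => hxp ((𝔖.pure_congr hp (𝔖.same_order hR (hx.trans hjo.symm))).2 h')) hw hw0 hu' hu0'
    · have := h.delta hR (by omega) hq hq2 hqm hp hp2 hpm (Ne.symm hpq) hv'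
        (fun h' => hyq ((𝔖.pure_congr hq (𝔖.same_order hR (hy.trans hjo.symm))).2 h')) hu' hu0' hw hw0
      rw [show v + w + u' = v + u' + w by ring] at this
      linarith
  have hsame : ∀ v ∈ F.erase 0, 𝔖.yy s (v + -u) = 𝔖.yy s (v + u) := by
    intro v hv
    have hvQ : v ∈ Q p hp := mem_Q_of_S2 hp hp2 (mem_filter.1 (mem_erase.1 hv).2).2
    exact 𝔖.yy_order hR s (by
      rw [addOrderOf_add_prime hp hvQ hu hu0, addOrderOf_add_prime hp hvQ hnu (neg_ne_zero.2 hu0)])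
  have huu : 𝔖.yy s (u' - u) = 𝔖.yy s (u + u') := by
    refine 𝔖.yy_order hR s ?_
    rw [add_comm u u', sub_eq_add_neg, addOrderOf_add_prime hp hu'Q hu hu0,
      addOrderOf_add_prime hp hu'Q hnu (neg_ne_zero.2 hu0)]
  have hk := 𝔖.cosetSum_kernel s (S2 2) u u'
  unfold Scheme.cosetSum at hk
  rw [← hF] at hk
  rw [← add_sum_erase _ _ h0F, ← add_sum_erase _ _ h0F, ← add_sum_erase _ _ h0F,
    ← add_sum_erase _ _ h0F, ← add_sum_erase _ _ h0F] at hk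
  simp only [zero_add, add_zero, 𝔖.yy_zero, huu] at hk
  have hsum : (∑ v ∈ F.erase 0, ((2 * 𝔖.yy s (v + u) : ℤ) + 2 * 𝔖.yy s (v + u'))) =
      ∑ v ∈ F.erase 0, ((2 * 𝔖.yy s v : ℤ) + 𝔖.yy s (v + (u + u')) + 𝔖.yy s (v + (u' - u)) +
        2 * a) := by
    refine sum_congr rfl fun v hv => ?_
    have e1 := hdelta u hu hu0 v hv
    have e2 := hdelta (-u) hnu (neg_ne_zero.2 hu0) v hv
    rw [hsame v hv] at e2
    rw [show v + (u + u') = v + u' + u by ring, show v + (u' - u) = v + u' + -u by ring]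
    linarith
  have hcardF : (F.erase 0).card = 3 := by
    rw [card_erase_of_mem h0F, hF, card_filter_S2 hd4]
    rfl
  simp only [sum_add_distrib, ← mul_sum, sum_const, hcardF, nsmul_eq_mul] at hsum
  push_cast at hk hsum
  have hc : (3 : ℤ) * a + 𝔖.yy s u + 𝔖.yy s u' ≤ (𝔖.Y s).card + 𝔖.yy s (u + u') := by
    norm_num at hsum
    linarith
  -- one of the primes is at least five
  have key : ∀ {l : ℕ} (hl : l.Prime) (w w' : ZMod m), addOrderOf w = l → (5 ≤ l) →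
      (∀ j : ℕ, ¬ l ∣ j → addOrderOf (w' + j • w) = addOrderOf (u + u')) →
      4 * ((𝔖.yy s (u + u') : ℤ) - 𝔖.yy s w) ≤ (𝔖.Y s).card ∨
        (𝔖.yy s (u + u') : ℤ) ≤ 𝔖.yy s w := by
    intro l hl w w' hwo hl5 hord
    rcases le_or_gt (𝔖.yy s (u + u') : ℤ) (𝔖.yy s w) with h' | h'
    · exact Or.inr h'
    left
    set G := univ.filter (fun v : ZMod m => v ∈ AddSubgroup.zmultiples w) with hG
    have h0G : (0 : ZMod m) ∈ G := by simp [hG]
    have hGc : G.card = l := by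
      rw [← hwo, ← Nat.card_zmultiples, Nat.card_eq_fintype_card, Fintype.card_subtype]
    have hmem : ∀ v ∈ G.erase 0, 𝔖.yy s (v + w') = 𝔖.yy s (u + u') ∧ 𝔖.yy s v = 𝔖.yy s w := by
      intro v hv
      rw [mem_erase, hG, mem_filter] at hv
      obtain ⟨j, rfl⟩ := mem_multiples_iff_mem_zmultiples.2 hv.2.2
      have hj : ¬ l ∣ j := fun ⟨j', hj'⟩ => hv.1 (by
        show j • w = 0
        rw [hj', mul_nsmul, ← hwo, addOrderOf_nsmul_eq_zero, nsmul_zero])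
      constructor
      · exact 𝔖.yy_order hR s (by rw [add_comm]; exact hord j hj)
      · refine 𝔖.yy_order hR s ?_
        show addOrderOf (j • w) = _
        exact Nat.Coprime.addOrderOf_nsmul (hwo.symm ▸ hl.coprime_iff_not_dvd.2 hj)
    have h1 := 𝔖.cosetSum_le s (AddSubgroup.zmultiples w) w'
    unfold Scheme.cosetSum at h1
    rw [← hG, ← add_sum_erase _ _ h0G, ← add_sum_erase _ _ h0G,
      sum_congr rfl fun v hv => (hmem v hv).1] at h1
    simp only [add_zero, zero_add, 𝔖.yy_zero] at h1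
    rw [sum_congr rfl fun v hv => (hmem v hv).2,
      sum_const, sum_const, card_erase_of_mem h0G, hGc] at h1
    simp only [smul_eq_mul] at h1
    have h2 : ((l - 1 : ℕ) : ℤ) * ((𝔖.yy s (u + u') : ℤ) - 𝔖.yy s w) ≤ (𝔖.Y s).card := by
      have h3 : ((𝔖.yy s w' + (l - 1) * 𝔖.yy s (u + u') : ℕ) : ℤ) ≤
          (((𝔖.Y s).card + (l - 1) * 𝔖.yy s w : ℕ) : ℤ) := by exact_mod_cast h1
      push_cast at h3
      have : (0 : ℤ) ≤ 𝔖.yy s w' := Int.natCast_nonneg _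
      linarith
    have h4 : (4 : ℤ) ≤ ((l - 1 : ℕ) : ℤ) := by exact_mod_cast (show 4 ≤ l - 1 by omega)
    nlinarith
  have hp3 : 3 ≤ p := by have := hp.two_le; omega
  have hq3 : 3 ≤ q := by have := hq.two_le; omega
  have h5 : 5 ≤ p ∨ 5 ≤ q := by
    by_contra hh
    have h4 : ¬ Nat.Prime 4 := by norm_num
    rcases (show p = 3 ∨ p = 4 by omega) with rfl | rfl <;>
      rcases (show q = 3 ∨ q = 4 by omega) with rfl | rfl <;> simp_all
  have hu_nonneg : (0 : ℤ) ≤ 𝔖.yy s u := Int.natCast_nonneg _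
  have hu'_nonneg : (0 : ℤ) ≤ 𝔖.yy s u' := Int.natCast_nonneg _
  have ha' : (0 : ℤ) < a := by exact_mod_cast ha
  have hfin : (2 : ℤ) * a < (𝔖.Y s).card := by
    rcases h5 with h5 | h5
    · rcases key hp u u' hou h5 (fun j hj => by
        rw [add_comm u u', addOrderOf_add_prime hp hu'Q hu hu0,
          addOrderOf_add_prime hp hu'Q (by rw [← mul_nsmul', mul_comm, mul_nsmul', hu, nsmul_zero])
            fun e => hj (hou ▸ addOrderOf_dvd_iff_nsmul_eq_zero.2 e)]) with h6 | h6 <;> linarith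
    · rcases key hq u' u hou' h5 (fun j hj => by
        rw [addOrderOf_add_prime hq huQ hu' hu0',
          addOrderOf_add_prime hq huQ (by rw [← mul_nsmul', mul_comm, mul_nsmul', hu', nsmul_zero])
            fun e => hj (hou' ▸ addOrderOf_dvd_iff_nsmul_eq_zero.2 e)]) with h6 | h6 <;> linarith
  exact_mod_cast hfin

theorem cosetSum_zero_eq (s : DihedralGroup m) (V : AddSubgroup (ZMod m)) :
    𝔖.cosetSum s V 0 = ∑ y ∈ 𝔖.Y s, 𝔖.cnt s V y := by
  classical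
  rw [𝔖.cosetSum_eq_pairs]
  simp only [Scheme.cnt, sum_card_filter]
  refine card_bij' (fun q _ => (q.2, q.1)) (fun q _ => (q.2, q.1)) ?_ ?_ ?_ ?_
  · rintro ⟨a, b⟩ h
    simp only [mem_filter, mem_product, sub_zero] at h ⊢
    exact ⟨⟨h.1.2, h.1.1⟩, h.2⟩
  · rintro ⟨a, b⟩ h
    simp only [mem_filter, mem_product, sub_zero] at h ⊢
    exact ⟨⟨h.1.2, h.1.1⟩, h.2⟩
  · rintro ⟨a, b⟩ -; rfl
  · rintro ⟨a, b⟩ -; rfl

/-- No two-class starts at the third layer or above. -/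
theorem Lowest.no_high (hm : 2 ≤ m) (hR : 𝔖.IsRat) {ν O : ℕ} (hmO : m = 2 ^ ν * O) (hO : Odd O)
    (hO1 : 1 < O) {i : ℕ} {s : DihedralGroup m} (h : 𝔖.Lowest ν i s) (hi : 3 ≤ i) : False := by
  classical
  have hdvd : 2 ^ ν ∣ m := hmO ▸ dvd_mul_right _ _
  obtain ⟨p0, hp0, hp0m⟩ := Nat.exists_prime_and_dvd (show O ≠ 1 by omega)
  have hp02 : p0 ≠ 2 := fun e => Nat.not_even_iff_odd.2 hO (even_iff_two_dvd.2 (e ▸ hp0m))
  have hp0m' : p0 ∣ m := hp0m.trans (hmO ▸ dvd_mul_left _ _)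
  set a := (𝔖.X s).card with ha
  set c := (𝔖.Y s).card with hc
  have hca : a < c := 𝔖.card_X_lt hm hR hp0 hp02 hp0m' h.ne (h.two.pure hp0 hp02)
  have ha0 : 0 < a := card_pos.2 (𝔖.exists_mem_X hm h.ne)
  -- the impure primes of the lower layers
  have hlayer : ∀ k ∈ Finset.Icc 1 (i - 1), ∃ x : ZMod m, addOrderOf x = 2 ^ k ∧ x ≠ 0 ∧
      x ∈ S2 (i - 1) ∧ ∃ p, ∃ hp : p.Prime, p ≠ 2 ∧ p ∣ m ∧ ¬ 𝔖.Pure p hp (r x) := by
    intro k hk
    rw [Finset.mem_Icc] at hk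
    obtain ⟨x, hx⟩ := exists_order (m := m) ((pow_dvd_pow 2 (by have := h.le; omega)).trans hdvd :
      2 ^ k ∣ m)
    have hx0 : x ≠ 0 := fun e => by
      rw [e, addOrderOf_zero] at hx
      have : 2 ≤ 2 ^ k := Nat.le_self_pow (by omega) 2
      omega
    have hxS : x ∈ S2 (i - 1) := mem_S2.2 (hx ▸ pow_dvd_pow 2 hk.2)
    exact ⟨x, hx, hx0, hxS, 𝔖.exists_impure hmO hO (h.low x hxS hx0)⟩
  choose e he he0 heS P hP hP2 hPm hPimp using hlayer
  have hlong : 2 * a < c := by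
    have h1 : (1 : ℕ) ∈ Finset.Icc 1 (i - 1) := Finset.mem_Icc.2 ⟨le_rfl, by omega⟩
    have h2 : (2 : ℕ) ∈ Finset.Icc 1 (i - 1) := Finset.mem_Icc.2 ⟨by omega, by omega⟩
    by_cases hpq : P 1 h1 = P 2 h2
    · have himp : ¬ 𝔖.Pure (P 1 h1) (hP 1 h1) (r (e 2 h2)) := by
        have := hPimp 2 h2
        simp only [← hpq] at this
        exact this
      have := h.shared_bound hm hR hdvd (hP 1 h1) (hP2 1 h1) (hPm 1 h1) one_pos one_lt_two
        (show 2 < i by omega) (he 1 h1) (he 2 h2) (hPimp 1 h1) himp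
      omega
    · exact h.disjoint_bound hR hi hdvd (hP 1 h1) (hP2 1 h1) (hPm 1 h1) (hP 2 h2) (hP2 2 h2)
        (hPm 2 h2) hpq (he 1 h1) (he 2 h2) (hPimp 1 h1) (hPimp 2 h2) ha0
  have hself := 𝔖.self_reached s hlong
  obtain ⟨x0, hx0X, hx0⟩ := h.top
  -- the class is a single layer
  have hsingle : ∀ x, x ∈ 𝔖.X s ↔ addOrderOf x = 2 ^ i := by
    refine fun x => ⟨fun hx => ?_, fun hx => 𝔖.mem_X_order hR (hx0.trans hx.symm) hx0X⟩
    obtain ⟨j, hij, -, hjo⟩ := h.high hx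
    rcases eq_or_lt_of_le hij with rfl | hlt
    · exact hjo
    exfalso
    have hy : x - x0 ∈ 𝔖.X s := by
      refine 𝔖.mem_X_order hR (hjo.trans ?_) hx
      rw [sub_eq_add_neg]
      exact (order_add (by omega) hjo
        ((S2 (j - 1)).neg_mem (mem_S2.2 (hx0 ▸ pow_dvd_pow 2 (by omega))))).symm
    have hxx : 0 < 𝔖.xx s x := card_pos.2 ⟨x0, mem_filter.2 ⟨hx0X, hy⟩⟩
    have h1 := 𝔖.p_congr s (𝔖.mem_X.1 hx)
    rw [hself, 𝔖.p_r] at h1
    omega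
  set σ := 2 ^ (i - 1) with hσ
  have hd' : 2 ^ (i - 1) ∣ m := (pow_dvd_pow 2 (by have := h.le; omega)).trans hdvd
  have haσ : a = σ := by
    rw [ha, hσ, ← card_layer (m := m) (show 0 < i by omega)
      ((pow_dvd_pow 2 h.le).trans hdvd)]
    congr 1
    ext x
    simp [hsingle x]
  set V : AddSubgroup (ZMod m) := S2 (i - 1) with hV
  have hxy : ∀ z, 𝔖.xy s z = 𝔖.cnt s V (z + x0) := by
    intro z
    refine card_bij' (fun x _ => z + x) (fun y _ => y - z) ?_ ?_ ?_ ?_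
    · intro x hx
      rw [mem_filter] at hx ⊢
      refine ⟨hx.2, ?_⟩
      rw [show z + x0 - (z + x) = x0 - x by ring]
      exact sub_mem_of_order hx0 ((hsingle x).1 hx.1)
    · intro y hy
      rw [mem_filter] at hy ⊢
      refine ⟨?_, by simpa using hy.1⟩
      rw [hsingle, show y - z = x0 + -(z + x0 - y) by ring]
      exact order_add (by omega) hx0 (V.neg_mem hy.2)
    · intro x _; simp
    · intro y _; simp
  set F := univ.filter (fun v : ZMod m => v ∈ V) with hF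
  have h0F : (0 : ZMod m) ∈ F := by simp [hF, V.zero_mem]
  have hFc : F.card = σ := by rw [hσ, ← card_filter_S2 (m := m) hd']
  have hpv : ∀ v ∈ F, 𝔖.p s (r v) = (a : ℤ) + 𝔖.yy s v := fun v hv => by
    rw [𝔖.p_r, h.xx_low hR (by omega) (mem_filter.1 hv).2]
  have hFne : (F.erase 0).Nonempty := by
    rw [← card_pos, card_erase_of_mem h0F, hFc, hσ]
    have : 2 ^ 2 ≤ 2 ^ (i - 1) := Nat.pow_le_pow_right two_pos (by omega)
    omega
  obtain ⟨v0, hv0, hmax⟩ := exists_max_image (F.erase 0) (fun v => 𝔖.p s (r v)) hFne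
  obtain ⟨z, -, hz⟩ := 𝔖.exists_xy hm s (r_ne_one (mem_erase.1 hv0).1)
  set M := 𝔖.xy s z with hM
  have hMσ : M ≤ σ := haσ ▸ 𝔖.xy_le s z
  have hMpos : (a : ℤ) ≤ 2 * M := by
    rw [← hz, hpv v0 (mem_erase.1 hv0).2]
    omega
  -- the primes of the layers divide the maximum whenever the values are maximal
  have hmemF : ∀ k hk, e k hk ∈ F.erase 0 := fun k hk =>
    mem_erase.2 ⟨he0 k hk, mem_filter.2 ⟨mem_univ _, heS k hk⟩⟩
  have hdvdM : ∀ k hk, 𝔖.p s (r (e k hk)) = 2 * (M : ℤ) → P k hk ∣ M := by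
    intro k hk hv
    have h1 := 𝔖.outer_dvd hm hR (r_ne_one (he0 k hk)) (hP k hk) (hP2 k hk) (hPm k hk)
      (h.two.pure (hP k hk) (hP2 k hk)) (hPimp k hk)
    rw [hv] at h1
    have h2 : 2 * P k hk ∣ 2 * M := by exact_mod_cast h1
    exact Nat.dvd_of_mul_dvd_mul_left two_pos h2
  have hM0 : M ≠ σ := by
    intro hMeq
    obtain ⟨k, hk, hko⟩ := exists_order_pow (mem_filter.1 (mem_erase.1 hv0).2).2
    have hk0 : k ≠ 0 := fun e' => (mem_erase.1 hv0).1 (by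
      rw [← AddMonoid.addOrderOf_eq_one_iff, hko, e', pow_zero])
    have hkI : k ∈ Finset.Icc 1 (i - 1) := Finset.mem_Icc.2 ⟨by omega, hk⟩
    have := hdvdM k hkI (by
      rw [← hz, 𝔖.p_congr s (𝔖.same_order hR ((he k hkI).trans hko.symm))])
    rw [hMeq] at this
    exact hP2 k hkI ((Nat.prime_dvd_prime_iff_eq (hP k hkI) Nat.prime_two).1
      ((hP k hkI).dvd_of_dvd_pow this))
  -- the coset with the maximum
  set Y0 := (𝔖.Y s).filter (fun y => z + x0 - y ∈ V) with hY0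
  have hY0c : Y0.card = M := by rw [hM, hxy]; rfl
  have hn0 : ∀ y ∈ Y0, 𝔖.cnt s V y = M := by
    intro y hy
    rw [hM, hxy]
    unfold Scheme.cnt
    congr 1
    refine filter_congr fun y' _ => ?_
    rw [show z + x0 - y' = (z + x0 - y) + (y - y') by ring,
      V.add_mem_cancel_left (mem_filter.1 hy).2]
  have hn1 : ∀ y ∈ 𝔖.Y s, 1 ≤ 𝔖.cnt s V y := fun y hy =>
    card_pos.2 ⟨y, mem_filter.2 ⟨hy, by simp [V.zero_mem]⟩⟩
  have hsplit : M * (M - 1) + ∑ y ∈ 𝔖.Y s \ Y0, (𝔖.cnt s V y - 1) =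
      ∑ v ∈ F.erase 0, 𝔖.yy s v := by
    have h1 : ∑ y ∈ 𝔖.Y s, (𝔖.cnt s V y - 1) + c = c + ∑ v ∈ F.erase 0, 𝔖.yy s v := by
      have h2 : ∑ y ∈ 𝔖.Y s, (𝔖.cnt s V y - 1) + c = ∑ y ∈ 𝔖.Y s, 𝔖.cnt s V y := by
        rw [hc, card_eq_sum_ones, ← sum_add_distrib]
        exact sum_congr rfl fun y hy => Nat.sub_add_cancel (hn1 y hy)
      rw [h2, ← 𝔖.cosetSum_zero_eq, Scheme.cosetSum, ← hF, ← add_sum_erase _ _ h0F]
      simp only [add_zero, 𝔖.yy_zero, hc]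
    have h3 : ∑ y ∈ 𝔖.Y s, (𝔖.cnt s V y - 1) =
        ∑ y ∈ 𝔖.Y s \ Y0, (𝔖.cnt s V y - 1) + M * (M - 1) := by
      rw [← sum_sdiff (filter_subset (fun y => z + x0 - y ∈ V) (𝔖.Y s)), ← hY0,
        sum_congr rfl (s₁ := Y0) fun y hy => by rw [hn0 y hy], sum_const, hY0c, smul_eq_mul]
    omega
  have hsumle : ((∑ v ∈ F.erase 0, 𝔖.yy s v : ℕ) : ℤ) +
      ∑ v ∈ F.erase 0, (2 * (M : ℤ) - 𝔖.p s (r v)) = ((σ : ℤ) - 1) * (2 * M - σ) := by
    rw [Nat.cast_sum, ← sum_add_distrib,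
      sum_congr rfl (g := fun _ => (2 * (M : ℤ) - σ)) fun v hv => by
        rw [hpv v (mem_erase.1 hv).2, haσ]; ring,
      sum_const, card_erase_of_mem h0F, hFc, nsmul_eq_mul, Nat.cast_sub (show 1 ≤ σ from Nat.one_le_two_pow)]
    push_cast
    ring
  have hnn : ∀ v ∈ F.erase 0, (0 : ℤ) ≤ 2 * (M : ℤ) - 𝔖.p s (r v) := fun v hv => by
    have := hmax v hv
    rw [hz] at this
    linarith
  have hMle : (M : ℤ) + 1 ≤ σ := by omega
  have hM1 : 1 ≤ M := by omega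
  have hid : ((M * (M - 1) : ℕ) : ℤ) = (M : ℤ) * (M - 1) := by
    rw [Nat.cast_mul, Nat.cast_sub hM1]; simp
  have hsplit' := congrArg (Nat.cast : ℕ → ℤ) hsplit
  rw [Nat.cast_add, hid] at hsplit'
  have hR0 : (0 : ℤ) ≤ ((∑ y ∈ 𝔖.Y s \ Y0, (𝔖.cnt s V y - 1) : ℕ) : ℤ) := Int.natCast_nonneg _
  have hD0 : 0 ≤ ∑ v ∈ F.erase 0, (2 * (M : ℤ) - 𝔖.p s (r v)) := sum_nonneg hnn
  have hkey : ((σ : ℤ) - M) * ((σ : ℤ) - M - 1) +
      ((∑ y ∈ 𝔖.Y s \ Y0, (𝔖.cnt s V y - 1) : ℕ) : ℤ) +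
      ∑ v ∈ F.erase 0, (2 * (M : ℤ) - 𝔖.p s (r v)) = 0 := by
    linear_combination hsumle + hsplit'
  have hprod : (0 : ℤ) ≤ ((σ : ℤ) - M) * ((σ : ℤ) - M - 1) :=
    mul_nonneg (by linarith) (by linarith)
  have hMeq : M + 1 = σ := by
    have h1 : ((σ : ℤ) - M) * ((σ : ℤ) - M - 1) = 0 := by linarith
    rcases mul_eq_zero.1 h1 with h2 | h2 <;> omega
  have hall : ∀ v ∈ F.erase 0, 𝔖.p s (r v) = 2 * (M : ℤ) := by
    intro v hv
    have := (sum_eq_zero_iff_of_nonneg hnn).1 (by linarith) v hv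
    linarith
  have hrest : ∀ y ∈ 𝔖.Y s \ Y0, 𝔖.cnt s V y = 1 := by
    intro y hy
    have h1 : ∑ y ∈ 𝔖.Y s \ Y0, (𝔖.cnt s V y - 1) = 0 := by omega
    have := sum_eq_zero_iff.1 h1 y hy
    have := hn1 y (mem_sdiff.1 hy).1
    omega
  rcases (𝔖.Y s \ Y0).eq_empty_or_nonempty with hemp | ⟨y, hy⟩
  · have h1 : c ≤ Y0.card := card_le_card (sdiff_eq_empty_iff_subset.1 hemp)
    rw [hY0c] at h1
    omega
  -- a coset with one point leads to a second two-class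
  have hp2 : 𝔖.p s (sr (y - x0)) = 2 := by
    rw [𝔖.p_sr, hxy, sub_add_cancel, hrest y hy]
    norm_num
  have hl1 : (sr (y - x0) : DihedralGroup m) ≠ 1 := fun e' => by rw [one_def] at e'; cases e'
  have hlII : 𝔖.Two ν (sr (y - x0)) := by
    by_contra hl
    have := 𝔖.six_le hm hR hmO hO h.two hl1 hl (by omega)
    omega
  have h3 : c < 3 * a := by
    have h1 := (𝔖.reached s (sr (y - x0)) (by omega)).1
    have h2 := 𝔖.card_X_lt hm hR hp0 hp02 hp0m' hl1 (hlII.pure hp0 hp02)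
    set al := (𝔖.X (sr (y - x0))).card
    set cl := (𝔖.Y (sr (y - x0))).card
    rw [← ha, ← hc] at h1
    by_contra h4
    push Not at h4
    have h5 : (3 : ℤ) * a ≤ c := by exact_mod_cast h4
    have h6 : (al : ℤ) + 1 ≤ cl := by exact_mod_cast h2
    nlinarith
  set Ps := (Finset.Icc 1 (i - 1)).attach.image (fun k => P k.1 k.2) with hPs
  have hPc : Ps.card = i - 1 := by
    rw [hPs, card_image_of_injective _ ?_, card_attach, Nat.card_Icc]
    · omega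
    intro k l hkl
    by_contra hne
    wlog hlt : k.1 < l.1 generalizing k l
    · exact this hkl.symm (Ne.symm hne) (lt_of_le_of_ne (not_lt.1 hlt) fun e' =>
        hne (Subtype.ext e'.symm))
    have himp : ¬ 𝔖.Pure (P k.1 k.2) (hP k.1 k.2) (r (e l.1 l.2)) := by
      have := hPimp l.1 l.2
      simp only [show P l.1 l.2 = P k.1 k.2 from hkl.symm] at this
      exact this
    have := h.shared_bound hm hR hdvd (hP k.1 k.2) (hP2 k.1 k.2) (hPm k.1 k.2)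
      (Finset.mem_Icc.1 k.2).1 hlt (by have := (Finset.mem_Icc.1 l.2).2; omega)
      (he k.1 k.2) (he l.1 l.2) (hPimp k.1 k.2) himp
    omega
  have hdiv : (∏ p ∈ Ps, p) ∣ M := by
    refine prod_primes_dvd _ (fun p hp => ?_) fun p hp => ?_
    · obtain ⟨k, -, rfl⟩ := mem_image.1 hp
      exact (hP k.1 k.2).prime
    · obtain ⟨k, -, rfl⟩ := mem_image.1 hp
      exact hdvdM k.1 k.2 (hall _ (hmemF k.1 k.2))
  have hge : 3 ^ Ps.card ≤ ∏ p ∈ Ps, p := by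
    refine pow_card_le_prod _ (fun p => p) 3 fun p hp => ?_
    obtain ⟨k, -, rfl⟩ := mem_image.1 hp
    have := (hP k.1 k.2).two_le
    have := hP2 k.1 k.2
    show 3 ≤ P k.1 k.2
    omega
  have h7 := hge.trans (Nat.le_of_dvd (by omega) hdiv)
  rw [hPc] at h7
  have h8 : 2 ^ (i - 1) ≤ 3 ^ (i - 1) := Nat.pow_le_pow_left (by norm_num) _
  omega

end Scheme

end Cfsg.Agent.DihedralBGroup
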