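import Cfsg.Agent.Lib.DihedralBGroup.TwoHigh
import Cfsg.Agent.Lib.DihedralBGroup.Three
import Cfsg.Agent.Lib.DihedralBGroup.TwoArith

/-!
# There are no two-classes when the odd part is nontrivial

* `no_two` : every class has a rotation whose order is not a power of two
-/

set_option autoImplicit false

namespace Cfsg.Agent.DihedralBGroup

open DihedralGroup Finset

variable {m : ℕ} [NeZero m]

namespace Scheme

variable (𝔖 : Scheme m)

theorem high_add (hR : 𝔖.IsRat) {s : DihedralGroup m} {x v : ZMod m} {j : ℕ} (hj : 0 < j)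
    (hx : x ∈ 𝔖.X s) (hxo : addOrderOf x = 2 ^ j) (hv : v ∈ S2 (j - 1)) : x + v ∈ 𝔖.X s :=
  𝔖.mem_X_order hR (hxo.trans (order_add hj hxo hv).symm) hx

theorem high_sub (hR : 𝔖.IsRat) {s : DihedralGroup m} {x v : ZMod m} {j : ℕ} (hj : 0 < j)
    (hx : x ∈ 𝔖.X s) (hxo : addOrderOf x = 2 ^ j) (hv : v ∈ S2 (j - 1)) : v - x ∈ 𝔖.X s := by
  rw [sub_eq_add_neg, add_comm]
  exact 𝔖.high_add hR hj (𝔖.neg_mem_X hx) (by rw [addOrderOf_neg, hxo]) hv

theorem triangle_self {s : DihedralGroup m} (hs : 0 < (𝔖.X s).card) :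
    𝔖.p s s * (2 * (𝔖.X s).card - (𝔖.Y s).card) = 2 * ∑ y ∈ 𝔖.X s, (𝔖.xx s y : ℤ) := by
  have h := 𝔖.triangle s s
  refine mul_left_cancel₀ (show ((𝔖.X s).card : ℤ) + (𝔖.Y s).card ≠ 0 by positivity) ?_
  linear_combination -h

section Low

variable {n : ℕ} (hmn : m = 2 ^ (n + 1) * 3)
include hmn

theorem dvd_pow_two {j : ℕ} (hj : j ≤ n + 1) : 2 ^ j ∣ m :=
  (pow_dvd_pow 2 hj).trans (hmn ▸ dvd_mul_right _ _)

theorem order_two_eq {x : ZMod m} (hx : addOrderOf x = 2) : x = 3 • six m n := by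
  have h1 : x - 3 • six m n ∈ S2 (1 - 1) :=
    sub_mem_of_order (j := 1) (by rw [hx, pow_one]) (by rw [tau_order hmn, pow_one])
  rw [mem_S2, Nat.sub_self, pow_zero, Nat.dvd_one, AddMonoid.addOrderOf_eq_one_iff, sub_eq_zero] at h1
  exact h1

/-- The identity `#Y` of the two-class is odd. -/
theorem odd_card (hm : 2 ≤ m) (hR : 𝔖.IsRat) {s : DihedralGroup m} (hs : s ≠ 1)
    (hs2 : 𝔖.Two (n + 1) s) : Odd ((𝔖.Y s).card : ℤ) := by
  classical
  rw [← Int.not_even_iff_odd, ← 𝔖.sum_ind_sr]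
  refine 𝔖.odd_refl hmn hm hR (𝔖.inS_ind s) (fun x => ?_) ?_ (fun y hy => ?_) ⟨s, ?_⟩
  · unfold Scheme.ind; split_ifs <;> simp
  · exact if_neg fun h => hs (𝔖.eq_one h)
  · rw [𝔖.ind_r] at hy
    exact hs2 y (by_contra fun h => hy (if_neg h))
  · simp [Scheme.ind, 𝔖.rfl' s]

/-- An element of a missing layer is impure at three. -/
theorem missing_step (hm : 2 ≤ m) (hR : 𝔖.IsRat) {s : DihedralGroup m} (hs : s ≠ 1)
    (hs2 : 𝔖.Two (n + 1) s) {v u : ZMod m} (hv : v ∈ S2 (n + 1)) (hv0 : v ≠ 0)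
    (hvX : v ∉ 𝔖.X s) (hu : 3 • u = 0) (hu0 : u ≠ 0) :
    𝔖.p s (r v) = 𝔖.yy s (v + u) := by
  have h3 := Nat.prime_three
  obtain ⟨p, hp, hp2, hpm, hlp⟩ := 𝔖.exists_impure hmn (by decide) (l := r v)
    fun h => hvX (𝔖.mem_X.2 (𝔖.unique_two hmn hm hR hs hs2 (r_ne_one hv0) h))
  have hp3 : p = 3 := by
    rcases hp.dvd_mul.1 (hpm.trans (dvd_of_eq hmn)) with h | h
    · exact absurd ((Nat.prime_dvd_prime_iff_eq hp Nat.prime_two).1 (hp.dvd_of_dvd_pow h)) hp2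
    · exact (Nat.prime_dvd_prime_iff_eq hp h3).1 h
  subst hp3
  have hvQ := mem_Q_of_S2 hp hp2 hv
  rw [𝔖.p_congr s (𝔖.step hR hp hp2 hpm hvQ hu hu0 hlp), 𝔖.p_r,
    𝔖.xx_eq_zero_of_notMem (hs2.pure hp hp2) (add_notMem_Q hp hvQ hu hu0)]
  simp

theorem dvd_high (hR : 𝔖.IsRat) {s : DihedralGroup m} (hs2 : 𝔖.Two (n + 1) s) {j : ℕ}
    (H : Finset (ZMod m)) (hH : ∀ x, x ∈ H ↔ x ∈ 𝔖.X s ∧ ∃ k, j + 1 ≤ k ∧ addOrderOf x = 2 ^ k) :
    2 ^ j ∣ H.card := by
  classical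
  rw [card_eq_sum_card_fiberwise (f := fun x => addOrderOf x) (t := H.image fun x => addOrderOf x)
    fun x hx => mem_image_of_mem _ hx]
  refine dvd_sum fun d hd => ?_
  obtain ⟨x, hx, rfl⟩ := mem_image.1 hd
  obtain ⟨hxX, k, hk, hxo⟩ := (hH x).1 hx
  have hkn : k ≤ n + 1 := by
    have := mem_S2.1 (hs2 x hxX)
    rw [hxo, Nat.pow_dvd_pow_iff_le_right (by norm_num)] at this
    exact this
  have : (H.filter fun y => addOrderOf y = addOrderOf x) =
      univ.filter fun y => addOrderOf y = 2 ^ k := by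
    ext y
    simp only [mem_filter, mem_univ, true_and, hxo]
    exact ⟨fun h => h.2, fun h => ⟨(hH y).2 ⟨𝔖.mem_X_order hR (hxo.trans h.symm) hxX, k, hk, h⟩, h⟩⟩
  rw [this, card_layer (by omega) (dvd_pow_two hmn hkn)]
  exact pow_dvd_pow 2 (by omega)

/-- The two-class does not contain the involution. -/
theorem no_low_one (hm : 2 ≤ m) (hR : 𝔖.IsRat) {s : DihedralGroup m} (hs : s ≠ 1)
    (hs2 : 𝔖.Two (n + 1) s) (hτX : 3 • six m n ∈ 𝔖.X s) (ha : 1 < (𝔖.X s).card)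
    (hc2a : (𝔖.Y s).card < 2 * (𝔖.X s).card)
    (hlam : 𝔖.p s s + 2 ≤ ((𝔖.Y s).card : ℤ)) (hca : (𝔖.X s).card < (𝔖.Y s).card) : False := by
  classical
  set τ : ZMod m := 3 • six m n with hτ
  set a := (𝔖.X s).card with hadef
  set c := (𝔖.Y s).card with hcdef
  -- the lowest missing layer
  have hexj : ∃ j, 2 ≤ j ∧ (j = n + 2 ∨ ∀ x ∈ 𝔖.X s, addOrderOf x ≠ 2 ^ j) :=
    ⟨max 2 (n + 2), le_max_left _ _, Or.inl (max_eq_right (by omega))⟩
  set j := Nat.find hexj with hjdef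
  obtain ⟨hj2, hjmiss⟩ : 2 ≤ j ∧ (j = n + 2 ∨ ∀ x ∈ 𝔖.X s, addOrderOf x ≠ 2 ^ j) :=
    Nat.find_spec hexj
  have hjn : j ≤ n + 2 := Nat.find_min' hexj ⟨by omega, Or.inl rfl⟩
  have hlayer : ∀ k, 0 < k → k < j → ∀ v : ZMod m, addOrderOf v = 2 ^ k → v ∈ 𝔖.X s := by
    intro k hk hkj v hv
    rcases (show k = 1 ∨ 2 ≤ k by omega) with rfl | hk2
    · exact order_two_eq hmn (hv.trans (pow_one 2)) ▸ hτX
    · have hmin := Nat.find_min hexj hkj
      push Not at hmin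
      obtain ⟨x, hx, hxo⟩ := (hmin hk2).2
      exact 𝔖.mem_X_order hR (hxo.trans hv.symm) hx
  set F := univ.filter (fun v : ZMod m => v ∈ S2 (j - 1)) with hF
  set L := F.erase 0 with hL
  have h0F : (0 : ZMod m) ∈ F := by simp [hF, (S2 (j - 1)).zero_mem]
  set σ := 2 ^ (j - 1) with hσ
  have hFc : F.card = σ := card_filter_S2 (dvd_pow_two hmn (by omega))
  have hLX : L ⊆ 𝔖.X s := by
    intro v hv
    rw [hL, mem_erase, hF, mem_filter] at hv
    obtain ⟨k, hk, hko⟩ := exists_order_pow hv.2.2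
    refine hlayer k (Nat.pos_of_ne_zero fun e => hv.1 ?_) (by omega) v hko
    rw [← AddMonoid.addOrderOf_eq_one_iff, hko, e, pow_zero]
  have hLc : L.card = σ - 1 := by rw [hL, card_erase_of_mem h0F, hFc]
  set Hs := 𝔖.X s \ L with hHs
  have hhigh : ∀ x ∈ Hs, ∃ k, j + 1 ≤ k ∧ k ≤ n + 1 ∧ addOrderOf x = 2 ^ k := by
    intro x hx
    rw [hHs, mem_sdiff] at hx
    obtain ⟨k, hk, hko⟩ := exists_order_pow (hs2 x hx.1)
    refine ⟨k, ?_, hk, hko⟩
    by_contra hlt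
    rcases (show k ≤ j - 1 ∨ k = j by omega) with hk' | rfl
    · refine hx.2 ?_
      rw [hL, mem_erase, hF, mem_filter]
      exact ⟨fun e => 𝔖.zero_notMem_X hs (e ▸ hx.1), mem_univ _,
        mem_S2.2 (hko ▸ pow_dvd_pow 2 hk')⟩
    · rcases hjmiss with h | h
      · omega
      · exact h x hx.1 hko
  have haH : a = (σ - 1) + Hs.card := by
    rw [hadef, ← hLc, hHs, add_comm, card_sdiff_add_card_eq_card hLX]
  have hσ2 : 2 ≤ σ := by rw [hσ]; exact Nat.le_self_pow (by omega) 2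
  have hxxL : ∀ v ∈ L, 𝔖.xx s v = a - 1 := by
    intro v hv
    rw [hadef, ← card_erase_of_mem (hLX hv)]
    unfold Scheme.xx
    congr 1
    ext x
    simp only [mem_filter, mem_erase]
    refine ⟨fun h => ⟨fun e => 𝔖.zero_notMem_X hs (by have := h.2; rwa [e, sub_self] at this), h.1⟩,
      fun h => ⟨h.2, ?_⟩⟩
    have hv' : v ∈ S2 (j - 1) := (mem_filter.1 (mem_erase.1 hv).2).2
    by_cases hxL : x ∈ L
    · refine hLX ?_
      rw [hL, mem_erase, hF, mem_filter]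
      exact ⟨sub_ne_zero.2 (Ne.symm h.1), mem_univ _,
        (S2 _).sub_mem hv' (mem_filter.1 (mem_erase.1 hxL).2).2⟩
    · obtain ⟨k, hk, -, hko⟩ := hhigh x (mem_sdiff.2 ⟨h.2, hxL⟩)
      exact 𝔖.high_sub hR (by omega) h.2 hko (S2_mono (by omega) hv')
  have hτL : τ ∈ L := by
    rw [hL, mem_erase, hF, mem_filter]
    exact ⟨six_ne hmn (by norm_num) (by norm_num), mem_univ _,
      mem_S2.2 (by rw [hτ, tau_order hmn]; exact dvd_pow_self 2 (by omega))⟩
  set g : ℤ := 𝔖.p s s - ((a : ℤ) - 1) with hg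
  have hyyL : ∀ v ∈ L, (𝔖.yy s v : ℤ) = g := by
    intro v hv
    have h1 := 𝔖.p_congr s (𝔖.mem_X.1 (hLX hv))
    rw [𝔖.p_r, hxxL v hv] at h1
    rw [hg, h1]
    push_cast [show 1 ≤ a by omega]
    ring
  have hcodd := 𝔖.odd_card hmn hm hR hs hs2
  rw [← hcdef] at hcodd
  rcases Hs.eq_empty_or_nonempty with hemp | hne
  · -- the rotations form a punctured subgroup
    have hXL : 𝔖.X s = L := Subset.antisymm (sdiff_eq_empty_iff_subset.1 hemp) hLX
    have hcnt : ∀ z ∈ 𝔖.Y s, 𝔖.xy s z + 1 = 𝔖.cnt s (S2 (j - 1)) z := by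
      intro z hz
      have hzz : z ∈ (𝔖.Y s).filter fun i => z - i ∈ S2 (j - 1) :=
        mem_filter.2 ⟨hz, by simp [(S2 (j - 1)).zero_mem]⟩
      rw [Scheme.cnt, ← card_erase_add_one hzz]
      congr 1
      refine card_bij' (fun x _ => z + x) (fun y _ => y - z) ?_ ?_ ?_ ?_
      · intro x hx
        rw [mem_filter, hXL, hL, mem_erase, hF, mem_filter] at hx
        rw [mem_erase, mem_filter]
        exact ⟨fun e => hx.1.1 (by simpa using e), hx.2, by simpa using hx.1.2.2⟩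
      · intro y hy
        rw [mem_erase, mem_filter] at hy
        rw [mem_filter, hXL, hL, mem_erase, hF, mem_filter]
        refine ⟨⟨sub_ne_zero.2 hy.1, mem_univ _, ?_⟩, by simpa using hy.2.1⟩
        rw [← neg_sub]
        exact (S2 _).neg_mem hy.2.2
      · intro x _; simp
      · intro y _; simp
    obtain ⟨z0, hz0⟩ := 𝔖.exists_mem_Y hm hs
    set q := 𝔖.cnt s (S2 (j - 1)) z0 with hq
    have hconst : ∀ z ∈ 𝔖.Y s, 𝔖.p s s = 2 * ((𝔖.cnt s (S2 (j - 1)) z : ℤ) - 1) := by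
      intro z hz
      rw [← hcnt z hz, 𝔖.p_congr s (𝔖.mem_Y.1 hz), 𝔖.p_sr]
      push_cast
      ring
    have hsum : (c : ℤ) + ((σ : ℤ) - 1) * g = (c : ℤ) * q := by
      have h1 := congrArg (Nat.cast : ℕ → ℤ) (cosetSum_zero_eq (𝔖 := 𝔖) s (S2 (j - 1)))
      rw [Scheme.cosetSum, ← hF, ← add_sum_erase _ _ h0F, ← hL] at h1
      simp only [add_zero, 𝔖.yy_zero, Nat.cast_add, Nat.cast_sum] at h1
      rw [sum_congr rfl hyyL, sum_congr rfl (s₁ := 𝔖.Y s) (g := fun _ => (q : ℤ)) fun z hz => by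
          have e1 := hconst z hz
          have e2 := hconst z0 hz0
          rw [hq]; linarith,
        sum_const, sum_const, hLc, nsmul_eq_mul, nsmul_eq_mul, ← hcdef] at h1
      push_cast [show 1 ≤ σ by omega] at h1
      linarith
    have hH0 : Hs.card = 0 := card_eq_zero.2 hemp
    have haσ : (a : ℤ) = (σ : ℤ) - 1 := by
      have : a + 1 = σ := by omega
      omega
    have hgq : g = 2 * (q : ℤ) - σ := by
      rw [hg, hconst z0 hz0, haσ, ← hq]; ring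
    have hqσ : q ≤ σ := by
      rw [hq, ← hcnt z0 hz0]
      have := 𝔖.xy_le s z0
      omega
    have hq1 : 1 ≤ q := by rw [hq, ← hcnt z0 hz0]; omega
    have hσ4 : 4 ≤ σ := by
      rw [hσ]
      have h3 : 3 ≤ j := by
        by_contra h
        have : j = 2 := by omega
        rw [hσ, this] at haσ
        norm_num at haσ
        omega
      exact le_trans (by norm_num) (Nat.pow_le_pow_right two_pos (show 2 ≤ j - 1 by omega))
    have hceq := TwoArith.full_one (σ := (σ : ℤ)) (c := (c : ℤ)) (n := (q : ℤ)) (by exact_mod_cast hσ4)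
      (by exact_mod_cast hq1) (by exact_mod_cast hqσ) (by omega) (by rw [← hgq]; linarith)
    rw [hceq, hσ] at hcodd
    push_cast at hcodd
    rw [← Int.not_even_iff_odd] at hcodd
    exact hcodd (Int.even_pow.2 ⟨even_two, by omega⟩)
  -- a missing layer below the top
  obtain ⟨x1, hx1⟩ := hne
  obtain ⟨k1, hk1, hk1n, -⟩ := hhigh x1 hx1
  have hjn' : j ≤ n := by omega
  set V := univ.filter (fun v : ZMod m => v ∈ S2 j) with hV
  set M := V \ F with hM
  have hFV : F ⊆ V := fun v hv => by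
    rw [hV, mem_filter]; exact ⟨mem_univ _, S2_mono (by omega) (mem_filter.1 hv).2⟩
  have hMc : M.card = σ := by
    rw [hM, card_sdiff_of_subset hFV, hFc, card_filter_S2 (dvd_pow_two hmn (by omega)), hσ,
      show 2 ^ j = 2 * 2 ^ (j - 1) by rw [← pow_succ']; congr 1; omega]
    omega
  have hMord : ∀ v ∈ M, addOrderOf v = 2 ^ j := by
    intro v hv
    rw [hM, mem_sdiff, hV, mem_filter] at hv
    obtain ⟨k, hk, hko⟩ := exists_order_pow hv.1.2
    rcases (show k = j ∨ k ≤ j - 1 by omega) with rfl | hk'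
    · exact hko
    · exact absurd (mem_filter.2 ⟨mem_univ _, mem_S2.2 (hko ▸ pow_dvd_pow 2 hk')⟩) hv.2
  have hMX : ∀ v ∈ M, v ∉ 𝔖.X s := fun v hv hvX =>
    hjmiss.elim (fun h => by omega) fun h => h v hvX (hMord v hv)
  set u := 2 • six m n with hudef
  have hu : 3 • u = 0 := by rw [hudef, ← mul_nsmul]; exact six_nsmul hmn
  have hu0 : u ≠ 0 := six_ne hmn (by norm_num) (by norm_num)
  have hdiff : ∀ v ∈ M, (𝔖.yy s (v + u) : ℤ) = 𝔖.yy s v + Hs.card := by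
    intro v hv
    have hv0 : v ≠ 0 := fun e => by
      have := hMord v hv
      rw [e, addOrderOf_zero] at this
      have : 2 ≤ 2 ^ j := Nat.le_self_pow (by omega) 2
      omega
    rw [← 𝔖.missing_step hmn hm hR hs hs2 (S2_mono (by omega) (mem_S2.2 (hMord v hv).dvd)) hv0
      (hMX v hv) hu hu0, 𝔖.p_r]
    have : 𝔖.xx s v = Hs.card := by
      unfold Scheme.xx
      congr 1
      ext x
      simp only [mem_filter, hHs, mem_sdiff]
      refine ⟨fun h => ⟨h.1, fun hxL => hMX (v - x) ?_ h.2⟩, fun h => ⟨h.1, ?_⟩⟩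
      · have hx' : x ∈ S2 (j - 1) := (mem_filter.1 (mem_erase.1 hxL).2).2
        have ho : addOrderOf (v - x) = 2 ^ j := by
          rw [sub_eq_add_neg]; exact order_add (by omega) (hMord v hv) ((S2 _).neg_mem hx')
        rw [hM, mem_sdiff, hV, mem_filter, hF, mem_filter]
        refine ⟨⟨mem_univ _, mem_S2.2 ho.dvd⟩, fun h' => ?_⟩
        have := mem_S2.1 h'.2
        rw [ho, Nat.pow_dvd_pow_iff_le_right (by norm_num)] at this
        omega
      · obtain ⟨k, hk, -, hko⟩ := hhigh x (mem_sdiff.2 h)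
        exact 𝔖.high_sub hR (by omega) h.1 hko (S2_mono (by omega) (mem_S2.2 (hMord v hv).dvd))
    rw [this]
    push_cast
    ring
  have hineq : (σ : ℤ) * Hs.card ≤ (c : ℤ) + ((σ : ℤ) - 1) * g := by
    have h1 := 𝔖.cosetSum_le s (S2 j) u
    unfold Scheme.cosetSum at h1
    rw [← hV] at h1
    have h1' : ((∑ v ∈ V, 𝔖.yy s (v + u) : ℕ) : ℤ) ≤ ((∑ v ∈ V, 𝔖.yy s (v + 0) : ℕ) : ℤ) := by
      exact_mod_cast h1
    rw [← sum_sdiff hFV, ← sum_sdiff hFV, ← hM, ← add_sum_erase _ _ h0F, ← add_sum_erase _ _ h0F,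
      ← hL] at h1'
    push_cast at h1'
    simp only [add_zero, zero_add, 𝔖.yy_zero, ← hcdef] at h1'
    rw [sum_congr rfl hdiff, sum_add_distrib, sum_const, hMc, nsmul_eq_mul,
      sum_congr rfl (s₁ := L) (f := fun v => (𝔖.yy s v : ℤ)) hyyL, sum_const, hLc, nsmul_eq_mul] at h1'
    push_cast [show 1 ≤ σ by omega] at h1'
    have : 0 ≤ ∑ v ∈ L, (𝔖.yy s (v + u) : ℤ) := sum_nonneg fun v _ => Int.natCast_nonneg _
    have : (0 : ℤ) ≤ 𝔖.yy s u := Int.natCast_nonneg _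
    linarith
  have hdvd : 2 * σ ∣ Hs.card := by
    rw [hσ, ← pow_succ', show j - 1 + 1 = j by omega]
    refine 𝔖.dvd_high hmn hR hs2 Hs fun x => ⟨fun hx => ?_, fun ⟨hxX, k, hk, hko⟩ => ?_⟩
    · obtain ⟨k, hk, -, hko⟩ := hhigh x hx
      exact ⟨(mem_sdiff.1 hx).1, k, hk, hko⟩
    · refine mem_sdiff.2 ⟨hxX, fun h => ?_⟩
      have := mem_S2.1 (mem_filter.1 (mem_erase.1 h).2).2
      rw [hko, Nat.pow_dvd_pow_iff_le_right (by norm_num)] at this
      omega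
  have hT : 2 * ((σ : ℤ) - 1) * ((σ : ℤ) - 2 + Hs.card) + 4 * ((σ : ℤ) - 1) * Hs.card ≤
      𝔖.p s s * (2 * (a : ℤ) - c) := by
    rw [hadef, hcdef, 𝔖.triangle_self (by omega), ← sum_sdiff hLX, ← hHs,
      sum_congr rfl (s₁ := L) (g := fun _ => ((σ : ℤ) - 2 + Hs.card)) fun v hv => by
        rw [hxxL v hv]; push_cast [show 1 ≤ a by omega]; omega,
      sum_const, hLc, nsmul_eq_mul]
    have hge : ∀ y ∈ Hs, (2 * ((σ : ℤ) - 1)) ≤ 𝔖.xx s y := by
      intro y hy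
      obtain ⟨k, hk, -, hko⟩ := hhigh y hy
      have hyX := (mem_sdiff.1 hy).1
      have hsub : L ∪ L.map (Equiv.subLeft y).toEmbedding ⊆
          (𝔖.X s).filter fun x => y - x ∈ 𝔖.X s := by
        intro x hx
        rw [mem_union, mem_map] at hx
        rcases hx with hx | ⟨x', hx', rfl⟩
        · refine mem_filter.2 ⟨hLX hx, ?_⟩
          rw [sub_eq_add_neg]
          exact 𝔖.high_add hR (by omega) hyX hko
            ((S2 _).neg_mem (S2_mono (by omega) (mem_filter.1 (mem_erase.1 hx).2).2))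
        · show y - x' ∈ _
          refine mem_filter.2 ⟨?_, by rw [sub_sub_cancel]; exact hLX hx'⟩
          rw [sub_eq_add_neg]
          exact 𝔖.high_add hR (by omega) hyX hko
            ((S2 _).neg_mem (S2_mono (by omega) (mem_filter.1 (mem_erase.1 hx').2).2))
      have hdis : Disjoint L (L.map (Equiv.subLeft y).toEmbedding) := by
        rw [disjoint_left]
        intro x hx hx'
        obtain ⟨x', hx'', rfl⟩ := mem_map.1 hx'
        have h1 : y ∈ S2 (j - 1) := by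
          have := (S2 (j - 1)).add_mem (mem_filter.1 (mem_erase.1 hx).2).2
            (mem_filter.1 (mem_erase.1 hx'').2).2
          simpa using this
        rw [mem_S2, hko, Nat.pow_dvd_pow_iff_le_right (by norm_num)] at h1
        omega
      have h2 := card_le_card hsub
      rw [card_union_of_disjoint hdis, card_map, hLc] at h2
      have h3 : ((σ - 1 + (σ - 1) : ℕ) : ℤ) ≤ (𝔖.xx s y : ℤ) := by exact_mod_cast h2
      push_cast [show 1 ≤ σ by omega] at h3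
      linarith
    have := sum_le_sum hge
    rw [sum_const, nsmul_eq_mul] at this
    push_cast [show 1 ≤ σ by omega]
    nlinarith
  have hlamev : Even (𝔖.p s s) := even_iff_two_dvd.2 (𝔖.two_dvd_p hm s hs)
  have haodd : Odd (a : ℤ) := by
    obtain ⟨k, hk⟩ := hdvd
    have : Odd a := by
      rw [haH, hk]
      refine Odd.add_even ?_ ((even_two_mul σ).mul_right k)
      rw [hσ]
      exact Nat.Even.sub_odd Nat.one_le_two_pow (Nat.even_pow.2 ⟨even_two, by omega⟩) odd_one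
    exact_mod_cast this
  set D : ℤ := (c : ℤ) - a - 1 with hD
  set b : ℤ := (𝔖.yy s (2 • six m n) : ℤ) - 𝔖.yy s (5 • six m n) with hb
  obtain ⟨q0, q1, hdic, hb6⟩ := 𝔖.dichotomy hmn hm hR hs hs2
  rw [← hb] at q0 q1 hdic hb6
  rw [← hadef, ← hcdef, ← hτ, 𝔖.ind_r, if_pos hτX, hyyL τ hτL,
    show ((a : ℤ) - c + 1) * ((a : ℤ) - c + 1) = D * D by rw [hD]; ring] at hdic
  rw [← hcdef, ← hτ, hyyL τ hτL] at q0 q1
  have hgev : Even g := by rw [hg]; exact hlamev.sub (haodd.sub_odd odd_one)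
  have hDodd : Odd D := by
    rw [hD]
    exact (hcodd.sub_odd haodd).sub_odd odd_one
  have hbev : Even b := even_iff_two_dvd.2 (dvd_trans (by norm_num) hb6)
  have hsq := TwoArith.square_bound (hcodd.sub_even hgev) hbev q0 q1 hDodd hdic
  have hg0 : 0 ≤ g := by rw [← hyyL τ hτL]; exact Int.natCast_nonneg _
  have haZ : (a : ℤ) = (σ : ℤ) - 1 + Hs.card := by
    rw [haH]; push_cast [show 1 ≤ σ by omega]; ring
  have hcZ : (c : ℤ) = (σ : ℤ) + Hs.card + D := by rw [hD, haZ]; ring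
  refine TwoArith.no_gap_one (σ := (σ : ℤ)) (H := (Hs.card : ℤ)) (g := g) (D := D) (b := b) ?_
    (Int.natCast_pos.2 (card_pos.2 ⟨x1, hx1⟩)) (by exact_mod_cast hdvd) hg0 ?_ hgev hDodd ?_ ?_ ?_ ?_ hb6
  · rw [hσ]
    rcases (show j = 2 ∨ j = 3 ∨ 4 ≤ j by omega) with h | h | h
    · left; rw [h]; norm_num
    · right; left; rw [h]; norm_num
    · right; right
      exact_mod_cast le_trans (by norm_num) (Nat.pow_le_pow_right two_pos (show 3 ≤ j - 1 by omega))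
  · rw [hg, hD]; linarith
  · rw [← hcZ]; exact hineq
  · have e1 : (σ : ℤ) - 2 + Hs.card + g = 𝔖.p s s := by rw [hg, haZ]; ring
    have e2 : (σ : ℤ) - 2 + Hs.card - D = 2 * (a : ℤ) - c := by rw [hcZ, haZ]; ring
    rw [e1, e2]; exact hT
  · rw [← hcZ]; exact hsq
  · rw [← hcZ]; exact hdic

/-- The two-class does not start at the second layer. -/
theorem no_low_two (hm : 2 ≤ m) (hR : 𝔖.IsRat) {s : DihedralGroup m} (hs : s ≠ 1)
    (hs2 : 𝔖.Two (n + 1) s) (hτX : 3 • six m n ∉ 𝔖.X s) (h2 : ∃ x ∈ 𝔖.X s, addOrderOf x = 2 ^ 2)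
    (ha : 2 < (𝔖.X s).card) (hc2a : (𝔖.Y s).card < 2 * (𝔖.X s).card)
    (hlam : 𝔖.p s s + 2 ≤ ((𝔖.Y s).card : ℤ)) (hca : (𝔖.X s).card < (𝔖.Y s).card) : False := by
  classical
  set τ : ZMod m := 3 • six m n with hτ
  set a := (𝔖.X s).card with hadef
  set c := (𝔖.Y s).card with hcdef
  obtain ⟨x2, hx2, hx2o⟩ := h2
  have hn1 : 1 ≤ n := by
    have := mem_S2.1 (hs2 x2 hx2)
    rw [hx2o, Nat.pow_dvd_pow_iff_le_right (by norm_num)] at this
    omega
  have hexj : ∃ j, 3 ≤ j ∧ (j = n + 2 ∨ ∀ x ∈ 𝔖.X s, addOrderOf x ≠ 2 ^ j) :=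
    ⟨n + 2, by omega, Or.inl rfl⟩
  set j := Nat.find hexj with hjdef
  obtain ⟨hj3, hjmiss⟩ : 3 ≤ j ∧ (j = n + 2 ∨ ∀ x ∈ 𝔖.X s, addOrderOf x ≠ 2 ^ j) :=
    Nat.find_spec hexj
  have hjn : j ≤ n + 2 := Nat.find_min' hexj ⟨by omega, Or.inl rfl⟩
  have hτo : addOrderOf τ = 2 := tau_order hmn
  have hτ0 : τ ≠ 0 := six_ne hmn (by norm_num) (by norm_num)
  have hlayer : ∀ k, 2 ≤ k → k < j → ∀ v : ZMod m, addOrderOf v = 2 ^ k → v ∈ 𝔖.X s := by
    intro k hk hkj v hv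
    rcases (show k = 2 ∨ 3 ≤ k by omega) with rfl | hk2
    · exact 𝔖.mem_X_order hR (hx2o.trans hv.symm) hx2
    · have hmin := Nat.find_min hexj hkj
      push Not at hmin
      obtain ⟨x, hx, hxo⟩ := (hmin hk2).2
      exact 𝔖.mem_X_order hR (hxo.trans hv.symm) hx
  set F := univ.filter (fun v : ZMod m => v ∈ S2 (j - 1)) with hF
  have h0F : (0 : ZMod m) ∈ F := by simp [hF, (S2 (j - 1)).zero_mem]
  have hτS : τ ∈ S2 1 := mem_S2.2 (by rw [hτo, pow_one])
  have hτF : τ ∈ F.erase 0 := mem_erase.2 ⟨hτ0, mem_filter.2 ⟨mem_univ _, S2_mono (by omega) hτS⟩⟩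
  set L := (F.erase 0).erase τ with hL
  set σ := 2 ^ (j - 1) with hσ
  have hFc : F.card = σ := card_filter_S2 (dvd_pow_two hmn (by omega))
  have hLmem : ∀ v, v ∈ L ↔ v ≠ τ ∧ v ≠ 0 ∧ v ∈ S2 (j - 1) := fun v => by simp [hL, hF]
  have hLX : L ⊆ 𝔖.X s := by
    intro v hv
    obtain ⟨hvτ, hv0, hvS⟩ := (hLmem v).1 hv
    obtain ⟨k, hk, hko⟩ := exists_order_pow hvS
    refine hlayer k ?_ (by omega) v hko
    by_contra hk2
    rcases (show k = 0 ∨ k = 1 by omega) with rfl | rfl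
    · exact hv0 (by rw [← AddMonoid.addOrderOf_eq_one_iff, hko, pow_zero])
    · exact hvτ (order_two_eq hmn (hko.trans (pow_one 2)))
  have hσ4 : 4 ≤ σ := by
    rw [hσ]; exact le_trans (by norm_num) (Nat.pow_le_pow_right two_pos (show 2 ≤ j - 1 by omega))
  have hLc : L.card = σ - 2 := by
    rw [hL, card_erase_of_mem hτF, card_erase_of_mem h0F, hFc]
    omega
  set Hs := 𝔖.X s \ L with hHs
  have hhigh : ∀ x ∈ Hs, ∃ k, j + 1 ≤ k ∧ k ≤ n + 1 ∧ addOrderOf x = 2 ^ k := by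
    intro x hx
    rw [hHs, mem_sdiff] at hx
    obtain ⟨k, hk, hko⟩ := exists_order_pow (hs2 x hx.1)
    refine ⟨k, ?_, hk, hko⟩
    by_contra hlt
    rcases (show k ≤ j - 1 ∨ k = j by omega) with hk' | rfl
    · exact hx.2 ((hLmem x).2 ⟨fun e => hτX (e ▸ hx.1), fun e => 𝔖.zero_notMem_X hs (e ▸ hx.1),
        mem_S2.2 (hko ▸ pow_dvd_pow 2 hk')⟩)
    · rcases hjmiss with h | h
      · omega
      · exact h x hx.1 hko
  have haH : a = (σ - 2) + Hs.card := by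
    rw [hadef, ← hLc, hHs, add_comm, card_sdiff_add_card_eq_card hLX]
  have hper : ∀ x ∈ 𝔖.X s, x + τ ∈ 𝔖.X s ∧ τ - x ∈ 𝔖.X s := by
    intro x hx
    obtain ⟨k, hk, hko⟩ := exists_order_pow (hs2 x hx)
    have hk2 : 2 ≤ k := by
      by_contra hlt
      rcases (show k = 0 ∨ k = 1 by omega) with rfl | rfl
      · exact 𝔖.zero_notMem_X hs (by
          rw [pow_zero, AddMonoid.addOrderOf_eq_one_iff] at hko; exact hko ▸ hx)
      · refine hτX ?_
        rw [hτ, ← order_two_eq hmn (hko.trans (pow_one 2))]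
        exact hx
    exact ⟨𝔖.high_add hR (by omega) hx hko (S2_mono (by omega) hτS),
      𝔖.high_sub hR (by omega) hx hko (S2_mono (by omega) hτS)⟩
  have hxxτ : 𝔖.xx s τ = a := by
    rw [Scheme.xx, filter_true_of_mem fun x hx => (hper x hx).2]
  have hxxL : ∀ v ∈ L, 𝔖.xx s v = a - 2 := by
    intro v hv
    have hvX := hLX hv
    obtain ⟨hvτ, hv0, hvS⟩ := (hLmem v).1 hv
    have hsub : ({v, v + τ} : Finset (ZMod m)) ⊆ 𝔖.X s := by
      intro x hx
      rw [mem_insert, mem_singleton] at hx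
      rcases hx with rfl | rfl
      exacts [hvX, (hper _ hvX).1]
    have hc2 : ({v, v + τ} : Finset (ZMod m)).card = 2 := card_pair (by simpa using hτ0)
    rw [hadef, ← hc2, ← card_sdiff_of_subset hsub]
    unfold Scheme.xx
    congr 1
    ext x
    simp only [mem_filter, mem_sdiff, mem_insert, mem_singleton, not_or]
    refine ⟨fun h => ⟨h.1, fun e => 𝔖.zero_notMem_X hs (by have := h.2; rwa [e, sub_self] at this),
      fun e => hτX ?_⟩, fun h => ⟨h.1, ?_⟩⟩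
    · have := 𝔖.neg_mem_X h.2
      rwa [e, sub_add_cancel_left, neg_neg] at this
    · by_cases hxL : x ∈ L
      · refine hLX ((hLmem _).2 ⟨fun e => h.2.2 ?_, sub_ne_zero.2 (Ne.symm h.2.1),
          (S2 _).sub_mem hvS ((hLmem x).1 hxL).2.2⟩)
        have hn : -τ = τ := neg_eq_of_add_eq_zero_left (two_tau hmn)
        rw [← hn, ← e]
        ring
      · obtain ⟨k, hk, -, hko⟩ := hhigh x (mem_sdiff.2 ⟨h.1, hxL⟩)
        exact 𝔖.high_sub hR (by omega) h.1 hko (S2_mono (by omega) hvS)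
  set g : ℤ := 𝔖.p s s - ((a : ℤ) - 2) with hg
  have hyyL : ∀ v ∈ L, (𝔖.yy s v : ℤ) = g := by
    intro v hv
    have h1 := 𝔖.p_congr s (𝔖.mem_X.1 (hLX hv))
    rw [𝔖.p_r, hxxL v hv] at h1
    rw [hg, h1]
    push_cast [show 2 ≤ a by omega]
    ring
  rcases Hs.eq_empty_or_nonempty with hemp | hne
  · have hXL : 𝔖.X s = L := Subset.antisymm (sdiff_eq_empty_iff_subset.1 hemp) hLX
    refine TwoArith.full_two (a := (a : ℤ)) (c := (c : ℤ)) (l := 𝔖.p s s) (by omega) (by omega) (by omega)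
      hlam (𝔖.p_nonneg s s) (even_iff_two_dvd.2 (𝔖.two_dvd_p hm s hs)) ?_
    rw [hadef, hcdef, 𝔖.triangle_self (by omega), ← hadef,
      sum_congr rfl (g := fun _ => ((a : ℤ) - 2)) fun v hv => by
        rw [hxxL v (hXL ▸ hv)]; push_cast [show 2 ≤ a by omega]; ring,
      sum_const, ← hadef, nsmul_eq_mul]
    ring
  obtain ⟨x1, hx1⟩ := hne
  obtain ⟨k1, hk1, hk1n, -⟩ := hhigh x1 hx1
  have hjn' : j ≤ n := by omega
  set V := univ.filter (fun v : ZMod m => v ∈ S2 j) with hV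
  set M := V \ F with hM
  have hFV : F ⊆ V := fun v hv => by
    rw [hV, mem_filter]; exact ⟨mem_univ _, S2_mono (by omega) (mem_filter.1 hv).2⟩
  have hMc : M.card = σ := by
    rw [hM, card_sdiff_of_subset hFV, hFc, card_filter_S2 (dvd_pow_two hmn (by omega)), hσ,
      show 2 ^ j = 2 * 2 ^ (j - 1) by rw [← pow_succ']; congr 1; omega]
    omega
  have hMord : ∀ v ∈ M, addOrderOf v = 2 ^ j := by
    intro v hv
    rw [hM, mem_sdiff, hV, mem_filter] at hv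
    obtain ⟨k, hk, hko⟩ := exists_order_pow hv.1.2
    rcases (show k = j ∨ k ≤ j - 1 by omega) with rfl | hk'
    · exact hko
    · exact absurd (mem_filter.2 ⟨mem_univ _, mem_S2.2 (hko ▸ pow_dvd_pow 2 hk')⟩) hv.2
  have hMX : ∀ v ∈ M, v ∉ 𝔖.X s := fun v hv hvX =>
    hjmiss.elim (fun h => by omega) fun h => h v hvX (hMord v hv)
  set u := 2 • six m n with hudef
  have hu : 3 • u = 0 := by rw [hudef, ← mul_nsmul]; exact six_nsmul hmn
  have hu0 : u ≠ 0 := six_ne hmn (by norm_num) (by norm_num)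
  have hdiff : ∀ v ∈ M, (𝔖.yy s (v + u) : ℤ) = 𝔖.yy s v + Hs.card := by
    intro v hv
    have hv0 : v ≠ 0 := fun e => by
      have := hMord v hv
      rw [e, addOrderOf_zero] at this
      have : 2 ≤ 2 ^ j := Nat.le_self_pow (by omega) 2
      omega
    rw [← 𝔖.missing_step hmn hm hR hs hs2 (S2_mono (by omega) (mem_S2.2 (hMord v hv).dvd)) hv0
      (hMX v hv) hu hu0, 𝔖.p_r]
    have : 𝔖.xx s v = Hs.card := by
      unfold Scheme.xx
      congr 1
      ext x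
      simp only [mem_filter, hHs, mem_sdiff]
      refine ⟨fun h => ⟨h.1, fun hxL => hMX (v - x) ?_ h.2⟩, fun h => ⟨h.1, ?_⟩⟩
      · have hx' : x ∈ S2 (j - 1) := ((hLmem x).1 hxL).2.2
        have ho : addOrderOf (v - x) = 2 ^ j := by
          rw [sub_eq_add_neg]; exact order_add (by omega) (hMord v hv) ((S2 _).neg_mem hx')
        rw [hM, mem_sdiff, hV, mem_filter, hF, mem_filter]
        refine ⟨⟨mem_univ _, mem_S2.2 ho.dvd⟩, fun h' => ?_⟩
        have := mem_S2.1 h'.2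
        rw [ho, Nat.pow_dvd_pow_iff_le_right (by norm_num)] at this
        omega
      · obtain ⟨k, hk, -, hko⟩ := hhigh x (mem_sdiff.2 h)
        exact 𝔖.high_sub hR (by omega) h.1 hko (S2_mono (by omega) (mem_S2.2 (hMord v hv).dvd))
    rw [this]
    push_cast
    ring
  have hτu : (𝔖.yy s (τ + u) : ℤ) = a + 𝔖.yy s τ := by
    rw [← 𝔖.missing_step hmn hm hR hs hs2 (S2_mono (by omega) hτS) hτ0 hτX hu hu0, 𝔖.p_r, hxxτ]
  have hineq : (σ : ℤ) * Hs.card + a ≤ (c : ℤ) + ((σ : ℤ) - 2) * g := by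
    have h1 := 𝔖.cosetSum_le s (S2 j) u
    unfold Scheme.cosetSum at h1
    rw [← hV] at h1
    have h1' : ((∑ v ∈ V, 𝔖.yy s (v + u) : ℕ) : ℤ) ≤ ((∑ v ∈ V, 𝔖.yy s (v + 0) : ℕ) : ℤ) := by
      exact_mod_cast h1
    rw [← sum_sdiff hFV, ← sum_sdiff hFV, ← hM, ← add_sum_erase _ _ h0F, ← add_sum_erase _ _ h0F,
      ← add_sum_erase _ _ hτF, ← add_sum_erase _ _ hτF, ← hL] at h1'
    push_cast at h1'
    simp only [add_zero, zero_add, 𝔖.yy_zero, ← hcdef] at h1'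
    rw [sum_congr rfl hdiff, sum_add_distrib, sum_const, hMc, nsmul_eq_mul, hτu,
      sum_congr rfl (s₁ := L) (f := fun v => (𝔖.yy s v : ℤ)) hyyL, sum_const, hLc, nsmul_eq_mul] at h1'
    push_cast [show 2 ≤ σ by omega] at h1'
    have : 0 ≤ ∑ v ∈ L, (𝔖.yy s (v + u) : ℤ) := sum_nonneg fun v _ => Int.natCast_nonneg _
    have : (0 : ℤ) ≤ 𝔖.yy s u := Int.natCast_nonneg _
    linarith
  have hdvd : 2 * σ ∣ Hs.card := by
    rw [hσ, ← pow_succ', show j - 1 + 1 = j by omega]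
    refine 𝔖.dvd_high hmn hR hs2 Hs fun x => ⟨fun hx => ?_, fun ⟨hxX, k, hk, hko⟩ => ?_⟩
    · obtain ⟨k, hk, -, hko⟩ := hhigh x hx
      exact ⟨(mem_sdiff.1 hx).1, k, hk, hko⟩
    · refine mem_sdiff.2 ⟨hxX, fun h => ?_⟩
      have := mem_S2.1 ((hLmem x).1 h).2.2
      rw [hko, Nat.pow_dvd_pow_iff_le_right (by norm_num)] at this
      omega
  have hH2 : 2 * σ ≤ Hs.card := Nat.le_of_dvd (card_pos.2 ⟨x1, hx1⟩) hdvd
  obtain ⟨q0, q1, hdic, -⟩ := 𝔖.dichotomy hmn hm hR hs hs2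
  set D : ℤ := (c : ℤ) - a with hD
  set b : ℤ := (𝔖.yy s (2 • six m n) : ℤ) - 𝔖.yy s (5 • six m n) with hb
  rw [← hadef, ← hcdef, ← hτ, 𝔖.ind_r, if_neg hτX, add_zero,
    show ((a : ℤ) - c) * ((a : ℤ) - c) = D * D by rw [hD]; ring] at hdic
  rw [← hcdef, ← hτ] at q0 q1
  have haZ : (a : ℤ) = (σ : ℤ) - 2 + Hs.card := by
    rw [haH]; push_cast [show 2 ≤ σ by omega]; ring
  refine TwoArith.no_gap_two (σ := (σ : ℤ)) (H := (Hs.card : ℤ)) (g := g) (D := D)
    (e := (c : ℤ) - 𝔖.yy s τ) (b := b) (by exact_mod_cast hσ4) (by exact_mod_cast hH2) ?_ ?_ ?_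
    q0 q1 hdic
  · rw [hg, hD]; linarith
  · rw [hD]; linarith
  · rw [hD, haZ]
    linarith [Int.natCast_nonneg (𝔖.yy s τ)]

end Low

/-- With a nontrivial odd part every class has a rotation outside the two-part. -/
theorem no_two (hm : 2 ≤ m) (hR : 𝔖.IsRat) {ν O : ℕ} (hmO : m = 2 ^ ν * O) (hO : Odd O)
    (hO1 : 1 < O) {s : DihedralGroup m} (hs : s ≠ 1) : ¬ 𝔖.Two ν s := by
  classical
  intro hs2
  obtain ⟨q, hq, hqO⟩ := Nat.exists_prime_and_dvd (show O ≠ 1 by omega)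
  have hq2 : q ≠ 2 := fun e => Nat.not_even_iff_odd.2 hO (even_iff_two_dvd.2 (e ▸ hqO))
  have hqm : q ∣ m := hqO.trans (hmO ▸ dvd_mul_left _ _)
  obtain ⟨u, hu, hu0⟩ := exists_prime_elt hq hqm
  have hdvd : 2 ^ ν ∣ m := hmO ▸ dvd_mul_right _ _
  have hKt : (S2 ν : AddSubgroup (ZMod m)) ≠ ⊤ := by
    intro h
    have : u ∈ S2 ν := h ▸ AddSubgroup.mem_top u
    have h2 := mem_Q_of_S2 hq hq2 this
    exact h2 (addOrderOf_of_prime hq hu hu0).symm.dvd
  -- the lowest layer carrying a two-class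
  have hex : ∃ i, 1 ≤ i ∧ i ≤ ν ∧ ∃ x : ZMod m, addOrderOf x = 2 ^ i ∧ 𝔖.Two ν (r x) := by
    obtain ⟨x, hx⟩ := 𝔖.exists_mem_X hm hs
    obtain ⟨i, hi, hio⟩ := exists_order_pow (hs2 x hx)
    refine ⟨i, Nat.pos_of_ne_zero fun e => 𝔖.zero_notMem_X hs ?_, hi, x, hio,
      (𝔖.two_congr (𝔖.mem_X.1 hx)).1 hs2⟩
    rw [e, pow_zero, AddMonoid.addOrderOf_eq_one_iff] at hio
    exact hio ▸ hx
  set i := Nat.find hex with hi
  obtain ⟨hi1, hiν, x0, hx0, hx0two⟩ := Nat.find_spec hex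
  rw [← hi] at hi1 hiν hx0
  set B : DihedralGroup m := r x0 with hB
  have hB1 : B ≠ 1 := r_ne_one fun e => by
    rw [e, addOrderOf_zero] at hx0
    have : 2 ≤ 2 ^ i := Nat.le_self_pow (by omega) 2
    omega
  have hlow : 𝔖.Lowest ν i B := by
    refine ⟨hB1, hx0two, hiν, ⟨x0, 𝔖.self_mem_X x0, hx0⟩, fun y hy hy0 hytwo => ?_⟩
    obtain ⟨k, hk, hko⟩ := exists_order_pow hy
    refine Nat.find_min hex (show k < i by omega) ⟨Nat.pos_of_ne_zero fun e => hy0 ?_, by omega,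
      y, hko, hytwo⟩
    rw [← AddMonoid.addOrderOf_eq_one_iff, hko, e, pow_zero]
  rcases (show 3 ≤ i ∨ i = 1 ∨ i = 2 by omega) with hi3 | hi12
  · exact hlow.no_high hm hR hmO hO hO1 hi3
  set a := (𝔖.X B).card with ha
  set c := (𝔖.Y B).card with hc
  have hca : a < c := 𝔖.card_X_lt hm hR hq hq2 hqm hB1 (hx0two.pure hq hq2)
  have hx0X : x0 ∈ 𝔖.X B := 𝔖.self_mem_X x0
  -- lower bound for the own structure constant
  have hlam : ((a : ℤ) ≤ 𝔖.p B B + 2) ∧ ∃ y ∈ 𝔖.X B, 0 < 𝔖.xx B y := by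
    rcases hi12 with h | h <;> rw [h] at hlow hx0
    · -- the involution lies in the class
      have h1 : a - 1 ≤ 𝔖.xx B x0 := by
        rw [ha, ← card_erase_of_mem hx0X]
        refine card_le_card fun x hx => ?_
        rw [mem_erase] at hx
        obtain ⟨k, hk, -, hko⟩ := hlow.high hx.2
        have hk2 : 2 ≤ k := by
          by_contra hlt
          obtain rfl : k = 1 := by omega
          have := sub_mem_of_order hko hx0
          rw [mem_S2, Nat.sub_self, pow_zero, Nat.dvd_one, AddMonoid.addOrderOf_eq_one_iff,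
            sub_eq_zero] at this
          exact hx.1 this
        exact mem_filter.2 ⟨hx.2, 𝔖.high_sub hR (by omega) hx.2 hko
          (mem_S2.2 (hx0 ▸ pow_dvd_pow 2 (by omega)))⟩
      by_cases ha1 : a = 1
      · exfalso
        obtain ⟨w, hw⟩ := card_eq_one.1 (ha ▸ ha1)
        obtain ⟨j0, hj0⟩ := 𝔖.exists_mem_Y hm hB1
        refine 𝔖.not_in_coset hB1 hKt hx0two (j := j0) fun y hy => ?_
        by_contra hyK
        have hne : y - j0 ≠ 0 := fun e => hyK (e ▸ zero_mem _)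
        have hnt : ¬ 𝔖.Two ν (r (y - j0)) := fun h' => hyK (h' _ (𝔖.self_mem_X _))
        have hp0 : 0 < 𝔖.p B (r (y - j0)) := by
          rw [𝔖.p_r]
          have : 0 < 𝔖.yy B (y - j0) := card_pos.2 ⟨j0, mem_filter.2 ⟨hj0, by
            rw [add_sub_cancel]; exact hy⟩⟩
          omega
        have h6 := 𝔖.six_le hm hR hmO hO hx0two (r_ne_one hne) hnt hp0
        have h7 := 𝔖.p_le hm B (r_ne_one hne)
        rw [← ha, ha1] at h7
        omega
      have hpos : 0 < a := card_pos.2 ⟨x0, hx0X⟩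
      refine ⟨?_, x0, hx0X, by omega⟩
      rw [𝔖.p_congr B (𝔖.mem_X.1 hx0X), 𝔖.p_r]
      omega
    · -- the class starts at order four
      have hd2 : 2 ^ 2 ∣ m := (pow_dvd_pow 2 (by omega)).trans hdvd
      set L2 := univ.filter (fun v : ZMod m => addOrderOf v = 2 ^ 2) with hL2
      have hL2X : L2 ⊆ 𝔖.X B := fun v hv =>
        𝔖.mem_X_order hR (hx0.trans (mem_filter.1 hv).2.symm) hx0X
      have hL2c : L2.card = 2 := card_layer two_pos hd2
      have h1 : a - 2 ≤ 𝔖.xx B x0 := by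
        rw [ha, ← hL2c, ← card_sdiff_of_subset hL2X]
        refine card_le_card fun x hx => ?_
        rw [mem_sdiff] at hx
        obtain ⟨k, hk, -, hko⟩ := hlow.high hx.1
        have hk3 : 3 ≤ k := by
          by_contra hlt
          obtain rfl : k = 2 := by omega
          exact hx.2 (mem_filter.2 ⟨mem_univ _, hko⟩)
        exact mem_filter.2 ⟨hx.1, 𝔖.high_sub hR (by omega) hx.1 hko
          (mem_S2.2 (hx0 ▸ pow_dvd_pow 2 (by omega)))⟩
      have ha2 : 2 ≤ a := hL2c ▸ card_le_card hL2X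
      by_cases ha2' : a = 2
      · exfalso
        obtain ⟨t, ht⟩ := exists_order (m := m) ((pow_dvd_pow 2 (show 1 ≤ ν by omega)).trans hdvd :
          2 ^ 1 ∣ m)
        have ht0 : t ≠ 0 := fun e => by rw [e, addOrderOf_zero] at ht; norm_num at ht
        have htS : t ∈ S2 (2 - 1) := mem_S2.2 (ht.dvd)
        have hnt : ¬ 𝔖.Two ν (r t) := hlow.low t htS ht0
        have hp : (2 : ℤ) ≤ 𝔖.p B (r t) := by
          rw [𝔖.p_r, hlow.xx_low hR two_pos htS, ← ha, ha2']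
          omega
        have h6 := 𝔖.six_le hm hR hmO hO hx0two (r_ne_one ht0) hnt (by omega)
        have h7 := 𝔖.p_le hm B (r_ne_one ht0)
        rw [← ha, ha2'] at h7
        omega
      refine ⟨?_, x0, hx0X, by omega⟩
      rw [𝔖.p_congr B (𝔖.mem_X.1 hx0X), 𝔖.p_r]
      omega
  obtain ⟨hlam, y0, hy0, hy0pos⟩ := hlam
  have hpB : 0 < 𝔖.p B B := by
    rw [𝔖.p_congr B (𝔖.mem_X.1 hy0), 𝔖.p_r]
    omega
  have ha0 : 0 < a := card_pos.2 ⟨x0, hx0X⟩
  have hc2a : c < 2 * a := by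
    have h1 := (𝔖.reached B B hpB).2 ⟨y0, hy0, hy0pos⟩ ha0
    rw [← ha, ← hc] at h1
    by_contra h2
    push Not at h2
    have h2' : (2 * a : ℤ) ≤ c := by exact_mod_cast h2
    have : 0 ≤ ((c : ℤ) - 2 * a) * ((c : ℤ) + a) := mul_nonneg (by linarith) (by positivity)
    linarith
  have hidx : (S2 ν : AddSubgroup (ZMod m)).index = O := by
    have h1 := (S2 ν : AddSubgroup (ZMod m)).card_mul_index
    rw [card_S2 hdvd, Nat.card_zmod] at h1
    exact Nat.eq_of_mul_eq_mul_left (Nat.two_pow_pos ν) (h1.trans hmO)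
  rcases 𝔖.few_cosets hm hR hB1 hKt (hidx.symm ▸ hO) hx0two hc2a hlam with h3 | ⟨-, n, hn, h0, h1⟩
  swap
  · exact 𝔖.no_seven hm hR hKt hn h0 h1
  rw [hidx] at h3
  subst h3
  obtain ⟨n, rfl⟩ : ∃ n, ν = n + 1 := ⟨ν - 1, by omega⟩
  have htwoc := 𝔖.two_cosets hm hB1 hKt hx0two
  rcases hi12 with h | h <;> rw [h] at hlow hx0
  · have hτ := order_two_eq (n := n) hmO (hx0.trans (pow_one 2))
    refine 𝔖.no_low_one hmO hm hR hB1 hx0two (hτ ▸ hx0X) ?_ hc2a htwoc hca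
    by_contra hle
    have : 𝔖.X B = {x0} := eq_singleton_iff_unique_mem.2
      ⟨hx0X, fun y hy => Finset.card_le_one.1 (by omega) y hy x0 hx0X⟩
    rw [this, mem_singleton] at hy0
    subst hy0
    obtain ⟨x, hx⟩ := card_pos.1 hy0pos
    rw [mem_filter, this, mem_singleton, mem_singleton] at hx
    obtain ⟨rfl, h'⟩ := hx
    rw [sub_self] at h'
    exact hB1 (by rw [hB, ← h', r_zero])
  · have hτX : 3 • six m n ∉ 𝔖.X B := by
      intro hmem
      obtain ⟨k, hk, -, hko⟩ := hlow.high hmem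
      rw [tau_order hmO] at hko
      have : 2 ^ 2 ≤ 2 ^ k := Nat.pow_le_pow_right two_pos hk
      omega
    refine 𝔖.no_low_two hmO hm hR hB1 hx0two hτX ⟨x0, hx0X, hx0⟩ ?_ hc2a htwoc hca
    by_contra hle
    have h1 := 𝔖.triangle_self (s := B) ha0
    have h2 : (1 : ℤ) ≤ ∑ y ∈ 𝔖.X B, (𝔖.xx B y : ℤ) :=
      (show (1 : ℤ) ≤ 𝔖.xx B y0 by exact_mod_cast hy0pos).trans
        (single_le_sum (f := fun y => (𝔖.xx B y : ℤ)) (fun y _ => Int.natCast_nonneg _) hy0)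
    have h3 : 𝔖.p B B + 2 ≤ c := htwoc
    have ha2 : a = 2 ∧ c = 3 := by omega
    rw [← ha, ← hc, ha2.1, ha2.2] at h1
    rw [ha2.2] at h3
    push_cast at h1 h3
    linarith

end Scheme

end Cfsg.Agent.DihedralBGroup
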